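import Mathlib
import Cfsg.Agent.LieRecognition.SzMatrix

/-!
# The Suzuki groups by elements `u a b`, `d k`, `w` and their relations

`SzRel.Rel J F` is a parametrisation of a group `J` by the Bruhat decomposition of `Sz(F)`. All facts on the Sylow
2-subgroup and its normaliser are proved from it.
-/

set_option autoImplicit false

namespace Cfsg.Agent.ThreePrime.SzRel

open Cfsg.Agent.LieRecognition

/-- A parametrisation of `J` as a Suzuki group over `F`. -/
structure Rel (J : Type*) [Group J] (F : Type*) [Field F] where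
  θ : F →+* F
  two : (2 : F) = 0
  sq : ∀ x, θ (θ x) = x ^ 2
  u : F → F → J
  d : Fˣ → J
  w : J
  u_mul : ∀ a b c e, u a b * u c e = u (a + c) (b + e + a * θ c)
  u_inj : ∀ {a b c e}, u a b = u c e → a = c ∧ b = e
  d_mul : ∀ k l, d k * d l = d (k * l)
  d_mul_u : ∀ (k : Fˣ) a b, d k * u a b = u (a * k ^ 2 * (θ k)⁻¹) (b * θ k) * d k
  w_mul_w : w * w = 1
  w_mul_d : ∀ k, w * d k = d k⁻¹ * w
  ud_inj : ∀ {a b c e} {k l : Fˣ}, u a b * d k = u c e * d l → a = c ∧ b = e ∧ k = l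
  w_ne : ∀ a b k, w ≠ u a b * d k
  bruhat : ∀ g, (∃ a b k, g = u a b * d k) ∨ ∃ a b c e k, g = u a b * w * (u c e * d k)
  inter : ∀ a b c e k, w * u a b * w = u c e * d k → a = 0 ∧ b = 0

/-- transport of a parametrisation along an isomorphism -/
def Rel.map {J K : Type*} [Group J] [Group K] {F : Type*} [Field F] (R : Rel J F) (f : J ≃* K) : Rel K F where
  θ := R.θ
  two := R.two
  sq := R.sq
  u a b := f (R.u a b)
  d k := f (R.d k)
  w := f R.w
  u_mul a b c e := by rw [← map_mul, R.u_mul]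
  u_inj h := R.u_inj (f.injective h)
  d_mul k l := by rw [← map_mul, R.d_mul]
  d_mul_u k a b := by rw [← map_mul, ← map_mul, R.d_mul_u]
  w_mul_w := by rw [← map_mul, R.w_mul_w, map_one]
  w_mul_d k := by rw [← map_mul, ← map_mul, R.w_mul_d]
  ud_inj h := by
    rw [← map_mul, ← map_mul] at h
    exact R.ud_inj (f.injective h)
  w_ne a b k h := by
    rw [← map_mul] at h
    exact R.w_ne a b k (f.injective h)
  bruhat g := by
    rcases R.bruhat (f.symm g) with ⟨a, b, k, h⟩ | ⟨a, b, c, e, k, h⟩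
    · left
      refine ⟨a, b, k, ?_⟩
      rw [← map_mul, ← h, MulEquiv.apply_symm_apply]
    · right
      refine ⟨a, b, c, e, k, ?_⟩
      rw [← map_mul, ← map_mul, ← map_mul, ← h, MulEquiv.apply_symm_apply]
  inter a b c e k h := by
    rw [← map_mul, ← map_mul, ← map_mul] at h
    exact R.inter a b c e k (f.injective h)

/-- the parametrisation of the matrix group -/
noncomputable def ofGood {F : Type*} [Field F] {θ : F →+* F} {e : ℕ} (H : SzMatrix.Good F θ e) :
    Rel ↥(Cfsg.Lie.Sz F e) F where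
  θ := θ
  two := H.two
  sq := H.sq
  u := H.u
  d := H.d
  w := H.w
  u_mul := H.u_mul
  u_inj := H.u_inj
  d_mul := H.d_mul
  d_mul_u := H.d_mul_u
  w_mul_w := H.w_mul_w
  w_mul_d := H.w_mul_d
  ud_inj := H.u_mul_d_inj
  w_ne a b k h := H.w_not_mem_borel (by
    rw [h]
    exact (H.mem_borel_iff' _).2 ⟨a, b, k, rfl⟩)
  bruhat g := by
    rcases H.bruhat g.2 with ⟨a, b, k, h⟩ | ⟨a, b, c, e, k, h⟩
    · left
      exact ⟨a, b, k, Subtype.ext h⟩
    · right
      exact ⟨a, b, c, e, k, Subtype.ext h⟩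
  inter a b c e k h := by
    have h1 : H.u a b = 1 := by
      refine H.inter_trivial _ (H.u_mem_unip a b) ?_
      rw [H.w_inv, h]
      exact (H.mem_borel_iff' _).2 ⟨c, e, k, rfl⟩
    rw [← H.u_zero] at h1
    exact H.u_inj h1

theorem exists_rel {J : Type*} [Group J] (h : Cfsg.Lie.IsoSuzuki J) :
    ∃ (F : Type) (_ : Field F) (_ : Fintype F) (m : ℕ), 1 ≤ m ∧ Fintype.card F = 2 ^ (2 * m + 1) ∧
      Nonempty (Rel J F) := by
  obtain ⟨F, iF, iF', m, hm, hc, ⟨f⟩⟩ := h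
  exact ⟨F, iF, iF', m, hm, hc, ⟨(ofGood (SzMatrix.good hc)).map f.symm⟩⟩

variable {J : Type*} [Group J] {F : Type*} [Field F]

namespace Rel

variable (R : Rel J F)

include R in
theorem add_self (x : F) : x + x = 0 := by
  linear_combination x * R.two

include R in
theorem neg_eq (x : F) : -x = x := by
  linear_combination (-x) * R.two

theorem u_zero : R.u 0 0 = 1 := by
  have h := R.u_mul 0 0 0 0
  simp only [add_zero, zero_mul] at h
  exact mul_eq_left.mp h

theorem d_one : R.d 1 = 1 := by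
  have h := R.d_mul 1 1
  rw [mul_one] at h
  exact mul_eq_left.mp h

theorem d_inj {k l : Fˣ} (h : R.d k = R.d l) : k = l := by
  have h2 : R.u 0 0 * R.d k = R.u 0 0 * R.d l := by rw [h]
  exact (R.ud_inj h2).2.2

theorem d_inv (k : Fˣ) : (R.d k)⁻¹ = R.d k⁻¹ := by
  rw [inv_eq_iff_mul_eq_one, R.d_mul, mul_inv_cancel, R.d_one]

theorem u_inv (a b : F) : (R.u a b)⁻¹ = R.u a (b + a * R.θ a) := by
  rw [inv_eq_iff_mul_eq_one, R.u_mul, ← R.u_zero]
  congr 1
  · exact R.add_self a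
  · linear_combination (b + a * R.θ a) * R.two

theorem w_inv : (R.w)⁻¹ = R.w := inv_eq_of_mul_eq_one_right R.w_mul_w

theorem theta_ne_zero (k : Fˣ) : R.θ (k : F) ≠ 0 := by
  intro h
  exact k.ne_zero ((map_eq_zero R.θ).mp h)

theorem conj_d (k : Fˣ) (a b : F) :
    R.d k * R.u a b * (R.d k)⁻¹ = R.u (a * k ^ 2 * (R.θ k)⁻¹) (b * R.θ k) := by
  rw [R.d_mul_u, mul_inv_cancel_right]

theorem conj_u (a b c e : F) :
    R.u a b * R.u c e * (R.u a b)⁻¹ = R.u c (e + a * R.θ c + c * R.θ a) := by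
  rw [mul_inv_eq_iff_eq_mul, R.u_mul, R.u_mul]
  congr 1
  · ring
  · linear_combination (- c * R.θ a) * R.two

theorem fix_theta {x : F} (h : R.θ x = x) : x = 0 ∨ x = 1 := by
  have h1 := R.sq x
  rw [h, h] at h1
  have h2 : x * (x - 1) = 0 := by linear_combination -h1
  rcases mul_eq_zero.mp h2 with h3 | h3
  · exact Or.inl h3
  · exact Or.inr (sub_eq_zero.mp h3)

/-- the unipotent subgroup -/
def T : Subgroup J where
  carrier := {g | ∃ a b : F, g = R.u a b}
  mul_mem' := by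
    rintro g h ⟨a, b, rfl⟩ ⟨c, e, rfl⟩
    exact ⟨_, _, R.u_mul _ _ _ _⟩
  one_mem' := ⟨0, 0, R.u_zero.symm⟩
  inv_mem' := by
    rintro g ⟨a, b, rfl⟩
    exact ⟨_, _, R.u_inv _ _⟩

/-- the torus -/
def D : Subgroup J where
  carrier := {g | ∃ k : Fˣ, g = R.d k}
  mul_mem' := by
    rintro g h ⟨a, rfl⟩ ⟨c, rfl⟩
    exact ⟨_, R.d_mul _ _⟩
  one_mem' := ⟨1, R.d_one.symm⟩
  inv_mem' := by
    rintro g ⟨a, rfl⟩
    exact ⟨_, R.d_inv _⟩

theorem mem_T (g : J) : g ∈ R.T ↔ ∃ a b : F, g = R.u a b := Iff.rfl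

theorem mem_D (g : J) : g ∈ R.D ↔ ∃ k : Fˣ, g = R.d k := Iff.rfl

theorem u_mem (a b : F) : R.u a b ∈ R.T := ⟨a, b, rfl⟩

theorem d_mem (k : Fˣ) : R.d k ∈ R.D := ⟨k, rfl⟩

theorem u_mul_self (a b : F) : R.u a b * R.u a b = R.u 0 (a * R.θ a) := by
  rw [R.u_mul, R.add_self, R.add_self, zero_add]

theorem pow_four {x : J} (hx : x ∈ R.T) : x ^ 4 = 1 := by
  obtain ⟨a, b, rfl⟩ := hx
  have h1 : R.u a b ^ 4 = (R.u a b * R.u a b) * (R.u a b * R.u a b) := by
    rw [← pow_two, ← pow_two, ← pow_mul]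
  rw [h1, R.u_mul_self, R.u_mul_self, zero_mul, R.u_zero]

theorem isPGroup : IsPGroup 2 R.T := by
  intro g
  refine ⟨2, ?_⟩
  apply Subtype.ext
  exact R.pow_four g.2

theorem u_sq_iff (a b : F) : R.u a b * R.u a b = 1 ↔ a = 0 := by
  rw [R.u_mul_self, ← R.u_zero]
  constructor
  · intro h
    rcases mul_eq_zero.mp (R.u_inj h).2 with h1 | h1
    · exact h1
    · exact (map_eq_zero R.θ).mp h1
  · rintro rfl
    rw [zero_mul]

theorem conj_ud_mem {a b : F} {k : Fˣ} {x : J} (hx : x ∈ R.T) :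
    (R.u a b * R.d k) * x * (R.u a b * R.d k)⁻¹ ∈ R.T := by
  obtain ⟨c, e, rfl⟩ := hx
  have h1 : (R.u a b * R.d k) * R.u c e * (R.u a b * R.d k)⁻¹ =
      R.u a b * (R.d k * R.u c e * (R.d k)⁻¹) * (R.u a b)⁻¹ := by group
  rw [h1, R.conj_d, R.conj_u]
  exact R.u_mem _ _

theorem ud_mem_normalizer (a b : F) (k : Fˣ) : R.u a b * R.d k ∈ Subgroup.normalizer (R.T : Set J) := by
  rw [Subgroup.mem_normalizer_iff]
  intro x
  constructor
  · intro hx
    exact R.conj_ud_mem hx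
  · intro hx
    have h1 : (R.u a b * R.d k)⁻¹ = R.u (a * (k⁻¹ : Fˣ) ^ 2 * (R.θ (k⁻¹ : Fˣ))⁻¹)
        ((b + a * R.θ a) * R.θ (k⁻¹ : Fˣ)) * R.d k⁻¹ := by
      rw [_root_.mul_inv_rev, R.d_inv, R.u_inv, R.d_mul_u]
    have h2 : x = (R.u a b * R.d k)⁻¹ * ((R.u a b * R.d k) * x * (R.u a b * R.d k)⁻¹) *
        ((R.u a b * R.d k)⁻¹)⁻¹ := by group
    rw [h2, h1]
    rw [h1] at hx
    exact R.conj_ud_mem hx

/-- the key fact: an element moving a nontrivial element of `T` into `T` is in the Borel subgroup -/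
theorem exists_ud {g x : J} (hx : x ∈ R.T) (hx1 : x ≠ 1) (h : g * x * g⁻¹ ∈ R.T) :
    ∃ a b k, g = R.u a b * R.d k := by
  rcases R.bruhat g with h1 | ⟨a, b, c, e, k, h1⟩
  · exact h1
  · exfalso
    have h2 : (R.u c e * R.d k) * x * (R.u c e * R.d k)⁻¹ ∈ R.T := R.conj_ud_mem hx
    obtain ⟨a', b', h3⟩ := h2
    have h4 : g * x * g⁻¹ = R.u a b * (R.w * R.u a' b' * R.w) * (R.u a b)⁻¹ := by
      rw [← h3, h1]
      simp only [_root_.mul_inv_rev, R.w_inv]
      group
    obtain ⟨c', e', h5⟩ := h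
    rw [h4] at h5
    have h6 : R.w * R.u a' b' * R.w = (R.u a b)⁻¹ * R.u c' e' * R.u a b := by
      rw [← h5]; group
    obtain ⟨a'', b'', h7⟩ : (R.u a b)⁻¹ * R.u c' e' * R.u a b ∈ R.T :=
      mul_mem (mul_mem (inv_mem (R.u_mem _ _)) (R.u_mem _ _)) (R.u_mem _ _)
    rw [h7] at h6
    have h8 := R.inter a' b' a'' b'' 1 (by rw [h6, R.d_one, mul_one])
    rw [h8.1, h8.2, R.u_zero] at h3
    apply hx1
    have h9 : x = (R.u c e * R.d k)⁻¹ * ((R.u c e * R.d k) * x * (R.u c e * R.d k)⁻¹) * (R.u c e * R.d k) := by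
      group
    rw [h9, h3]
    group

theorem ti {g x : J} (hx : x ∈ R.T) (hx1 : x ≠ 1) (h : g * x * g⁻¹ ∈ R.T) :
    g ∈ Subgroup.normalizer (R.T : Set J) := by
  obtain ⟨a, b, k, rfl⟩ := R.exists_ud hx hx1 h
  exact R.ud_mem_normalizer a b k

theorem u_ne_one {a b : F} (h : b ≠ 0) : R.u a b ≠ 1 := by
  intro h1
  rw [← R.u_zero] at h1
  exact h (R.u_inj h1).2

theorem norm {g : J} (hg : g ∈ Subgroup.normalizer (R.T : Set J)) : ∃ a b k, g = R.u a b * R.d k := by
  refine R.exists_ud (R.u_mem 0 1) (R.u_ne_one one_ne_zero) ?_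
  rw [Subgroup.mem_normalizer_iff] at hg
  exact (hg _).1 (R.u_mem 0 1)

theorem D_le : R.D ≤ Subgroup.normalizer (R.T : Set J) := by
  rintro g ⟨k, rfl⟩
  have h := R.ud_mem_normalizer 0 0 k
  rwa [R.u_zero, one_mul] at h

theorem w_not_mem_normalizer : R.w ∉ Subgroup.normalizer (R.T : Set J) := by
  intro h
  obtain ⟨a, b, k, h1⟩ := R.norm h
  exact R.w_ne a b k h1

theorem fpf {k : Fˣ} {a b : F} (h : R.d k * R.u a b * (R.d k)⁻¹ = R.u a b) : k = 1 ∨ (a = 0 ∧ b = 0) := by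
  rw [R.conj_d] at h
  obtain ⟨h1, h2⟩ := R.u_inj h
  by_cases hb : b = 0
  · by_cases ha : a = 0
    · exact Or.inr ⟨ha, hb⟩
    · left
      have h3 : (k : F) ^ 2 * (R.θ k)⁻¹ = 1 := by
        apply mul_left_cancel₀ ha
        rw [← mul_assoc, h1, mul_one]
      have h4 : (k : F) ^ 2 = R.θ k := by
        rw [mul_inv_eq_one₀ (R.theta_ne_zero k)] at h3
        exact h3
      rw [← R.sq] at h4
      rcases R.fix_theta h4 with h5 | h5
      · exact absurd h5 (R.theta_ne_zero k)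
      · have h6 : (k : F) = 1 := by
          apply R.θ.injective
          rw [h5, map_one]
        exact Units.ext h6
  · left
    have h3 : R.θ k = 1 := by
      apply mul_left_cancel₀ hb
      rw [h2, mul_one]
    have h6 : (k : F) = 1 := by
      apply R.θ.injective
      rw [h3, map_one]
    exact Units.ext h6

/-- `N(T) ∩ N(T ^ w) = D` -/
theorem mem_D_of {g : J} (h1 : g ∈ Subgroup.normalizer (R.T : Set J))
    (h2 : R.w * g * R.w ∈ Subgroup.normalizer (R.T : Set J)) : g ∈ R.D := by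
  obtain ⟨a, b, k, rfl⟩ := R.norm h1
  obtain ⟨c, e, l, h3⟩ := R.norm h2
  have h4 : R.w * (R.u a b * R.d k) * R.w = (R.w * R.u a b * R.w) * R.d k⁻¹ := by
    have : R.d k * R.w = R.w * R.d k⁻¹ := by rw [R.w_mul_d, inv_inv]
    rw [mul_assoc, mul_assoc (R.u a b), this]
    simp only [mul_assoc]
  rw [h4] at h3
  have h5 : R.w * R.u a b * R.w = R.u c e * R.d (l * k) := by
    rw [← R.d_mul, ← mul_assoc (R.u c e), ← h3, mul_assoc _ (R.d k⁻¹), R.d_mul, inv_mul_cancel, R.d_one,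
      mul_one]
  obtain ⟨rfl, rfl⟩ := R.inter _ _ _ _ _ h5
  rw [R.u_zero, one_mul]
  exact R.d_mem k

/-- elements commuting with all of `T` and more generally centralisers in `T` -/
theorem comm_iff (a b c e : F) : R.u a b * R.u c e = R.u c e * R.u a b ↔ a * R.θ c = c * R.θ a := by
  rw [R.u_mul, R.u_mul]
  constructor
  · intro h
    have := (R.u_inj h).2
    linear_combination this
  · intro h
    congr 1
    · ring
    · linear_combination h

section finite

variable [Finite F]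

theorem theta_surj : Function.Surjective R.θ := Finite.surjective_of_injective R.θ.injective

theorem exists_mul_theta (x : Fˣ) : ∃ k : Fˣ, (k : F) * R.θ k = x := by
  let f : Fˣ →* Fˣ :=
    { toFun := fun k => k * Units.map (R.θ : F →* F) k
      map_one' := by simp
      map_mul' := by
        intro k l
        rw [map_mul]
        exact mul_mul_mul_comm _ _ _ _ }
  have hf : Function.Injective f := by
    rw [injective_iff_map_eq_one]
    intro k hk
    have h1 : (k : F) * R.θ k = 1 := congrArg Units.val hk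
    have h2 : R.θ k * R.θ (R.θ k) = 1 := by
      rw [← map_mul, h1, map_one]
    rw [R.sq] at h2
    apply Units.ext
    have h3 : (k : F) = 1 := by
      linear_combination (- (k : F)) * h1 + h2
    exact h3
  obtain ⟨k, hk⟩ := Finite.surjective_of_injective hf x
  exact ⟨k, congrArg Units.val hk⟩

theorem exists_sq_div (x : Fˣ) : ∃ k : Fˣ, (k : F) ^ 2 * (R.θ k)⁻¹ = x := by
  obtain ⟨k, hk⟩ := R.exists_mul_theta x
  -- take `l` with `θ l = k θ k`, i.e. `l = θ(k) k^2 ...`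
  obtain ⟨l, hl⟩ := R.theta_surj (x * R.θ x)
  have hl0 : l ≠ 0 := by
    rintro rfl
    rw [map_zero] at hl
    rcases mul_eq_zero.mp hl.symm with h | h
    · exact x.ne_zero h
    · exact R.theta_ne_zero x h
  refine ⟨Units.mk0 l hl0, ?_⟩
  rw [Units.val_mk0, hl, ← R.sq, hl, map_mul, R.sq]
  have h1 := x.ne_zero
  have h2 := R.theta_ne_zero x
  field_simp

end finite

end Rel

end Cfsg.Agent.ThreePrime.SzRel
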