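import Mathlib
import Cfsg.Agent.ThreePrime.SzRel

/-!
# Elementary facts on the Sylow 2-subgroup of `Sz(F)` and its normaliser
-/

set_option autoImplicit false

open scoped commutatorElement

namespace Cfsg.Agent.ThreePrime.SzRel

variable {J : Type*} [Group J] {F : Type*} [Field F]

namespace Rel

variable (R : Rel J F)

/-- the torus as the image of `Fˣ` -/
noncomputable def unitsEquiv : Fˣ ≃ R.D :=
  Equiv.ofBijective (fun k => ⟨R.d k, R.d_mem k⟩) (by
    constructor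
    · intro k l h
      exact R.d_inj (congrArg Subtype.val h)
    · rintro ⟨g, k, rfl⟩
      exact ⟨k, rfl⟩)

theorem card_D [Finite F] : Nat.card R.D = Nat.card F - 1 := by
  rw [← Nat.card_congr R.unitsEquiv, Nat.card_units]

section finite

variable [Fintype F] {m : ℕ}

theorem odd_D (hF : Fintype.card F = 2 ^ (2 * m + 1)) : Odd (Nat.card R.D) := by
  rw [R.card_D, Nat.card_eq_fintype_card, hF]
  have h1 : 2 ^ (2 * m + 1) = 2 * 2 ^ (2 * m) := by rw [pow_succ]; ring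
  have h2 : 1 ≤ 2 ^ (2 * m) := Nat.one_le_two_pow
  rw [h1]
  exact ⟨2 ^ (2 * m) - 1, by omega⟩

omit [Fintype F] in
theorem eight_le (hm : 1 ≤ m) : 8 ≤ 2 ^ (2 * m + 1) := by
  calc 8 = 2 ^ 3 := by norm_num
    _ ≤ 2 ^ (2 * m + 1) := Nat.pow_le_pow_right (by norm_num) (by omega)

omit [Field F] [Fintype F] in
/-- avoiding few elements -/
theorem exists_not_mem {F : Type*} [Finite F] (h8 : 8 ≤ Nat.card F) (s : Finset F) (hs : s.card ≤ 7) :
    ∃ x, x ∉ s := by
  classical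
  have := Fintype.ofFinite F
  by_contra h
  push Not at h
  have : s = Finset.univ := Finset.eq_univ_iff_forall.2 h
  rw [this, Finset.card_univ, ← Nat.card_eq_fintype_card] at hs
  omega

end finite

variable [Finite F]

theorem exists_theta_ne (h8 : 8 ≤ Nat.card F) : ∃ x : F, R.θ x ≠ x := by
  classical
  obtain ⟨x, hx⟩ := exists_not_mem h8 ({0, 1} : Finset F) (by
    calc ({0, 1} : Finset F).card ≤ 2 := Finset.card_le_two
      _ ≤ 7 := by norm_num)
  refine ⟨x, fun h => hx ?_⟩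
  rcases R.fix_theta h with h | h <;> simp [h]

theorem comm_all_iff (h8 : 8 ≤ Nat.card F) (a b : F) :
    (∀ y ∈ R.T, R.u a b * y = y * R.u a b) ↔ a = 0 := by
  constructor
  · intro h
    by_contra ha
    obtain ⟨x, hx⟩ := R.exists_theta_ne h8
    have h1 := (R.comm_iff a b 1 0).1 (h _ (R.u_mem _ _))
    have h2 := (R.comm_iff a b x 0).1 (h _ (R.u_mem _ _))
    rw [map_one, mul_one, one_mul] at h1
    rw [← h1] at h2
    apply hx
    apply mul_left_cancel₀ ha
    rw [h2, mul_comm]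
  · rintro rfl y ⟨c, e, rfl⟩
    rw [R.comm_iff]
    simp

theorem sq_iff (h8 : 8 ≤ Nat.card F) (x : J) (hx : x ∈ R.T) :
    (x * x = 1 ↔ ∀ y ∈ R.T, x * y = y * x) := by
  obtain ⟨a, b, rfl⟩ := hx
  rw [R.u_sq_iff, R.comm_all_iff h8]

omit [Finite F] in
theorem sq_sq (x : J) (hx : x ∈ R.T) : (x * x) * (x * x) = 1 := by
  have h := R.pow_four hx
  rw [← h]
  rw [← pow_two, ← pow_two, ← pow_mul]

theorem mem_center_iff (h8 : 8 ≤ Nat.card F) (x : J) :
    x ∈ R.T ⊓ Subgroup.centralizer (R.T : Set J) ↔ ∃ b, x = R.u 0 b := by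
  rw [Subgroup.mem_inf, Subgroup.mem_centralizer_iff]
  constructor
  · rintro ⟨⟨a, b, rfl⟩, h⟩
    have h1 : a = 0 := (R.comm_all_iff h8 a b).1 fun y hy => (h y hy).symm
    subst h1
    exact ⟨b, rfl⟩
  · rintro ⟨b, rfl⟩
    refine ⟨R.u_mem _ _, fun y hy => ?_⟩
    exact ((R.comm_all_iff h8 0 b).2 rfl y hy).symm

theorem comm_eq (h8 : 8 ≤ Nat.card F) : ⁅R.T, R.T⁆ = R.T ⊓ Subgroup.centralizer (R.T : Set J) := by
  apply le_antisymm
  · rw [Subgroup.commutator_le]
    rintro _ ⟨a, b, rfl⟩ _ ⟨c, e, rfl⟩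
    rw [R.mem_center_iff h8, commutatorElement_def, R.u_mul, R.u_inv, R.u_mul, R.u_inv, R.u_mul]
    refine ⟨_, congrArg₂ R.u ?_ rfl⟩
    linear_combination (a + c) * R.two
  · intro x hx
    obtain ⟨b, rfl⟩ := (R.mem_center_iff h8 x).1 hx
    by_cases hb : b = 0
    · subst hb
      rw [R.u_zero]
      exact one_mem _
    · obtain ⟨c, hc⟩ := R.exists_theta_ne h8
      have hc' : c + R.θ c ≠ 0 := by
        intro h
        apply hc
        linear_combination h - c * R.two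
      obtain ⟨k, hk⟩ := R.exists_mul_theta (Units.mk0 (b / (c + R.θ c)) (div_ne_zero hb hc'))
      rw [Units.val_mk0, eq_div_iff hc'] at hk
      have h1 : ⁅R.u (k : F) 0, R.u (k * c) 0⁆ = R.u 0 b := by
        rw [commutatorElement_def, mul_inv_eq_iff_eq_mul, mul_inv_eq_iff_eq_mul, R.u_mul, R.u_mul, R.u_mul]
        rw [← hk, map_mul]
        congr 1
        · ring
        · linear_combination (- (k : F) * R.θ k * c) * R.two
      rw [← h1]
      exact Subgroup.commutator_mem_commutator (R.u_mem _ _) (R.u_mem _ _)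

omit [Finite F] in
theorem abel (v : J) (hv : v ∈ R.T) (hv2 : v * v ≠ 1) (x : J) (hx : x ∈ R.T) (y : J) (hy : y ∈ R.T)
    (h1 : x * v = v * x) (h2 : y * v = v * y) : x * y = y * x := by
  obtain ⟨a, b, rfl⟩ := hv
  have ha : a ≠ 0 := fun h => hv2 ((R.u_sq_iff a b).2 h)
  have key : ∀ c e : F, R.u c e * R.u a b = R.u a b * R.u c e → c = 0 ∨ c = a := by
    intro c e h
    rw [R.comm_iff] at h
    have ht : R.θ a ≠ 0 := fun h' => ha ((map_eq_zero R.θ).mp h')
    have h3 : R.θ (c / a) = c / a := by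
      rw [map_div₀, div_eq_div_iff ht ha]
      linear_combination -h
    rcases R.fix_theta h3 with h4 | h4
    · left
      exact (div_eq_zero_iff.mp h4).resolve_right ha
    · right
      exact (div_eq_one_iff_eq ha).mp h4
  obtain ⟨c, e, rfl⟩ := hx
  obtain ⟨c', e', rfl⟩ := hy
  rw [R.comm_iff]
  rcases key c e h1 with h3 | h3 <;> rcases key c' e' h2 with h4 | h4 <;> simp [h3, h4]

theorem trans (z : J) (hz : z ∈ R.T) (z' : J) (hz' : z' ∈ R.T) (h1 : z ≠ 1) (h1' : z' ≠ 1)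
    (h2 : z * z = 1) (h2' : z' * z' = 1) : ∃ d ∈ R.D, d * z * d⁻¹ = z' := by
  obtain ⟨a, b, rfl⟩ := hz
  obtain ⟨a', b', rfl⟩ := hz'
  rw [R.u_sq_iff] at h2 h2'
  subst h2 h2'
  have hb : b ≠ 0 := by
    rintro rfl
    exact h1 R.u_zero
  have hb' : b' ≠ 0 := by
    rintro rfl
    exact h1' R.u_zero
  obtain ⟨k, hk⟩ := R.theta_surj (b' / b)
  have hk0 : k ≠ 0 := by
    rintro rfl
    rw [map_zero] at hk
    exact div_ne_zero hb' hb hk.symm
  refine ⟨R.d (Units.mk0 k hk0), R.d_mem _, ?_⟩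
  rw [R.conj_d, Units.val_mk0, hk]
  congr 1
  · ring
  · field_simp

omit [Finite F] in
theorem fpf' (x : J) (hx : x ∈ R.D) (y : J) (hy : y ∈ R.T) (h : x * y * x⁻¹ = y) : x = 1 ∨ y = 1 := by
  obtain ⟨k, rfl⟩ := hx
  obtain ⟨a, b, rfl⟩ := hy
  rcases R.fpf h with h1 | ⟨h1, h2⟩
  · left
    rw [h1, R.d_one]
  · right
    rw [h1, h2, R.u_zero]

theorem noform (h8 : 8 ≤ Nat.card F) {M : Type*} [CommGroup M] (f : J → J → M)
    (hl : ∀ x ∈ R.T, ∀ y ∈ R.T, ∀ z ∈ R.T, f (x * y) z = f x z * f y z)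
    (hr : ∀ x ∈ R.T, ∀ y ∈ R.T, ∀ z ∈ R.T, f x (y * z) = f x y * f x z)
    (hd : ∀ d ∈ R.D, ∀ x ∈ R.T, ∀ y ∈ R.T, f (d * x * d⁻¹) (d * y * d⁻¹) = f x y)
    (hl1 : ∀ x ∈ R.T, x * x = 1 → ∀ y ∈ R.T, f x y = 1)
    (hr1 : ∀ x ∈ R.T, x * x = 1 → ∀ y ∈ R.T, f y x = 1)
    (x : J) (hx : x ∈ R.T) (y : J) (hy : y ∈ R.T) : f x y = 1 := by
  classical
  -- the values do not depend on the second coordinate
  let G : F → F → M := fun a c => f (R.u a 0) (R.u c 0)
  have hu : ∀ a b : F, R.u a b = R.u a 0 * R.u 0 b := by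
    intro a b
    rw [R.u_mul]
    congr 1
    · ring
    · rw [map_zero]; ring
  have hu2 : ∀ b : F, R.u 0 b * R.u 0 b = 1 := fun b => (R.u_sq_iff 0 b).2 rfl
  have hG : ∀ a b c e : F, f (R.u a b) (R.u c e) = G a c := by
    intro a b c e
    rw [hu a b, hl _ (R.u_mem _ _) _ (R.u_mem _ _) _ (R.u_mem _ _), hl1 _ (R.u_mem 0 b) (hu2 b) _ (R.u_mem _ _),
      mul_one, hu c e, hr _ (R.u_mem _ _) _ (R.u_mem _ _) _ (R.u_mem _ _),
      hr1 _ (R.u_mem 0 e) (hu2 e) _ (R.u_mem _ _), mul_one]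
  have hGl : ∀ a a' c : F, G (a + a') c = G a c * G a' c := by
    intro a a' c
    have h1 := hl _ (R.u_mem a 0) _ (R.u_mem a' 0) _ (R.u_mem c 0)
    rw [R.u_mul, hG] at h1
    exact h1
  have hGr : ∀ a c c' : F, G a (c + c') = G a c * G a c' := by
    intro a c c'
    have h1 := hr _ (R.u_mem a 0) _ (R.u_mem c 0) _ (R.u_mem c' 0)
    rw [R.u_mul, hG] at h1
    exact h1
  have hGd : ∀ (l : Fˣ) (a c : F), G (a * l) (c * l) = G a c := by
    intro l a c
    obtain ⟨k, hk⟩ := R.exists_sq_div l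
    have h1 := hd _ (R.d_mem k) _ (R.u_mem a 0) _ (R.u_mem c 0)
    rw [R.conj_d, R.conj_d, hG, mul_assoc, mul_assoc, hk] at h1
    exact h1
  have hG0 : ∀ c : F, G 0 c = 1 := by
    intro c
    have := hGl 0 0 c
    rw [add_zero] at this
    exact mul_eq_left.mp this.symm
  have hG0' : ∀ a : F, G a 0 = 1 := by
    intro a
    have := hGr a 0 0
    rw [add_zero] at this
    exact mul_eq_left.mp this.symm
  -- the function of one variable
  have hg : ∀ a : F, a ≠ 0 → ∀ c : F, G a c = G 1 (c / a) := by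
    intro a ha c
    have h1 := hGd (Units.mk0 a ha) 1 (c / a)
    rw [Units.val_mk0, one_mul, div_mul_cancel₀ _ ha] at h1
    exact h1
  obtain ⟨t, ht⟩ := exists_not_mem h8 ({0, 1} ∪ (Polynomial.X ^ 2 + Polynomial.X + 1 : Polynomial F).roots.toFinset) (by
    refine (Finset.card_union_le _ _).trans ?_
    have h1 : ({0, 1} : Finset F).card ≤ 2 := Finset.card_le_two
    have h2 : (Polynomial.X ^ 2 + Polynomial.X + 1 : Polynomial F).roots.toFinset.card ≤ 2 := by
      refine (Multiset.toFinset_card_le _).trans ?_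
      refine (Polynomial.card_roots' _).trans ?_
      compute_degree
    omega)
  have hne : (Polynomial.X ^ 2 + Polynomial.X + 1 : Polynomial F) ≠ 0 := by
    intro h
    have := congrArg (fun p => Polynomial.eval 0 p) h
    simp at this
  simp only [Finset.mem_union, Finset.mem_insert, Finset.mem_singleton, Multiset.mem_toFinset, Polynomial.mem_roots hne,
    Polynomial.IsRoot.def, Polynomial.eval_add, Polynomial.eval_pow, Polynomial.eval_X, Polynomial.eval_one,
    not_or] at ht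
  obtain ⟨⟨ht0, ht1⟩, ht2⟩ := ht
  have ht1' : 1 + t ≠ 0 := by
    intro h
    apply ht1
    linear_combination h - R.two
  have hg1 : ∀ c : F, G 1 c = 1 := by
    intro c
    -- apply the relation to `c' = c * t * (1 + t) / (t ^ 2 + t + 1)`
    set c' : F := c * (t * (1 + t)) / (t ^ 2 + t + 1) with hc'
    have h1 := hGl 1 t c'
    rw [hg (1 + t) ht1' c', hg t ht0 c'] at h1
    have h2 : G 1 (c' / (1 + t) + (c' + c' / t)) = 1 := by
      rw [hGr, hGr, h1, ← hGr, ← hGr, R.add_self, hG0']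
    have h3 : c' / (1 + t) + (c' + c' / t) = c := by
      have e0 : c' * (t ^ 2 + t + 1) = c * (t * (1 + t)) := by
        rw [hc', div_mul_cancel₀ _ ht2]
      have e1 : c' / (1 + t) + (c' + c' / t) = (c' * t + c' * t * (1 + t) + c' * (1 + t)) / (t * (1 + t)) := by
        field_simp
        ring
      rw [e1, div_eq_iff (mul_ne_zero ht0 ht1')]
      linear_combination e0 + (c' * t) * R.two
    rwa [h3] at h2
  obtain ⟨a, b, rfl⟩ := hx
  obtain ⟨c, e, rfl⟩ := hy
  rw [hG]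
  by_cases ha : a = 0
  · rw [ha, hG0]
  · rw [hg a ha, hg1]

theorem card_center (h8 : 8 ≤ Nat.card F) [Finite J] :
    8 ≤ Nat.card (R.T ⊓ Subgroup.centralizer (R.T : Set J) : Subgroup J) := by
  refine h8.trans ?_
  refine Nat.card_le_card_of_injective
    (fun b : F => (⟨R.u 0 b, (R.mem_center_iff h8 _).2 ⟨b, rfl⟩⟩ :
      (R.T ⊓ Subgroup.centralizer (R.T : Set J) : Subgroup J))) ?_
  intro b c h
  exact (R.u_inj (congrArg Subtype.val h)).2

end Rel

end Cfsg.Agent.ThreePrime.SzRel
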