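import Mathlib
import Cfsg.Agent.ThreePrime.SzFacts

/-!
# Automorphisms of `2`-power order of `Sz(F)` are inner
-/

set_option autoImplicit false

namespace Cfsg.Agent.ThreePrime.SzRel

/-- field automorphisms of `2`-power order of the field with `2 ^ (2m+1)` elements are trivial -/
theorem fieldAut_eq {F : Type*} [Field F] [Fintype F] {m : ℕ} (hF : Fintype.card F = 2 ^ (2 * m + 1))
    (σ : F ≃+* F) (n : ℕ) (h : ∀ x, σ^[2 ^ n] x = x) (x : F) : σ x = x := by
  have hch : CharP F 2 := Cfsg.Agent.LieRecognition.SzMatrix.charP_two hF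
  let : Algebra (ZMod 2) F := ZMod.algebra F 2
  let τ : F ≃ₐ[ZMod 2] F := AlgEquiv.ofRingEquiv (f := σ) (fun r => by
    have : (σ : F →+* F).comp (algebraMap (ZMod 2) F) = algebraMap (ZMod 2) F := RingHom.ext_zmod _ _
    exact RingHom.congr_fun this r)
  have hτ : ∀ k : ℕ, ∀ x, (τ ^ k) x = σ^[k] x := by
    intro k
    induction k with
    | zero => intro x; rfl
    | succ k ih =>
      intro x
      rw [pow_succ', Function.iterate_succ_apply', ← ih]
      rfl
  have h1 : τ ^ 2 ^ n = 1 := by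
    ext x
    rw [hτ, h]
    rfl
  have h2 : orderOf τ ∣ 2 ^ n := orderOf_dvd_of_pow_eq_one h1
  have h3 : Nat.card (F ≃ₐ[ZMod 2] F) = Module.finrank (ZMod 2) F := IsGalois.card_aut_eq_finrank _ _
  have h4 : Fintype.card F = 2 ^ Module.finrank (ZMod 2) F := by
    have := Module.card_eq_pow_finrank (K := ZMod 2) (V := F)
    rwa [ZMod.card] at this
  have h5 : Module.finrank (ZMod 2) F = 2 * m + 1 := by
    rw [hF] at h4
    exact (Nat.pow_right_injective le_rfl h4).symm
  have h6 : orderOf τ ∣ 2 * m + 1 := by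
    rw [← h5, ← h3]
    exact orderOf_dvd_natCard τ
  have h7 : Nat.Coprime (2 ^ n) (2 * m + 1) := by
    apply Nat.Coprime.pow_left
    simp
  have h8 : orderOf τ = 1 := Nat.eq_one_of_dvd_coprimes h7 h2 h6
  have h9 : τ = 1 := orderOf_eq_one_iff.mp h8
  have : τ x = x := by rw [h9]; rfl
  exact this

variable {J : Type*} [Group J] {F : Type*} [Field F]

namespace Rel

variable (R : Rel J F)

/-- an automorphism which fixes `T` and `T ^ w` normalises `D` -/
theorem map_D {ψ : MulAut J} (h1 : ∀ x ∈ R.T, ψ x ∈ R.T)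
    (h2 : R.w * ψ R.w ∈ Subgroup.normalizer (R.T : Set J)) (k : Fˣ) : ψ (R.d k) ∈ R.D := by
  have hn : ∀ g ∈ Subgroup.normalizer (R.T : Set J), ψ g ∈ Subgroup.normalizer (R.T : Set J) := by
    intro g hg
    have h3 : ψ (g * R.u 0 1 * g⁻¹) ∈ R.T :=
      h1 _ ((Subgroup.mem_normalizer_iff.1 hg _).1 (R.u_mem 0 1))
    rw [map_mul, map_mul, map_inv] at h3
    refine R.ti (h1 _ (R.u_mem 0 1)) ?_ h3
    intro h4
    rw [← map_one ψ] at h4
    exact R.u_ne_one one_ne_zero (ψ.injective h4)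
  refine R.mem_D_of (hn _ (R.D_le (R.d_mem k))) ?_
  have h3 : R.w * ψ (R.d k) * R.w = (R.w * ψ R.w) * ψ (R.d k⁻¹) * (R.w * ψ R.w)⁻¹ := by
    have h4 : ψ (R.d k) = ψ R.w * ψ (R.d k⁻¹) * ψ R.w := by
      rw [← map_mul, ← map_mul]
      congr 1
      rw [R.w_mul_d, inv_inv, mul_assoc, R.w_mul_w, mul_one]
    have h5 : (ψ R.w)⁻¹ = ψ R.w := by rw [← map_inv, R.w_inv]
    rw [h4, _root_.mul_inv_rev, h5, R.w_inv]
    group
  rw [h3]
  exact mul_mem (mul_mem h2 (hn _ (R.D_le (R.d_mem _)))) (inv_mem h2)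

/-- an automorphism which centralises `T` and fixes `T ^ w` is trivial -/
theorem eq_one_of_fix {ψ : MulAut J} (h1 : ∀ x ∈ R.T, ψ x = x)
    (h2 : R.w * ψ R.w ∈ Subgroup.normalizer (R.T : Set J)) : ψ = 1 := by
  -- `ψ` moves every `g` inside its coset of `N(T)`
  have hn : ∀ g ∈ Subgroup.normalizer (R.T : Set J), ψ g ∈ Subgroup.normalizer (R.T : Set J) := by
    intro g hg
    have h3 : ψ (g * R.u 0 1 * g⁻¹) = g * R.u 0 1 * g⁻¹ :=
      h1 _ ((Subgroup.mem_normalizer_iff.1 hg _).1 (R.u_mem 0 1))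
    rw [map_mul, map_mul, map_inv, h1 _ (R.u_mem 0 1)] at h3
    refine R.ti (R.u_mem 0 1) (R.u_ne_one one_ne_zero) ?_
    rw [h3]
    exact (Subgroup.mem_normalizer_iff.1 hg _).1 (R.u_mem 0 1)
  have key : ∀ g : J, g⁻¹ * ψ g ∈ Subgroup.normalizer (R.T : Set J) := by
    intro g
    rcases R.bruhat g with ⟨a, b, k, h⟩ | ⟨a, b, c, e, k, h⟩
    · have hg : g ∈ Subgroup.normalizer (R.T : Set J) := by
        rw [h]
        exact R.ud_mem_normalizer a b k
      exact mul_mem (inv_mem hg) (hn g hg)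
    · have h3 : g⁻¹ * ψ g = (R.u c e * R.d k)⁻¹ * (R.w * ψ R.w) * ψ (R.u c e * R.d k) := by
        have hw : R.w * ψ R.w = (R.w)⁻¹ * ψ R.w := by rw [R.w_inv]
        rw [h, map_mul, map_mul, h1 _ (R.u_mem a b), hw]
        group
      rw [h3]
      exact mul_mem (mul_mem (inv_mem (R.ud_mem_normalizer c e k)) h2) (hn _ (R.ud_mem_normalizer c e k))
  -- hence `g⁻¹ ψ g` normalises all conjugates of `T`
  have key2 : ∀ g h : J, h⁻¹ * (g⁻¹ * ψ g) * h ∈ Subgroup.normalizer (R.T : Set J) := by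
    intro g h
    have h3 : h⁻¹ * (g⁻¹ * ψ g) * h = ((g * h)⁻¹ * ψ (g * h)) * (h⁻¹ * ψ h)⁻¹ := by
      rw [map_mul]
      group
    rw [h3]
    exact mul_mem (key _) (inv_mem (key _))
  ext g
  have h3 : g⁻¹ * ψ g ∈ R.D := by
    refine R.mem_D_of ?_ ?_
    · exact key g
    · have := key2 g R.w
      rwa [R.w_inv] at this
  obtain ⟨k, hk⟩ := h3
  have h4 : (R.u 0 1)⁻¹ * (g⁻¹ * ψ g) * R.u 0 1 ∈ R.D := by
    refine R.mem_D_of (key2 _ _) ?_
    have := key2 g (R.u 0 1 * R.w)
    rw [_root_.mul_inv_rev, R.w_inv] at this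
    have h5 : R.w * ((R.u 0 1)⁻¹ * (g⁻¹ * ψ g) * R.u 0 1) * R.w =
        R.w * (R.u 0 1)⁻¹ * (g⁻¹ * ψ g) * (R.u 0 1 * R.w) := by group
    rw [h5]
    exact this
  obtain ⟨l, hl⟩ := h4
  rw [hk] at hl
  -- `d k * u = u * d l`
  have h5 : R.d k * R.u 0 1 = R.u 0 1 * R.d l := by
    rw [← hl]
    group
  rw [R.d_mul_u] at h5
  obtain ⟨-, h6, -⟩ := R.ud_inj h5
  rw [one_mul] at h6
  have h7 : (k : F) = 1 := by
    apply R.θ.injective
    rw [h6, map_one]
  have h8 : k = 1 := Units.ext h7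
  rw [h8, R.d_one] at hk
  have := inv_mul_eq_one.mp hk
  exact this.symm

theorem pow_two_eq_one (R : Rel J F) {x : F} {n : ℕ} (h : x ^ 2 ^ n = 1) : x = 1 := by
  induction n with
  | zero => simpa using h
  | succ n ih =>
    apply ih
    rw [pow_succ, pow_mul] at h
    have h1 : (x ^ 2 ^ n - 1) ^ 2 = 0 := by
      linear_combination h - (x ^ 2 ^ n - 1) * R.two
    exact sub_eq_zero.mp (pow_eq_zero_iff (two_ne_zero) |>.mp h1)

/-- the core computation: an automorphism of `2`-power order which fixes `T` and `T ^ w` centralises `T` -/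
theorem centralises [Fintype F] {m : ℕ} (hm : 1 ≤ m) (hF : Fintype.card F = 2 ^ (2 * m + 1))
    {ψ : MulAut J} (h1 : ∀ x ∈ R.T, ψ x ∈ R.T)
    (h2 : R.w * ψ R.w ∈ Subgroup.normalizer (R.T : Set J)) {n : ℕ} (hψ : ψ ^ 2 ^ n = 1) :
    ∀ x ∈ R.T, ψ x = x := by
  have h8 : 8 ≤ Nat.card F := by
    rw [Nat.card_eq_fintype_card, hF]
    exact eight_le hm
  have hit : ∀ k : ℕ, ∀ x, (ψ ^ k) x = ψ^[k] x := by
    intro k
    induction k with
    | zero => intro x; rfl
    | succ k ih =>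
      intro x
      rw [pow_succ', Function.iterate_succ_apply', ← ih]
      rfl
  have hit1 : ∀ x, ψ^[2 ^ n] x = x := by
    intro x
    rw [← hit, hψ]
    rfl
  -- coordinates
  have hκ : ∀ k : Fˣ, ∃ l : Fˣ, ψ (R.d k) = R.d l := fun k => R.map_D h1 h2 k
  choose κ hκ using hκ
  have hβ : ∀ b : F, ∃ c : F, ψ (R.u 0 b) = R.u 0 c := by
    intro b
    obtain ⟨a, c, h⟩ := h1 _ (R.u_mem 0 b)
    have h3 : ψ (R.u 0 b) * ψ (R.u 0 b) = 1 := by
      rw [← map_mul, (R.u_sq_iff 0 b).2 rfl, map_one]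
    rw [h, R.u_sq_iff] at h3
    subst h3
    exact ⟨c, h⟩
  choose β hβ using hβ
  have hα : ∀ a : F, ∃ p : F × F, ψ (R.u a 0) = R.u p.1 p.2 := by
    intro a
    obtain ⟨x, y, h⟩ := h1 _ (R.u_mem a 0)
    exact ⟨(x, y), h⟩
  choose αγ hα using hα
  let α : F → F := fun a => (αγ a).1
  let γ : F → F := fun a => (αγ a).2
  have hα : ∀ a, ψ (R.u a 0) = R.u (α a) (γ a) := hα
  have hu : ∀ a b : F, R.u a b = R.u a 0 * R.u 0 b := by
    intro a b
    rw [R.u_mul]
    congr 1
    · ring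
    · rw [map_zero]; ring
  have hαβ : ∀ a b, ψ (R.u a b) = R.u (α a) (γ a + β b) := by
    intro a b
    rw [hu, map_mul, hα, hβ, R.u_mul]
    congr 1
    · ring
    · rw [map_zero]; ring
  have hβadd : ∀ b c, β (b + c) = β b + β c := by
    intro b c
    have h3 : ψ (R.u 0 b * R.u 0 c) = ψ (R.u 0 (b + c)) := by
      congr 1
      rw [R.u_mul]
      congr 1
      · ring
      · ring
    rw [map_mul, hβ, hβ, hβ, R.u_mul] at h3
    have := (R.u_inj h3).2
    linear_combination -this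
  have hβd : ∀ (b : F) (k : Fˣ), β (b * R.θ k) = β b * R.θ (κ k) := by
    intro b k
    have h3 := congrArg ψ (R.conj_d k 0 b)
    rw [map_mul, map_mul, map_inv, hκ, hβ, R.conj_d, zero_mul, zero_mul, zero_mul, zero_mul, hβ] at h3
    exact (R.u_inj h3).2.symm
  have hβ0 : β 0 = 0 := by
    have := hβadd 0 0
    rw [add_zero] at this
    linear_combination -this
  have hβ1 : β 1 ≠ 0 := by
    intro h
    have h3 := hβ 1
    rw [h, R.u_zero, ← map_one ψ] at h3
    exact R.u_ne_one one_ne_zero (ψ.injective h3)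
  -- the field automorphism
  have hσθ : ∀ k : Fˣ, β (R.θ k) / β 1 = R.θ (κ k) := by
    intro k
    have := hβd 1 k
    rw [one_mul] at this
    rw [this, mul_div_cancel_left₀ _ hβ1]
  have hσmul : ∀ b c, β (b * c) / β 1 = (β b / β 1) * (β c / β 1) := by
    intro b c
    by_cases hc : c = 0
    · rw [hc, mul_zero, hβ0]; ring
    · obtain ⟨k, hk⟩ := R.theta_surj c
      have hk0 : k ≠ 0 := by
        rintro rfl
        rw [map_zero] at hk
        exact hc hk.symm
      have h3 := hβd b (Units.mk0 k hk0)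
      have h4 := hσθ (Units.mk0 k hk0)
      rw [Units.val_mk0, hk] at h3 h4
      rw [h3, h4]
      ring
  let σ₀ : F →+* F :=
    { toFun := fun b => β b / β 1
      map_one' := div_self hβ1
      map_mul' := hσmul
      map_zero' := by
        show β 0 / β 1 = 0
        rw [hβ0, zero_div]
      map_add' := fun b c => by
        show β (b + c) / β 1 = β b / β 1 + β c / β 1
        rw [hβadd, add_div] }
  have hσ₀ : Function.Bijective σ₀ :=
    ⟨σ₀.injective, Finite.surjective_of_injective σ₀.injective⟩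
  let σ : F ≃+* F := RingEquiv.ofBijective σ₀ hσ₀
  have hσ : ∀ b, σ b = β b / β 1 := fun b => rfl
  have hκit : ∀ (j : ℕ) (k : Fˣ), ψ^[j] (R.d k) = R.d (κ^[j] k) := by
    intro j
    induction j with
    | zero => intro k; rfl
    | succ j ih =>
      intro k
      rw [Function.iterate_succ_apply, hκ, ih, Function.iterate_succ_apply]
  have hσit : ∀ (j : ℕ) (k : Fˣ), σ^[j] (R.θ k) = R.θ (κ^[j] k) := by
    intro j
    induction j with
    | zero => intro k; rfl
    | succ j ih =>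
      intro k
      rw [Function.iterate_succ_apply, hσ, hσθ, ih, Function.iterate_succ_apply]
  have hσn : ∀ x, σ^[2 ^ n] x = x := by
    intro x
    by_cases hx : x = 0
    · rw [hx]
      exact Function.iterate_fixed (map_zero σ) _
    · obtain ⟨k, hk⟩ := R.theta_surj x
      have hk0 : k ≠ 0 := by
        rintro rfl
        rw [map_zero] at hk
        exact hx hk.symm
      have h3 := hκit (2 ^ n) (Units.mk0 k hk0)
      rw [hit1] at h3
      have h4 := hσit (2 ^ n) (Units.mk0 k hk0)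
      rw [← R.d_inj h3, Units.val_mk0, hk] at h4
      exact h4
  have hσ1 : ∀ x, σ x = x := fieldAut_eq hF σ n hσn
  have hκ1 : ∀ k, κ k = k := by
    intro k
    apply Units.ext
    apply R.θ.injective
    rw [← hσθ, ← hσ, hσ1]
  have hβ2 : ∀ b, β b = β 1 * b := by
    intro b
    have := hσ1 b
    rw [hσ, div_eq_iff hβ1] at this
    rw [this, mul_comm]
  have hβit : ∀ (j : ℕ) (b : F), ψ^[j] (R.u 0 b) = R.u 0 (β 1 ^ j * b) := by
    intro j
    induction j with
    | zero => intro b; simp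
    | succ j ih =>
      intro b
      rw [Function.iterate_succ_apply, hβ, hβ2, ih]
      congr 1
      ring
  have hβ3 : β 1 = 1 := by
    have h3 := hβit (2 ^ n) 1
    rw [hit1, mul_one] at h3
    exact R.pow_two_eq_one (R.u_inj h3).2.symm
  have hβ4 : ∀ b, β b = b := by
    intro b
    rw [hβ2, hβ3, one_mul]
  -- the action on `T / Z(T)`
  have hαd : ∀ (a : F) (k : Fˣ), α (a * k ^ 2 * (R.θ k)⁻¹) = α a * k ^ 2 * (R.θ k)⁻¹ ∧
      γ (a * k ^ 2 * (R.θ k)⁻¹) = γ a * R.θ k := by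
    intro a k
    have h3 := congrArg ψ (R.conj_d k a 0)
    rw [map_mul, map_mul, map_inv, hκ, hκ1, hα, R.conj_d, zero_mul, hα] at h3
    exact ⟨(R.u_inj h3).1.symm, (R.u_inj h3).2.symm⟩
  have hα2 : ∀ a, α a = α 1 * a := by
    intro a
    by_cases ha : a = 0
    · subst ha
      have h3 := hα 0
      rw [R.u_zero, map_one, ← R.u_zero] at h3
      rw [mul_zero, ← (R.u_inj h3).1]
    · obtain ⟨k, hk⟩ := R.exists_sq_div (Units.mk0 a ha)
      rw [Units.val_mk0] at hk
      have h3 := (hαd 1 k).1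
      rw [one_mul, mul_assoc, hk] at h3
      exact h3
  have hαit : ∀ (j : ℕ) (a b : F), ∃ c, ψ^[j] (R.u a b) = R.u (α 1 ^ j * a) c := by
    intro j
    induction j with
    | zero => intro a b; exact ⟨b, by simp⟩
    | succ j ih =>
      intro a b
      rw [Function.iterate_succ_apply, hαβ, hα2 a]
      obtain ⟨c, hc⟩ := ih (α 1 * a) (γ a + β b)
      refine ⟨c, ?_⟩
      rw [hc]
      congr 1
      ring
  have hα3 : α 1 = 1 := by
    obtain ⟨c, h3⟩ := hαit (2 ^ n) 1 0
    rw [hit1, mul_one] at h3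
    exact R.pow_two_eq_one (R.u_inj h3).1.symm
  have hα4 : ∀ a, α a = a := by
    intro a
    rw [hα2, hα3, one_mul]
  -- the cocycle
  have hγadd : ∀ a c, γ (a + c) = γ a + γ c := by
    intro a c
    have h3 := congrArg ψ (R.u_mul a 0 c 0)
    rw [map_mul, hα, hα, hαβ, R.u_mul, hα4, hα4, hβ4] at h3
    have := (R.u_inj h3).2
    linear_combination -this
  have hγ1 : ∀ x : F, γ x = γ 1 * (x * R.θ x) := by
    intro x
    by_cases hx : x = 0
    · subst hx
      have := hγadd 0 0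
      rw [add_zero] at this
      rw [map_zero, mul_zero, mul_zero]
      linear_combination -this
    · obtain ⟨k, hk⟩ := R.exists_sq_div (Units.mk0 x hx)
      rw [Units.val_mk0] at hk
      have h3 := (hαd 1 k).2
      rw [one_mul, hk] at h3
      rw [h3]
      congr 1
      rw [← hk, map_mul, map_inv₀, map_pow, R.sq]
      have h5 := R.theta_ne_zero k
      have h6 := k.ne_zero
      field_simp
  have hγ2 : γ 1 = 0 := by
    obtain ⟨x, hx⟩ := R.exists_theta_ne h8
    have h3 := hγadd 1 x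
    rw [hγ1 (1 + x), hγ1 x, map_add, map_one] at h3
    have h4 : γ 1 * (x + R.θ x) = 0 := by linear_combination h3
    rcases mul_eq_zero.mp h4 with h5 | h5
    · exact h5
    · exfalso
      apply hx
      linear_combination h5 - x * R.two
  rintro _ ⟨a, b, rfl⟩
  rw [hαβ, hα4, hβ4, hγ1, hγ2]
  congr 1
  ring

end Rel

end Cfsg.Agent.ThreePrime.SzRel
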