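import Mathlib
import Cfsg.Prelude.Def_Sz

/-!
# Abstract data on the Suzuki groups used in the analysis of groups of order prime to 3

`SzData J T D` collects the facts on `J = Sz(q)` (`T` a Sylow 2-subgroup, `D` a torus normalising `T`) which are
needed in the proof that simple groups of order prime to 3 have a strongly embedded subgroup.
-/

set_option autoImplicit false
set_option linter.dupNamespace false

namespace Cfsg.Agent.ThreePrime.SzData

universe u

/-- Facts on `J ≃* Sz(q)`, `q ≥ 8`: `T` is a Sylow 2-subgroup, `D` (of order `q - 1`) a complement of `T` in its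
normalizer. -/
structure SzData (J : Type u) [Group J] (T D : Subgroup J) : Prop where
  /-- `T` is a 2-group. -/
  two : IsPGroup 2 T
  /-- `T` is a TI-subgroup. -/
  ti : ∀ g x : J, x ∈ T → x ≠ 1 → g * x * g⁻¹ ∈ T → g ∈ Subgroup.normalizer (T : Set J)
  D_le : D ≤ Subgroup.normalizer (T : Set J)
  /-- `N(T) = T D`. -/
  norm : ∀ g ∈ Subgroup.normalizer (T : Set J), ∃ t ∈ T, ∃ d ∈ D, g = t * d
  odd : Odd (Nat.card D)
  /-- the involutions of `T` are central and the centre has exponent 2. -/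
  sq_iff : ∀ x ∈ T, (x * x = 1 ↔ ∀ y ∈ T, x * y = y * x)
  /-- squares are central, `T` has class two. -/
  sq_sq : ∀ x ∈ T, (x * x) * (x * x) = 1
  /-- the commutator subgroup of `T` is its centre. -/
  comm_eq : ⁅T, T⁆ = T ⊓ Subgroup.centralizer (T : Set J)
  /-- centralizers in `T` of elements of order 4 are abelian. -/
  abel : ∀ u ∈ T, u * u ≠ 1 → ∀ x ∈ T, ∀ y ∈ T, x * u = u * x → y * u = u * y → x * y = y * x
  /-- `D` is transitive on the involutions of `T`. -/
  trans : ∀ z ∈ T, ∀ z' ∈ T, z ≠ 1 → z' ≠ 1 → z * z = 1 → z' * z' = 1 → ∃ d ∈ D, d * z * d⁻¹ = z'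
  /-- `D` acts fixed point freely on `T`. -/
  fpf : ∀ d ∈ D, ∀ x ∈ T, d * x * d⁻¹ = x → d = 1 ∨ x = 1
  /-- there is no nontrivial `D`-invariant bilinear map on `T/Z(T)` with trivial action on the values. -/
  noform : ∀ (M : Type u) [CommGroup M] (f : J → J → M),
    (∀ x ∈ T, ∀ y ∈ T, ∀ z ∈ T, f (x * y) z = f x z * f y z) →
    (∀ x ∈ T, ∀ y ∈ T, ∀ z ∈ T, f x (y * z) = f x y * f x z) →
    (∀ d ∈ D, ∀ x ∈ T, ∀ y ∈ T, f (d * x * d⁻¹) (d * y * d⁻¹) = f x y) →
    (∀ x ∈ T, x * x = 1 → ∀ y ∈ T, f x y = 1) →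
    (∀ x ∈ T, x * x = 1 → ∀ y ∈ T, f y x = 1) →
    ∀ x ∈ T, ∀ y ∈ T, f x y = 1
  /-- `T` has at least 7 involutions. -/
  card : 8 ≤ Nat.card (T ⊓ Subgroup.centralizer (T : Set J) : Subgroup J)
  /-- automorphisms of `2`-power order are inner. -/
  inner : ∀ φ : MulAut J, (∃ n : ℕ, φ ^ 2 ^ n = 1) → ∃ j : J, φ = MulAut.conj j
  /-- automorphisms of odd order centralising `T` are trivial. -/
  cent : ∀ φ : MulAut J, Odd (orderOf φ) → (∀ x ∈ T, φ x = x) → φ = 1

end Cfsg.Agent.ThreePrime.SzData
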