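import Mathlib
import Cfsg.Prelude.Def_Local
import Cfsg.Agent.SignalizersComponents.CompBasic

/-!
# Automorphisms of a perfect group and of its central quotient
-/

set_option autoImplicit false

namespace Cfsg.Agent.ThreePrime.AutQuot

open Subgroup

variable {J : Type*} [Group J]

theorem map_center (φ : MulAut J) : (center J).map (φ : J ≃* J).toMonoidHom = center J := by
  have h : ∀ ψ : MulAut J, (center J).map (ψ : J ≃* J).toMonoidHom ≤ center J := by
    rintro ψ _ ⟨z, hz, rfl⟩
    rw [SetLike.mem_coe, mem_center_iff] at hz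
    rw [mem_center_iff]
    intro g
    have := congrArg (ψ : J ≃* J) (hz ((ψ : J ≃* J).symm g))
    simpa using this
  apply le_antisymm (h φ)
  intro z hz
  refine ⟨(φ : J ≃* J).symm z, ?_, by simp⟩
  have := h φ⁻¹
  exact this ⟨z, hz, rfl⟩

/-- The homomorphism `Aut(J) → Aut(J/Z(J))`. -/
def autQuot (J : Type*) [Group J] : MulAut J →* MulAut (J ⧸ center J) where
  toFun φ := QuotientGroup.congr (center J) (center J) φ (map_center φ)
  map_one' := by
    ext x
    obtain ⟨y, rfl⟩ := QuotientGroup.mk_surjective x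
    rfl
  map_mul' φ ψ := by
    ext x
    obtain ⟨y, rfl⟩ := QuotientGroup.mk_surjective x
    rfl

@[simp] theorem autQuot_mk (φ : MulAut J) (x : J) :
    autQuot J φ (QuotientGroup.mk x : J ⧸ center J) = QuotientGroup.mk (φ x) := rfl

theorem autQuot_conj (j : J) :
    autQuot J (MulAut.conj j) = MulAut.conj (QuotientGroup.mk j : J ⧸ center J) := by
  ext x
  obtain ⟨y, rfl⟩ := QuotientGroup.mk_surjective x
  rfl

theorem eq_one_of_autQuot_eq_one (hJ : Group.IsPerfect J) {φ : MulAut J} (h : autQuot J φ = 1) :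
    φ = 1 := by
  have h1 : ∀ j : J, φ j * j⁻¹ ∈ center J := by
    intro j
    have h2 : (QuotientGroup.mk (φ j) : J ⧸ center J) = QuotientGroup.mk j := by
      rw [← autQuot_mk, h]
      rfl
    rw [← QuotientGroup.eq_one_iff, QuotientGroup.mk_mul, h2, QuotientGroup.mk_inv, mul_inv_cancel]
  letI : CommGroup (center J) :=
    { (inferInstance : Group (center J)) with
      mul_comm := fun a b => Subtype.ext (mem_center_iff.1 b.2 a) }
  let f : J →* center J :=
    { toFun := fun j => ⟨φ j * j⁻¹, h1 j⟩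
      map_one' := by simp
      map_mul' := by
        intro j k
        apply Subtype.ext
        have hk := mem_center_iff.1 (h1 k) j⁻¹
        simp only [map_mul, mul_inv_rev, Subgroup.coe_mul]
        calc φ j * φ k * (k⁻¹ * j⁻¹) = φ j * ((φ k * k⁻¹) * j⁻¹) := by simp only [mul_assoc]
          _ = φ j * (j⁻¹ * (φ k * k⁻¹)) := by rw [← hk]
          _ = φ j * j⁻¹ * (φ k * k⁻¹) := by simp only [mul_assoc] }
  ext j
  have h3 := Cfsg.Agent.SignalizersComponents.CompBasic.hom_eq_one_of_perfect hJ f j
  have h4 : φ j * j⁻¹ = 1 := congrArg Subtype.val h3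
  rw [mul_inv_eq_one] at h4
  rw [h4]
  rfl

/-- If the induced automorphism of `J/Z(J)` is inner, so is the automorphism. -/
theorem eq_conj_of_autQuot_eq (hJ : Group.IsPerfect J) {φ : MulAut J} {j : J}
    (h : autQuot J φ = MulAut.conj (QuotientGroup.mk j : J ⧸ center J)) : φ = MulAut.conj j := by
  have h1 : autQuot J ((MulAut.conj j)⁻¹ * φ) = 1 := by
    rw [map_mul, map_inv, autQuot_conj, h, inv_mul_cancel]
  have h2 := eq_one_of_autQuot_eq_one hJ h1
  rwa [inv_mul_eq_one, eq_comm] at h2

end Cfsg.Agent.ThreePrime.AutQuot
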