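import Mathlib
import Cfsg.Prelude.Def_Local
import Cfsg.Prelude.Def_TwoFusion
import Cfsg.Agent.Lib.Cores
import Cfsg.Agent.S0542
import Cfsg.Agent.SignalizersComponents.CompBasic
import Cfsg.Agent.SignalizersComponents.Components
import Cfsg.Agent.ThreePrime.AutQuot
import Cfsg.Agent.ThreePrime.SzDataExists

/-!
# Components of Suzuki type

`X` is a finite group of order prime to 3 with trivial core all of whose simple sections are Suzuki groups.
-/

set_option autoImplicit false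

namespace Cfsg.Agent.ThreePrime.Comp

open Subgroup
open Cfsg
open Cfsg.Agent.ThreePrime.SzData
open Cfsg.Agent.ThreePrime.AutQuot
open Cfsg.Agent.SignalizersComponents.CompBasic
open Cfsg.Agent.SignalizersComponents.Components

universe u

/-- Nonabelian simple groups of order prime to 3 and at most `|X|` are Suzuki groups. -/
def SzSec (X : Type u) [Group X] : Prop :=
  ∀ (K : Type u) [Group K] [Finite K] [IsSimpleGroup K], (∃ a b : K, a * b ≠ b * a) →
    ¬ 3 ∣ Nat.card K → Nat.card K ≤ Nat.card X → Cfsg.Lie.IsoSuzuki K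

/-- Our hypothesis on `X`. -/
structure Hyp (X : Type u) [Group X] : Prop where
  sec : SzSec X
  three : ¬ 3 ∣ Nat.card X
  core : Cfsg.oddCore X = ⊥

variable {X : Type u} [Group X] [Finite X]

theorem isoSuzuki (h : Hyp X) {J : Subgroup X} (hJ : IsComponent J) :
    Cfsg.Lie.IsoSuzuki (J ⧸ center J) := by
  have hs : IsSimpleGroup (J ⧸ center J) := hJ.2.2
  have hp := hJ.2.1
  refine h.sec _ ?_ ?_ ?_
  · by_contra hcon
    push Not at hcon
    have hperf : Group.IsPerfect (J ⧸ center J) := inferInstance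
    have hab : IsMulCommutative (J ⧸ center J) := ⟨⟨hcon⟩⟩
    exact Group.IsPerfect.not_isMulCommutative _ hab
  · intro h3
    exact h.three ((h3.trans (card_quotient_dvd_card _)).trans (card_subgroup_dvd_card J))
  · exact Nat.le_of_dvd Nat.card_pos ((card_quotient_dvd_card _).trans (card_subgroup_dvd_card J))

/-- The image in `J/Z(J)` of the Sylow 2-subgroup `S ∩ J` of `J`. -/
noncomputable def Tq (S : Sylow 2 X) (J : Subgroup X) : Subgroup (J ⧸ center J) :=
  ((S : Subgroup X).subgroupOf J).map (QuotientGroup.mk' (center J))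

theorem exists_sylow (S : Sylow 2 X) {J : Subgroup X} (hJ : IsComponent J) :
    ∃ P : Sylow 2 (J ⧸ center J), (P : Subgroup (J ⧸ center J)) = Tq S J := by
  obtain ⟨Q, hQ⟩ := Cfsg.Agent.S0542.result 2 J hJ.1 S
  refine ⟨Q.mapSurjective (QuotientGroup.mk'_surjective (center J)), ?_⟩
  rw [Sylow.coe_mapSurjective, hQ]
  rfl

theorem exists_data (h : Hyp X) (S : Sylow 2 X) {J : Subgroup X} (hJ : IsComponent J) :
    ∃ D : Subgroup (J ⧸ center J), SzData (J ⧸ center J) (Tq S J) D := by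
  obtain ⟨P, hP⟩ := exists_sylow S hJ
  obtain ⟨D, hD⟩ := Cfsg.Agent.ThreePrime.SzRel.exists_szData (isoSuzuki h hJ) P
  exact ⟨D, hP ▸ hD⟩

/-- The centre of a component is a 2-group. -/
theorem center_two (h : Hyp X) {J : Subgroup X} (hJ : IsComponent J) : IsPGroup 2 (center J) := by
  have hnorm : (center J).IsSubnormal := (inferInstance : (center J).Normal).isSubnormal
  -- the odd part is trivial
  have key : ∀ z : J, z ∈ center J → Odd (orderOf z) → z = 1 := by
    intro z hz hodd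
    have hzn : (zpowers z).Normal := by
      refine ⟨?_⟩
      rintro _ ⟨k, rfl⟩ g
      have h1 : z ^ k ∈ center J := zpow_mem hz k
      have h2 := mem_center_iff.1 h1 g
      simp only [h2, mul_inv_cancel_right]
      exact ⟨k, rfl⟩
    have hsub : ((zpowers z).map J.subtype).IsSubnormal := (hzn.isSubnormal).trans' hJ.1
    have hle : (zpowers z).map J.subtype ≤ pPrimeCore 2 X := by
      apply subnormal_coprime_le_pPrimeCore hsub
      rw [card_map_of_injective J.subtype_injective, Nat.card_zpowers]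
      exact (Nat.coprime_two_left.2 hodd).symm
    have hc : pPrimeCore 2 X = ⊥ := h.core
    rw [hc, le_bot_iff, map_eq_bot_iff_of_injective _ J.subtype_injective,
      zpowers_eq_bot] at hle
    exact hle
  rintro ⟨z, hz⟩
  obtain ⟨k, m, hm, hkm⟩ := Nat.exists_eq_two_pow_mul_odd (orderOf_pos z).ne'
  refine ⟨k, ?_⟩
  apply Subtype.ext
  change z ^ 2 ^ k = 1
  apply key _ (pow_mem hz _)
  rw [orderOf_pow' _ (by positivity), hkm, Nat.gcd_eq_right (Dvd.intro _ rfl),
    Nat.mul_div_cancel_left _ (by positivity)]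
  exact hm

/-- Elements of `S` normalising a component `J` act on `J` as elements of `S ∩ J`. -/
theorem exists_inner (h : Hyp X) (S : Sylow 2 X) {J : Subgroup X} (hJ : IsComponent J) {x : X}
    (hxS : x ∈ (S : Subgroup X)) (hxJ : x ∈ normalizer (J : Set X)) :
    ∃ j ∈ J, j ∈ (S : Subgroup X) ∧ ∀ k ∈ J, x * k * x⁻¹ = j * k * j⁻¹ := by
  obtain ⟨D, hD⟩ := exists_data h S hJ
  set φ : MulAut J := J.normalizerMonoidHom ⟨x, hxJ⟩ with hφ
  obtain ⟨n, hn⟩ := S.isPGroup' ⟨x, hxS⟩
  have hxn : x ^ 2 ^ n = 1 := congrArg Subtype.val hn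
  have hφn : φ ^ 2 ^ n = 1 := by
    rw [hφ, ← map_pow]
    have : (⟨x, hxJ⟩ : normalizer (J : Set X)) ^ 2 ^ n = 1 := Subtype.ext hxn
    rw [this, map_one]
  obtain ⟨q, hq⟩ := hD.inner (autQuot J φ) ⟨n, by rw [← map_pow, hφn, map_one]⟩
  obtain ⟨j, rfl⟩ := QuotientGroup.mk_surjective q
  have hφj : φ = MulAut.conj j := eq_conj_of_autQuot_eq hJ.2.1 hq
  have hact : ∀ k ∈ J, x * k * x⁻¹ = j * k * (j : X)⁻¹ := by
    intro k hk
    have := congrArg (fun ψ : MulAut J => ((ψ ⟨k, hk⟩ : J) : X)) hφj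
    exact this
  -- `j` is a 2-element
  have hj2 : ∃ m : ℕ, j ^ 2 ^ m = 1 := by
    have h1 : j ^ 2 ^ n ∈ center J := by
      rw [mem_center_iff]
      intro g
      have h2 : MulAut.conj (j ^ 2 ^ n) = 1 := by rw [map_pow, ← hφj, hφn]
      have h3 : j ^ 2 ^ n * g * (j ^ 2 ^ n)⁻¹ = g := congrArg (fun ψ : MulAut J => ψ g) h2
      calc g * j ^ 2 ^ n = (j ^ 2 ^ n * g * (j ^ 2 ^ n)⁻¹) * j ^ 2 ^ n := by rw [h3]
        _ = j ^ 2 ^ n * g := by group
    obtain ⟨m, hm⟩ := center_two h hJ ⟨_, h1⟩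
    refine ⟨n + m, ?_⟩
    have h4 : (j ^ 2 ^ n) ^ 2 ^ m = 1 := congrArg Subtype.val hm
    rw [pow_add, pow_mul, h4]
  obtain ⟨Q, hQ⟩ := Cfsg.Agent.S0542.result 2 J hJ.1 S
  have hjN : j ∈ normalizer ((Q : Subgroup J) : Set J) := by
    rw [mem_normalizer_iff]
    intro k
    rw [hQ, mem_subgroupOf, mem_subgroupOf]
    have h5 : ((j * k * j⁻¹ : J) : X) = x * k * x⁻¹ := (hact k k.2).symm
    rw [h5]
    constructor
    · intro hk
      exact mul_mem (mul_mem hxS hk) (inv_mem hxS)
    · intro hk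
      have := mul_mem (mul_mem (inv_mem hxS) hk) hxS
      have e : x⁻¹ * (x * k * x⁻¹) * x = (k : X) := by group
      rwa [e] at this
  have hjQ : j ∈ (Q : Subgroup J) := by
    obtain ⟨m, hm⟩ := hj2
    have hZ : IsPGroup 2 (zpowers j) := by
      rintro ⟨_, k, rfl⟩
      refine ⟨m, ?_⟩
      apply Subtype.ext
      change (j ^ k) ^ 2 ^ m = 1
      rw [← zpow_natCast, ← zpow_mul, mul_comm, zpow_mul, zpow_natCast, hm, one_zpow]
    have h6 := hZ.inf_normalizer_sylow Q
    have h7 : j ∈ zpowers j ⊓ normalizer (Q : Set J) :=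
      ⟨mem_zpowers j, hjN⟩
    rw [h6] at h7
    exact h7.2
  refine ⟨j, j.2, ?_, hact⟩
  rw [hQ, mem_subgroupOf] at hjQ
  exact hjQ

end Cfsg.Agent.ThreePrime.Comp
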