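import Mathlib
import Cfsg.Agent.ThreePrime.Comp

/-!
# Strongly closed elementary abelian 2-subgroups and components of Suzuki type
-/

set_option autoImplicit false

namespace Cfsg.Agent.ThreePrime.AComp

open Subgroup
open Cfsg
open Cfsg.Agent.ThreePrime.SzData
open Cfsg.Agent.ThreePrime.AutQuot
open Cfsg.Agent.ThreePrime.Comp
open Cfsg.Agent.SignalizersComponents.CompBasic
open Cfsg.Agent.SignalizersComponents.Components

universe u

variable {X : Type u} [Group X]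

/-- `A` is an elementary abelian subgroup strongly closed in the Sylow 2-subgroup `S`. -/
structure SC (S : Sylow 2 X) (A : Subgroup X) : Prop where
  sc : IsStronglyClosed A (S : Subgroup X)
  sq : ∀ x ∈ A, x * x = 1
  comm : ∀ x ∈ A, ∀ y ∈ A, x * y = y * x

theorem SC.le {S : Sylow 2 X} {A : Subgroup X} (hA : SC S A) : A ≤ (S : Subgroup X) := hA.sc.1

theorem SC.mem {S : Sylow 2 X} {A : Subgroup X} (hA : SC S A) {x g : X} (hx : x ∈ A)
    (hg : g * x * g⁻¹ ∈ (S : Subgroup X)) : g * x * g⁻¹ ∈ A := hA.sc.2 x hx g hg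

theorem SC.conj_mem {S : Sylow 2 X} {A : Subgroup X} (hA : SC S A) {x s : X} (hx : x ∈ A)
    (hs : s ∈ (S : Subgroup X)) : s * x * s⁻¹ ∈ A :=
  hA.mem hx (mul_mem (mul_mem hs (hA.le hx)) (inv_mem hs))

theorem SC.inv_eq {S : Sylow 2 X} {A : Subgroup X} (hA : SC S A) {x : X} (hx : x ∈ A) : x⁻¹ = x :=
  inv_eq_of_mul_eq_one_left (hA.sq x hx)

variable [Finite X] {S : Sylow 2 X} {A J : Subgroup X}

/-- the preimage of `Tq` in `J` is `S ∩ J`. -/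
theorem mem_Tq (h : Hyp X) (hJ : IsComponent J) {y : J} :
    (QuotientGroup.mk y : J ⧸ center J) ∈ Tq S J ↔ (y : X) ∈ (S : Subgroup X) := by
  obtain ⟨Q, hQ⟩ := Cfsg.Agent.S0542.result 2 J hJ.1 S
  constructor
  · rintro ⟨t, ht, hty⟩
    have h1 : t⁻¹ * y ∈ center J := QuotientGroup.eq.1 hty
    have h2 : t⁻¹ * y ∈ (Q : Subgroup J) := by
      have h3 : center J ≤ pCore 2 J :=
        Cfsg.Agent.Lib.Cores.le_pCore inferInstance (center_two h hJ)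
      exact Cfsg.Agent.Lib.Cores.pCore_le_sylow Q (h3 h1)
    rw [hQ, mem_subgroupOf] at h2
    have h4 : (t : X) ∈ (S : Subgroup X) := ht
    have h5 := mul_mem h4 h2
    simpa using h5
  · intro hy
    exact ⟨y, hy, rfl⟩

/-- some square of an element of `S ∩ J` is not central in `J`. -/
theorem exists_sq_not_central (h : Hyp X) (hJ : IsComponent J) :
    ∃ y ∈ J, y ∈ (S : Subgroup X) ∧ ∃ k ∈ J, y * y * k ≠ k * (y * y) := by
  obtain ⟨D, hD⟩ := exists_data h S hJ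
  by_contra hcon
  push Not at hcon
  have h1 : ∀ t ∈ Tq S J, t * t = 1 := by
    rintro _ ⟨y, hy, rfl⟩
    have h2 : y * y ∈ center J := by
      rw [mem_center_iff]
      intro g
      exact Subtype.ext (hcon y y.2 hy g g.2).symm
    exact (QuotientGroup.eq_one_iff (y * y)).2 h2
  have h2 : Tq S J ≤ centralizer (Tq S J : Set (J ⧸ center J)) := by
    intro t ht
    rw [mem_centralizer_iff]
    intro s hs
    exact ((hD.sq_iff t ht).1 (h1 t ht) s hs).symm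
  have h3 : ⁅Tq S J, Tq S J⁆ = ⊥ := commutator_eq_bot_iff_le_centralizer.2 h2
  have h4 := hD.comm_eq
  have h5 := hD.card
  rw [← h4, h3] at h5
  simp at h5

/-- (2a) `A` normalises every component. -/
theorem mem_normalizer (h : Hyp X) (hA : SC S A) (hJ : IsComponent J) {x : X} (hx : x ∈ A) :
    x ∈ normalizer (J : Set X) := by
  by_contra hxJ
  set J' := J.map (MulAut.conj x).toMonoidHom with hJ'
  have hne : J ≠ J' := by
    intro he
    apply hxJ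
    rw [Subgroup.mem_normalizer_iff_map_conj_eq]
    exact he.symm
  have hcomm := component_commutator_eq_bot_of_ne hJ (isComponent_conj x hJ) hne
  rw [commutator_eq_bot_iff_le_centralizer] at hcomm
  obtain ⟨y, hyJ, hyS, k, hk, hne'⟩ := exists_sq_not_central (S := S) h hJ
  apply hne'
  set y' := x * y * x⁻¹ with hy'
  have hy'J : y' ∈ J' := ⟨y, hyJ, rfl⟩
  have hc1 : ∀ z ∈ J, ∀ w ∈ J', w * z = z * w := by
    intro z hz w hw
    exact mem_centralizer_iff.1 (hcomm hz) w hw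
  have hcA : y' * y⁻¹ ∈ A := by
    have h1 : y * x⁻¹ * y⁻¹ ∈ A := hA.conj_mem (inv_mem hx) hyS
    have h2 := mul_mem hx h1
    have e : x * (y * x⁻¹ * y⁻¹) = y' * y⁻¹ := by rw [hy']; group
    rwa [e] at h2
  have h1 := hA.sq _ hcA
  have h2 : y' * y' = y * y := by
    have h3 : y' * y⁻¹ = y⁻¹ * y' := hc1 _ (inv_mem hyJ) _ hy'J
    calc y' * y' = (y' * y⁻¹) * (y * y') := by group
      _ = (y' * y⁻¹) * (y' * y) := by rw [hc1 y hyJ y' hy'J]
      _ = (y' * y⁻¹) * (y' * y⁻¹) * (y * y) := by group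
      _ = y * y := by rw [h1, one_mul]
  rw [← h2]
  exact hc1 k hk _ (mul_mem hy'J hy'J)

/-- involutory action of elements of `A`. -/
theorem exists_elt (h : Hyp X) (hA : SC S A) (hJ : IsComponent J) {x : X} (hx : x ∈ A) :
    ∃ j : J, (j : X) ∈ (S : Subgroup X) ∧ (∀ k ∈ J, x * k * x⁻¹ = j * k * (j : X)⁻¹) ∧
      (QuotientGroup.mk j : J ⧸ center J) * QuotientGroup.mk j = 1 := by
  obtain ⟨j, hjJ, hjS, hj⟩ := exists_inner h S hJ (hA.le hx) (mem_normalizer h hA hJ hx)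
  refine ⟨⟨j, hjJ⟩, hjS, hj, ?_⟩
  rw [← QuotientGroup.mk_mul, QuotientGroup.eq_one_iff, mem_center_iff]
  rintro ⟨k, hk⟩
  apply Subtype.ext
  change k * (j * j) = j * j * k
  have h1 : x * (x * k * x⁻¹) * x⁻¹ = k := by
    calc x * (x * k * x⁻¹) * x⁻¹ = (x * x) * k * (x * x)⁻¹ := by
          simp only [mul_inv_rev, mul_assoc]
      _ = k := by rw [hA.sq x hx]; simp
  have h2 : x * k * x⁻¹ ∈ J :=
    (Subgroup.mem_normalizer_iff.1 (mem_normalizer h hA hJ hx) k).1 hk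
  rw [hj _ h2, hj k hk] at h1
  calc k * (j * j) = (j * (j * k * j⁻¹) * j⁻¹) * (j * j) := by rw [h1]
    _ = j * j * k := by group

/-- (2b) the elements of `A ∩ J` cover the involutions of `Z(T/Z(J))`, if `A` does not centralise `J`. -/
theorem exists_mem_inf (h : Hyp X) (hA : SC S A) (hJ : IsComponent J)
    (hAJ : ¬ A ≤ centralizer (J : Set X)) (q : J ⧸ center J) (hq : q ∈ Tq S J) (hq2 : q * q = 1) :
    ∃ b : J, (b : X) ∈ A ∧ (QuotientGroup.mk b : J ⧸ center J) = q := by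
  obtain ⟨D, hD⟩ := exists_data h S hJ
  obtain ⟨x, hx, hxJ⟩ : ∃ x ∈ A, x ∉ centralizer (J : Set X) := by
    by_contra hcon
    push Not at hcon
    exact hAJ hcon
  obtain ⟨j, hjS, hj, hj2⟩ := exists_elt h hA hJ hx
  set p : J ⧸ center J := QuotientGroup.mk j with hp
  have hpT : p ∈ Tq S J := (mem_Tq h hJ).2 hjS
  have hp1 : p ≠ 1 := by
    intro hp1
    apply hxJ
    rw [mem_centralizer_iff]
    intro k hk
    rw [hp, QuotientGroup.eq_one_iff, mem_center_iff] at hp1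
    have h1 : (j : X) * k * (j : X)⁻¹ = k := by
      have h2 := congrArg Subtype.val (hp1 ⟨k, hk⟩)
      have h2' : k * (j : X) = j * k := h2
      rw [← h2']; group
    rw [← hj k hk] at h1
    calc k * x = (x * k * x⁻¹) * x := by rw [h1]
      _ = x * k := by group
  -- the basic elements
  have key : ∀ r ∈ Tq S J, r ≠ 1 → r * r = 1 →
      ∃ b : J, (b : X) ∈ A ∧ (QuotientGroup.mk b : J ⧸ center J) = r * p⁻¹ := by
    intro r hr hr1 hr2
    obtain ⟨d, hdD, hd⟩ := hD.trans p hpT r hr hp1 hr1 hj2 hr2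
    obtain ⟨e, rfl⟩ := QuotientGroup.mk_surjective d
    have hw : (e : X) * x * (e : X)⁻¹ ∈ (S : Subgroup X) := by
      have h1 : (e : X) * x * (e : X)⁻¹ = ((e * j * e⁻¹ : J) : X) * ((j : X)⁻¹ * x) := by
        have h2 : ((j : X)⁻¹ * x) * (e : X)⁻¹ = (e : X)⁻¹ * ((j : X)⁻¹ * x) := by
          have h3 := hj (e : X)⁻¹ (inv_mem e.2)
          calc ((j : X)⁻¹ * x) * (e : X)⁻¹ = (j : X)⁻¹ * (x * (e : X)⁻¹ * x⁻¹) * x := by group
            _ = (j : X)⁻¹ * (j * (e : X)⁻¹ * (j : X)⁻¹) * x := by rw [h3]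
            _ = (e : X)⁻¹ * ((j : X)⁻¹ * x) := by group
        calc (e : X) * x * (e : X)⁻¹ = e * j * (((j : X)⁻¹ * x) * (e : X)⁻¹) := by group
          _ = e * j * ((e : X)⁻¹ * ((j : X)⁻¹ * x)) := by rw [h2]
          _ = ((e * j * e⁻¹ : J) : X) * ((j : X)⁻¹ * x) := by
              simp only [Subgroup.coe_mul, Subgroup.coe_inv, mul_assoc]
      rw [h1]
      refine mul_mem ?_ (mul_mem (inv_mem hjS) (hA.le hx))
      rw [← mem_Tq h hJ, QuotientGroup.mk_mul, QuotientGroup.mk_mul, QuotientGroup.mk_inv, ← hp, hd]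
      exact hr
    have hwA := hA.mem hx hw
    refine ⟨e * (j * e⁻¹ * j⁻¹), ?_, ?_⟩
    · have h3 := hj (e : X)⁻¹ (inv_mem e.2)
      have h4 : ((e * (j * e⁻¹ * j⁻¹) : J) : X) = ((e : X) * x * (e : X)⁻¹) * x⁻¹ := by
        simp only [Subgroup.coe_mul, Subgroup.coe_inv]
        rw [← h3]; group
      rw [h4]
      exact mul_mem hwA (inv_mem hx)
    · rw [← hd, hp]
      simp only [QuotientGroup.mk_mul, QuotientGroup.mk_inv, mul_assoc]
  have hcent : ∀ r ∈ Tq S J, r * r = 1 → ∀ s ∈ Tq S J, r * s = s * r := fun r hr hr2 =>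
    (hD.sq_iff r hr).1 hr2
  have hgen : ∀ r ∈ Tq S J, r * r = 1 → r * p ≠ 1 →
      ∃ b : J, (b : X) ∈ A ∧ (QuotientGroup.mk b : J ⧸ center J) = r := by
    intro r hr hr2 hrp
    obtain ⟨b, hb, hb'⟩ := key (r * p) (mul_mem hr hpT) hrp (by
      calc r * p * (r * p) = r * (p * r) * p := by simp only [mul_assoc]
        _ = (r * r) * (p * p) := by rw [← hcent r hr hr2 p hpT]; simp only [mul_assoc]
        _ = 1 := by rw [hr2, hj2, one_mul])
    exact ⟨b, hb, by rw [hb', mul_inv_cancel_right]⟩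
  by_cases hqp : q * p = 1
  · -- choose another involution
    obtain ⟨z, hzT, hz2, hz1, hzp⟩ : ∃ z ∈ Tq S J, z * z = 1 ∧ z ≠ 1 ∧ z ≠ p := by
      by_contra hcon
      push Not at hcon
      have h8 := hD.card
      have hsub : ((Tq S J ⊓ centralizer (Tq S J : Set (J ⧸ center J)) :
          Subgroup (J ⧸ center J)) : Set (J ⧸ center J)) ⊆ {1, p} := by
        intro z hz
        have hz2 : z * z = 1 := (hD.sq_iff z hz.1).2
          (fun y hy => (mem_centralizer_iff.1 hz.2 y hy).symm)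
        by_cases hz1 : z = 1
        · exact Or.inl hz1
        · exact Or.inr (hcon z hz.1 hz2 hz1)
      have h9 := Set.ncard_le_ncard hsub (Set.toFinite _)
      have h10 : ({1, p} : Set (J ⧸ center J)).ncard ≤ 2 := by
        have := Set.ncard_insert_le (1 : J ⧸ center J) {p}
        rwa [Set.ncard_singleton] at this
      have h11 : ((Tq S J ⊓ centralizer (Tq S J : Set (J ⧸ center J)) :
          Subgroup (J ⧸ center J)) : Set (J ⧸ center J)).ncard =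
          Nat.card (Tq S J ⊓ centralizer (Tq S J : Set (J ⧸ center J)) : Subgroup (J ⧸ center J)) :=
        (Nat.card_coe_set_eq _).symm
      omega
    have hzp' : z * p ≠ 1 := by
      intro hh
      apply hzp
      have : z = p⁻¹ := eq_inv_of_mul_eq_one_left hh
      rw [this]
      exact inv_eq_of_mul_eq_one_left hj2
    obtain ⟨b₂, hb₂, hb₂'⟩ := hgen z hzT hz2 hzp'
    obtain ⟨b₁, hb₁, hb₁'⟩ := key z hzT hz1 hz2
    refine ⟨b₁⁻¹ * b₂, ?_, ?_⟩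
    · exact mul_mem (inv_mem hb₁) hb₂
    · rw [QuotientGroup.mk_mul, QuotientGroup.mk_inv, hb₁', hb₂', mul_inv_rev, inv_inv,
        inv_mul_cancel_right]
      have : q = p⁻¹ := eq_inv_of_mul_eq_one_left hqp
      rw [this]
      exact (inv_eq_of_mul_eq_one_left hj2).symm
  · exact hgen q hq hq2 hqp

/-- (2b) every element of `A` acts on `J` as an element of `A ∩ J`. -/
theorem exists_inf_act (h : Hyp X) (hA : SC S A) (hJ : IsComponent J)
    (hAJ : ¬ A ≤ centralizer (J : Set X)) {x : X} (hx : x ∈ A) :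
    ∃ b ∈ A, b ∈ J ∧ ∀ k ∈ J, x * k * x⁻¹ = b * k * b⁻¹ := by
  obtain ⟨j, hjS, hj, hj2⟩ := exists_elt h hA hJ hx
  obtain ⟨b, hbA, hb⟩ := exists_mem_inf h hA hJ hAJ (QuotientGroup.mk j) ((mem_Tq h hJ).2 hjS) hj2
  refine ⟨b, hbA, b.2, fun k hk => ?_⟩
  rw [hj k hk]
  have h1 : b⁻¹ * j ∈ center J := QuotientGroup.eq.1 hb
  rw [mem_center_iff] at h1
  have h2 : k * ((b : X)⁻¹ * j) = (b : X)⁻¹ * j * k := congrArg Subtype.val (h1 ⟨k, hk⟩)
  calc (j : X) * k * (j : X)⁻¹ = b * ((b : X)⁻¹ * j * k) * (j : X)⁻¹ := by group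
    _ = b * (k * ((b : X)⁻¹ * j)) * (j : X)⁻¹ := by rw [h2]
    _ = b * k * (b : X)⁻¹ := by group

/-- elements of `A ∩ J` commute with `S ∩ J` modulo the centre of `J`. -/
theorem commutator_central (h : Hyp X) (hA : SC S A) (hJ : IsComponent J) {b t : X} (hbA : b ∈ A)
    (hbJ : b ∈ J) (htJ : t ∈ J) (htS : t ∈ (S : Subgroup X)) :
    ∀ k ∈ J, k * (t * b * t⁻¹ * b⁻¹) = (t * b * t⁻¹ * b⁻¹) * k := by
  obtain ⟨D, hD⟩ := exists_data h S hJ
  set b' : J := ⟨b, hbJ⟩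
  set t' : J := ⟨t, htJ⟩
  have hb1 : (QuotientGroup.mk b' : J ⧸ center J) ∈ Tq S J := (mem_Tq h hJ).2 (hA.le hbA)
  have ht1 : (QuotientGroup.mk t' : J ⧸ center J) ∈ Tq S J := (mem_Tq h hJ).2 htS
  have hb2 : (QuotientGroup.mk b' : J ⧸ center J) * QuotientGroup.mk b' = 1 := by
    rw [← QuotientGroup.mk_mul]
    have : b' * b' = 1 := Subtype.ext (hA.sq b hbA)
    rw [this, QuotientGroup.mk_one]
  have hc := (hD.sq_iff _ hb1).1 hb2 _ ht1
  have h1 : t' * b' * t'⁻¹ * b'⁻¹ ∈ center J := by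
    rw [← QuotientGroup.eq_one_iff]
    simp only [QuotientGroup.mk_mul, QuotientGroup.mk_inv]
    rw [← hc]
    group
  intro k hk
  exact congrArg Subtype.val (mem_center_iff.1 h1 ⟨k, hk⟩)

/-- (2c) the data for Lemma B. -/
theorem exists_Z (h : Hyp X) (hA : SC S A) (hJ : IsComponent J)
    (hAJ : ¬ A ≤ centralizer (J : Set X)) :
    ∃ Z : Subgroup X, Z ≤ A ∧ (∀ z ∈ Z, ∀ k ∈ J, k * z = z * k) ∧
      (∀ x ∈ A, ∀ t ∈ J, t ∈ (S : Subgroup X) → t * x * t⁻¹ * x⁻¹ ∈ Z) ∧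
      (∀ x ∈ A, (∃ t ∈ J, t ∈ (S : Subgroup X) ∧ t * x ≠ x * t) → ∀ z ∈ Z,
        ∃ t ∈ J, t ∈ (S : Subgroup X) ∧ t * x * t⁻¹ = z * x) := by
  obtain ⟨D, hD⟩ := exists_data h S hJ
  -- an element b₀
  obtain ⟨x₀, hx₀, hx₀J⟩ : ∃ x ∈ A, x ∉ centralizer (J : Set X) := by
    by_contra hcon
    push Not at hcon
    exact hAJ hcon
  obtain ⟨b₀, hb₀A, hb₀J, hb₀⟩ := exists_inf_act h hA hJ hAJ hx₀
  have hb₀c : ¬ ∀ k ∈ J, b₀ * k * b₀⁻¹ = k := by
    intro hc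
    apply hx₀J
    rw [mem_centralizer_iff]
    intro k hk
    have h1 := hb₀ k hk
    rw [hc k hk] at h1
    calc k * x₀ = (x₀ * k * x₀⁻¹) * x₀ := by rw [h1]
      _ = x₀ * k := by group
  have cc : ∀ b ∈ A, b ∈ J → ∀ t ∈ J, t ∈ (S : Subgroup X) →
      ∀ k ∈ J, k * (t * b * t⁻¹ * b⁻¹) = (t * b * t⁻¹ * b⁻¹) * k :=
    fun b hb hbJ t ht htS => commutator_central h hA hJ hb hbJ ht htS
  let Z : Subgroup X :=
    { carrier := {z | ∃ t ∈ J, t ∈ (S : Subgroup X) ∧ z = t * b₀ * t⁻¹ * b₀⁻¹}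
      mul_mem' := by
        rintro _ _ ⟨t, ht, htS, rfl⟩ ⟨s, hs, hsS, rfl⟩
        refine ⟨t * s, mul_mem ht hs, mul_mem htS hsS, ?_⟩
        have h1 := cc b₀ hb₀A hb₀J s hs hsS t ht
        symm
        calc t * s * b₀ * (t * s)⁻¹ * b₀⁻¹ =
              (t * (s * b₀ * s⁻¹ * b₀⁻¹)) * b₀ * t⁻¹ * b₀⁻¹ := by group
          _ = (s * b₀ * s⁻¹ * b₀⁻¹) * (t * b₀ * t⁻¹ * b₀⁻¹) := by
              rw [h1]; simp only [mul_assoc]
          _ = (t * b₀ * t⁻¹ * b₀⁻¹) * (s * b₀ * s⁻¹ * b₀⁻¹) := by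
              apply cc b₀ hb₀A hb₀J t ht htS
              exact mul_mem (mul_mem (mul_mem hs hb₀J) (inv_mem hs)) (inv_mem hb₀J)
      one_mem' := ⟨1, one_mem _, one_mem _, by simp⟩
      inv_mem' := by
        rintro _ ⟨t, ht, htS, rfl⟩
        refine ⟨t⁻¹, inv_mem ht, inv_mem htS, ?_⟩
        have h1 := cc b₀ hb₀A hb₀J t ht htS t⁻¹ (inv_mem ht)
        have h2 : t⁻¹ * (t * b₀ * t⁻¹ * b₀⁻¹) * t = t * b₀ * t⁻¹ * b₀⁻¹ := by
          rw [h1]; group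
        have h3 : (t * b₀ * t⁻¹ * b₀⁻¹)⁻¹ = t⁻¹ * b₀ * t⁻¹⁻¹ * b₀⁻¹ := by
          rw [← h2]
          group
        exact h3 }
  have hZ : ∀ z, z ∈ Z ↔ ∃ t ∈ J, t ∈ (S : Subgroup X) ∧ z = t * b₀ * t⁻¹ * b₀⁻¹ := fun z => Iff.rfl
  -- independence of `b₀`
  have hind : ∀ b ∈ A, b ∈ J → (¬ ∀ k ∈ J, b * k * b⁻¹ = k) →
      ∃ e : X, e ∈ J ∧ (∀ t : X, t ∈ J → t ∈ (S : Subgroup X) → (e * t * e⁻¹ ∈ (S : Subgroup X) ∧
        (e * t * e⁻¹) * b * (e * t * e⁻¹)⁻¹ * b⁻¹ = t * b₀ * t⁻¹ * b₀⁻¹)) ∧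
        (∀ t : X, t ∈ J → t ∈ (S : Subgroup X) → e⁻¹ * t * e ∈ (S : Subgroup X)) := by
    intro b hb hbJ hbc
    have hne : ∀ c ∈ A, ∀ hcJ : c ∈ J, (¬ ∀ k ∈ J, c * k * c⁻¹ = k) →
        (QuotientGroup.mk (⟨c, hcJ⟩ : J) : J ⧸ center J) ≠ 1 := by
      intro c hc hcJ hcc hh
      apply hcc
      intro k hk
      rw [QuotientGroup.eq_one_iff, mem_center_iff] at hh
      have h2 : k * c = c * k := congrArg Subtype.val (hh ⟨k, hk⟩)
      rw [← h2]; group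
    have hsqq : ∀ c ∈ A, ∀ hcJ : c ∈ J, (QuotientGroup.mk (⟨c, hcJ⟩ : J) : J ⧸ center J) *
        QuotientGroup.mk (⟨c, hcJ⟩ : J) = 1 := by
      intro c hc hcJ
      rw [← QuotientGroup.mk_mul]
      have : (⟨c, hcJ⟩ : J) * ⟨c, hcJ⟩ = 1 := Subtype.ext (hA.sq c hc)
      rw [this, QuotientGroup.mk_one]
    obtain ⟨d, hdD, hd⟩ := hD.trans _ ((mem_Tq h hJ).2 (hA.le hb₀A)) _
      ((mem_Tq h hJ).2 (hA.le hb)) (hne b₀ hb₀A hb₀J hb₀c) (hne b hb hbJ hbc)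
      (hsqq b₀ hb₀A hb₀J) (hsqq b hb hbJ)
    obtain ⟨e, rfl⟩ := QuotientGroup.mk_surjective d
    have hnorm : ∀ t : J, (t : X) ∈ (S : Subgroup X) →
        ((e * t * e⁻¹ : J) : X) ∈ (S : Subgroup X) ∧ ((e⁻¹ * t * e : J) : X) ∈ (S : Subgroup X) := by
      intro t ht
      have h1 := Subgroup.mem_normalizer_iff.1 (hD.D_le hdD) (QuotientGroup.mk t)
      have h2 := Subgroup.mem_normalizer_iff.1 (inv_mem (hD.D_le hdD)) (QuotientGroup.mk t)
      have h3 : (QuotientGroup.mk t : J ⧸ center J) ∈ Tq S J := (mem_Tq h hJ).2 ht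
      constructor
      · rw [← mem_Tq h hJ]
        exact h1.1 h3
      · rw [← mem_Tq h hJ]
        have h4 := h2.1 h3
        rw [inv_inv] at h4
        exact h4
    refine ⟨e, e.2, ?_, ?_⟩
    · intro t ht htS
      refine ⟨(hnorm ⟨t, ht⟩ htS).1, ?_⟩
      -- b = e b₀ e⁻¹ ζ
      have h4 : (e * ⟨b₀, hb₀J⟩ * e⁻¹)⁻¹ * ⟨b, hbJ⟩ ∈ center J := QuotientGroup.eq.1 hd
      obtain ⟨ζ, hζ⟩ : ∃ ζ : J, ζ = (e * ⟨b₀, hb₀J⟩ * e⁻¹)⁻¹ * ⟨b, hbJ⟩ := ⟨_, rfl⟩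
      rw [← hζ, mem_center_iff] at h4
      have hbe : b = (e : X) * b₀ * (e : X)⁻¹ * ζ := by
        rw [hζ]
        simp only [Subgroup.coe_mul, Subgroup.coe_inv]
        group
      have hζc : ∀ k ∈ J, k * (ζ : X) = ζ * k := fun k hk => congrArg Subtype.val (h4 ⟨k, hk⟩)
      set w := (e : X) * t * (e : X)⁻¹ with hw
      have hwJ : w ∈ J := mul_mem (mul_mem e.2 ht) (inv_mem e.2)
      have hwζ : (ζ : X) * w⁻¹ = w⁻¹ * ζ := (hζc _ (inv_mem hwJ)).symm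
      calc w * b * w⁻¹ * b⁻¹ = w * ((e : X) * b₀ * (e : X)⁻¹ * ζ) * w⁻¹ *
            ((e : X) * b₀ * (e : X)⁻¹ * ζ)⁻¹ := by rw [← hbe]
        _ = w * ((e : X) * b₀ * (e : X)⁻¹) * (ζ * w⁻¹) * (ζ : X)⁻¹ *
            ((e : X) * b₀ * (e : X)⁻¹)⁻¹ := by simp only [mul_assoc, mul_inv_rev]
        _ = w * ((e : X) * b₀ * (e : X)⁻¹) * (w⁻¹ * ζ) * (ζ : X)⁻¹ *
            ((e : X) * b₀ * (e : X)⁻¹)⁻¹ := by rw [hwζ]
        _ = e * (t * b₀ * t⁻¹ * b₀⁻¹) * (e : X)⁻¹ := by rw [hw]; group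
        _ = t * b₀ * t⁻¹ * b₀⁻¹ := by
            rw [cc b₀ hb₀A hb₀J t ht htS e e.2]; group
    · intro t ht htS
      exact (hnorm ⟨t, ht⟩ htS).2
  refine ⟨Z, ?_, ?_, ?_, ?_⟩
  · rintro _ ⟨t, ht, htS, rfl⟩
    exact mul_mem (hA.conj_mem hb₀A htS) (inv_mem hb₀A)
  · rintro _ ⟨t, ht, htS, rfl⟩ k hk
    exact cc b₀ hb₀A hb₀J t ht htS k hk
  · intro x hx t ht htS
    obtain ⟨b, hbA, hbJ, hb⟩ := exists_inf_act h hA hJ hAJ hx
    have e1 : t * x * t⁻¹ * x⁻¹ = t * b * t⁻¹ * b⁻¹ := by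
      have h1 := hb t⁻¹ (inv_mem ht)
      calc t * x * t⁻¹ * x⁻¹ = t * (x * t⁻¹ * x⁻¹) := by simp only [mul_assoc]
        _ = t * (b * t⁻¹ * b⁻¹) := by rw [h1]
        _ = t * b * t⁻¹ * b⁻¹ := by simp only [mul_assoc]
    rw [e1]
    by_cases hbc : ∀ k ∈ J, b * k * b⁻¹ = k
    · have h1 := hbc t⁻¹ (inv_mem ht)
      have : t * b * t⁻¹ * b⁻¹ = 1 := by
        calc t * b * t⁻¹ * b⁻¹ = t * (b * t⁻¹ * b⁻¹) := by simp only [mul_assoc]
          _ = 1 := by rw [h1, mul_inv_cancel]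
      rw [this]
      exact one_mem Z
    · obtain ⟨e, he, h1, h2⟩ := hind b hbA hbJ hbc
      have h3 := (h1 (e⁻¹ * t * e) (mul_mem (mul_mem (inv_mem he) ht) he) (h2 t ht htS)).2
      have h4 : e * (e⁻¹ * t * e) * e⁻¹ = t := by group
      rw [h4] at h3
      rw [h3]
      exact ⟨_, mul_mem (mul_mem (inv_mem he) ht) he, h2 t ht htS, rfl⟩
  · rintro x hx ⟨t₁, ht₁, ht₁S, hne⟩ _ ⟨t, ht, htS, rfl⟩
    obtain ⟨b, hbA, hbJ, hb⟩ := exists_inf_act h hA hJ hAJ hx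
    have e1 : ∀ t ∈ J, t * x * t⁻¹ * x⁻¹ = t * b * t⁻¹ * b⁻¹ := by
      intro t ht
      have h1 := hb t⁻¹ (inv_mem ht)
      calc t * x * t⁻¹ * x⁻¹ = t * (x * t⁻¹ * x⁻¹) := by simp only [mul_assoc]
        _ = t * (b * t⁻¹ * b⁻¹) := by rw [h1]
        _ = t * b * t⁻¹ * b⁻¹ := by simp only [mul_assoc]
    have hbc : ¬ ∀ k ∈ J, b * k * b⁻¹ = k := by
      intro hc
      apply hne
      have h1 := hb t₁ ht₁
      rw [hc t₁ ht₁] at h1
      calc t₁ * x = (x * t₁ * x⁻¹) * x := by rw [h1]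
        _ = x * t₁ := by group
    obtain ⟨e, he, h1, h2⟩ := hind b hbA hbJ hbc
    obtain ⟨h3, h4⟩ := h1 t ht htS
    have heJ : e * t * e⁻¹ ∈ J := mul_mem (mul_mem he ht) (inv_mem he)
    refine ⟨e * t * e⁻¹, heJ, h3, ?_⟩
    rw [← h4, ← e1 _ heJ]
    group

end Cfsg.Agent.ThreePrime.AComp
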