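import Mathlib
import Cfsg.Agent.ThreePrime.AComp

/-!
# Components not centralised by `A` are simple
-/

set_option autoImplicit false

namespace Cfsg.Agent.ThreePrime.CenterTrivial

open Subgroup
open scoped commutatorElement
open Cfsg
open Cfsg.Agent.ThreePrime.SzData
open Cfsg.Agent.ThreePrime.AutQuot
open Cfsg.Agent.ThreePrime.Comp
open Cfsg.Agent.ThreePrime.AComp
open Cfsg.Agent.SignalizersComponents.CompBasic
open Cfsg.Agent.SignalizersComponents.Components

universe u

/-- In a perfect group the central elements of a Sylow subgroup lie in its commutator subgroup. -/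
theorem mem_commutator_of_center {J : Type u} [Group J] [Finite J] (hJ : Group.IsPerfect J) {p : ℕ}
    [Fact p.Prime] (Q : Sylow p J) {z : J} (hz : z ∈ center J) (hzQ : z ∈ (Q : Subgroup J)) :
    z ∈ ⁅(Q : Subgroup J), (Q : Subgroup J)⁆ := by
  set φ : (Q : Subgroup J) →* Abelianization (Q : Subgroup J) := Abelianization.of with hφ
  have hzc := mem_center_iff.1 hz
  have key : ∀ (k : ℕ) (g₀ : J), g₀⁻¹ * z ^ k * g₀ ∈ (Q : Subgroup J) → g₀⁻¹ * z ^ k * g₀ = z ^ k := by
    intro k g₀ _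
    have h1 := mem_center_iff.1 (pow_mem hz k) g₀
    rw [mul_assoc, ← h1, ← mul_assoc, inv_mul_cancel, one_mul]
  have h1 := MonoidHom.transfer_eq_pow φ z key
  have h2 : MonoidHom.transfer φ z = 1 := hom_eq_one_of_perfect hJ _ z
  rw [h2] at h1
  set n := (Q : Subgroup J).index with hn
  have h3 : (⟨z ^ n, MonoidHom.transfer_eq_pow_aux z key⟩ : (Q : Subgroup J)) ∈
      commutator (Q : Subgroup J) := by
    rw [← Abelianization.ker_of, MonoidHom.mem_ker]
    exact h1.symm
  have h4 : z ^ n ∈ ⁅(Q : Subgroup J), (Q : Subgroup J)⁆ := by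
    rw [← Subgroup.map_subtype_commutator]
    exact ⟨_, h3, rfl⟩
  -- `z` is a power of `z ^ n`
  obtain ⟨m, hm⟩ := Q.isPGroup' ⟨z, hzQ⟩
  have hzm : z ^ p ^ m = 1 := congrArg Subtype.val hm
  have hcop : Nat.Coprime n (orderOf z) := by
    apply Nat.Coprime.coprime_dvd_right (orderOf_dvd_of_pow_eq_one hzm)
    apply Nat.Coprime.pow_right
    rw [Nat.coprime_comm, Nat.Prime.coprime_iff_not_dvd Fact.out]
    exact Q.not_dvd_index
  obtain ⟨l, hl⟩ := exists_pow_eq_self_of_coprime hcop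
  rw [← hl]
  exact pow_mem h4 l

variable {X : Type u} [Group X] [Finite X] {S : Sylow 2 X} {A J : Subgroup X}

/-- A component not centralised by `A`, whose Sylow 2-subgroup `S ∩ J` centralises `A`, has trivial
centre. -/
theorem center_eq_bot (h : Hyp X) (hA : SC S A) (hJ : IsComponent J)
    (hAJ : ¬ A ≤ centralizer (J : Set X))
    (hT : ∀ t ∈ J, t ∈ (S : Subgroup X) → ∀ x ∈ A, t * x = x * t) : center J = ⊥ := by
  classical
  obtain ⟨D, hD⟩ := exists_data h S hJ
  obtain ⟨Q, hQ⟩ := Cfsg.Agent.S0542.result 2 J hJ.1 S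
  have hmemQ : ∀ y : J, y ∈ (Q : Subgroup J) ↔ (y : X) ∈ (S : Subgroup X) := by
    intro y
    rw [hQ, mem_subgroupOf]
  have hmemT : ∀ y : J, (QuotientGroup.mk y : J ⧸ center J) ∈ Tq S J ↔ y ∈ (Q : Subgroup J) := by
    intro y
    rw [hmemQ, mem_Tq h hJ]
  set Zt : Subgroup (J ⧸ center J) := Tq S J ⊓ centralizer (Tq S J : Set (J ⧸ center J)) with hZt
  let E : Subgroup J := Zt.comap (QuotientGroup.mk' (center J))
  have hE : ∀ e : J, e ∈ E ↔ (QuotientGroup.mk e : J ⧸ center J) ∈ Zt := fun e => Iff.rfl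
  have hEQ : ∀ e ∈ E, e ∈ (Q : Subgroup J) := fun e he => (hmemT e).1 ((hE e).1 he).1
  have hZsq : ∀ q ∈ Zt, q * q = 1 := by
    intro q hq
    exact (hD.sq_iff q hq.1).2 (fun y hy => (mem_centralizer_iff.1 hq.2 y hy).symm)
  have hEc : ∀ e ∈ E, ∀ t ∈ (Q : Subgroup J), e * t = t * e := by
    intro e he t ht
    obtain ⟨b, hb, hbe⟩ := exists_mem_inf h hA hJ hAJ (QuotientGroup.mk e) ((hE e).1 he).1
      (hZsq _ ((hE e).1 he))
    have h1 : b⁻¹ * e ∈ center J := QuotientGroup.eq.1 hbe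
    have h2 := mem_center_iff.1 h1 t
    have h3 : t * b = b * t := Subtype.ext (hT t t.2 ((hmemQ t).1 ht) b hb)
    calc e * t = b * ((b⁻¹ * e) * t) := by group
      _ = b * (t * (b⁻¹ * e)) := by rw [h2]
      _ = (b * t) * (b⁻¹ * e) := by group
      _ = (t * b) * (b⁻¹ * e) := by rw [h3]
      _ = t * e := by group
  have hcZ : ∀ z ∈ center J, z ∈ E := by
    intro z hz
    rw [hE, (QuotientGroup.eq_one_iff z).2 hz]
    exact one_mem _
  have hcomm : ∀ x ∈ (Q : Subgroup J), ∀ y ∈ (Q : Subgroup J), ⁅x, y⁆ ∈ E := by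
    intro x hx y hy
    rw [hE]
    have h1 : (QuotientGroup.mk ⁅x, y⁆ : J ⧸ center J) =
        ⁅(QuotientGroup.mk x : J ⧸ center J), QuotientGroup.mk y⁆ := rfl
    rw [h1, hZt, ← hD.comm_eq]
    exact commutator_mem_commutator ((hmemT x).2 hx) ((hmemT y).2 hy)
  letI : CommGroup E := { (inferInstance : Group E) with
    mul_comm := fun a b => Subtype.ext (hEc a a.2 b (hEQ b b.2)) }
  -- central differences
  have hdiff : ∀ g g' : J, (QuotientGroup.mk g : J ⧸ center J) = QuotientGroup.mk g' → ∀ e : J,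
      g * e * g⁻¹ = g' * e * g'⁻¹ := by
    intro g g' hg e
    have h1 : g⁻¹ * g' ∈ center J := QuotientGroup.eq.1 hg
    have h2 := mem_center_iff.1 h1 e
    calc g * e * g⁻¹ = g * (e * (g⁻¹ * g')) * g'⁻¹ := by group
      _ = g * ((g⁻¹ * g') * e) * g'⁻¹ := by rw [h2]
      _ = g' * e * g'⁻¹ := by group
  have hdiffc : ∀ g g' : J, (QuotientGroup.mk g : J ⧸ center J) = QuotientGroup.mk g' → ∀ w : J,
      ⁅g, w⁆ = ⁅g', w⁆ ∧ ⁅w, g⁆ = ⁅w, g'⁆ := by
    intro g g' hg w
    constructor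
    · rw [commutatorElement_def, commutatorElement_def, hdiff g g' hg w]
    · have h1 := hdiff g g' hg w⁻¹
      rw [commutatorElement_def, commutatorElement_def]
      calc w * g * w⁻¹ * g⁻¹ = w * (g * w⁻¹ * g⁻¹) := by group
        _ = w * (g' * w⁻¹ * g'⁻¹) := by rw [h1]
        _ = w * g' * w⁻¹ * g'⁻¹ := by group
  have hmk : ∀ q : J ⧸ center J, (QuotientGroup.mk (Quotient.out q) : J ⧸ center J) = q :=
    fun q => QuotientGroup.out_eq' q
  have hact : ∀ g : J, (QuotientGroup.mk g : J ⧸ center J) ∈ normalizer (Tq S J : Set (J ⧸ center J)) →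
      ∀ e ∈ E, g * e * g⁻¹ ∈ E := by
    intro g hg e he
    rw [hE] at he ⊢
    rw [QuotientGroup.mk_mul, QuotientGroup.mk_mul, QuotientGroup.mk_inv]
    refine ⟨(Subgroup.mem_normalizer_iff.1 hg _).1 he.1, ?_⟩
    refine mem_centralizer_iff.2 ?_
    intro t ht
    have h1 : (QuotientGroup.mk g : J ⧸ center J)⁻¹ * t * QuotientGroup.mk g ∈ Tq S J := by
      have h2 := (Subgroup.mem_normalizer_iff.1 (inv_mem hg) t).1 ht
      rwa [inv_inv] at h2
    have h3 := mem_centralizer_iff.1 he.2 _ h1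
    set γ := (QuotientGroup.mk g : J ⧸ center J)
    set ε := (QuotientGroup.mk e : J ⧸ center J)
    calc t * (γ * ε * γ⁻¹) = γ * ((γ⁻¹ * t * γ) * ε) * γ⁻¹ := by group
      _ = γ * (ε * (γ⁻¹ * t * γ)) * γ⁻¹ := by rw [h3]
      _ = γ * ε * γ⁻¹ * t := by group
  have hDn : ∀ d : D, (QuotientGroup.mk (Quotient.out (d : J ⧸ center J)) : J ⧸ center J) ∈
      normalizer (Tq S J : Set (J ⧸ center J)) := by
    intro d
    rw [hmk]
    exact hD.D_le d.2
  -- the norm
  have : Fintype D := Fintype.ofFinite D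
  let N : E →* E :=
    { toFun := fun e => ∏ d : D, (⟨Quotient.out (d : J ⧸ center J) * e *
        (Quotient.out (d : J ⧸ center J))⁻¹, hact _ (hDn d) e e.2⟩ : E)
      map_one' := by
        apply Finset.prod_eq_one
        intro d _
        apply Subtype.ext
        simp
      map_mul' := by
        intro a b
        rw [← Finset.prod_mul_distrib]
        apply Finset.prod_congr rfl
        intro d _
        apply Subtype.ext
        simp [mul_assoc] }
  have hN : ∀ e : E, N e = ∏ d : D, (⟨Quotient.out (d : J ⧸ center J) * e *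
        (Quotient.out (d : J ⧸ center J))⁻¹, hact _ (hDn d) e e.2⟩ : E) := fun e => rfl
  have hNinv : ∀ (d : D) (e : E), N ⟨Quotient.out (d : J ⧸ center J) * e *
        (Quotient.out (d : J ⧸ center J))⁻¹, hact _ (hDn d) e e.2⟩ = N e := by
    intro d e
    rw [hN, hN]
    refine Fintype.prod_equiv (Equiv.mulRight d) _ _ ?_
    intro d'
    apply Subtype.ext
    change Quotient.out (d' : J ⧸ center J) * (Quotient.out (d : J ⧸ center J) * e *
      (Quotient.out (d : J ⧸ center J))⁻¹) * (Quotient.out (d' : J ⧸ center J))⁻¹ = _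
    have h1 := hdiff (Quotient.out (d' : J ⧸ center J) * Quotient.out (d : J ⧸ center J))
      (Quotient.out ((d' * d : D) : J ⧸ center J)) (by
        rw [QuotientGroup.mk_mul, hmk, hmk, hmk]; rfl) e
    change _ = Quotient.out ((d' * d : D) : J ⧸ center J) * (e : J) *
      (Quotient.out ((d' * d : D) : J ⧸ center J))⁻¹
    rw [← h1]
    group
  have hNz : ∀ z : E, (z : J) ∈ center J → N z = z ^ Fintype.card D := by
    intro z hz
    rw [hN, Fintype.card, ← Finset.prod_const]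
    apply Finset.prod_congr rfl
    intro d _
    apply Subtype.ext
    have h1 := mem_center_iff.1 hz (Quotient.out (d : J ⧸ center J))
    change Quotient.out (d : J ⧸ center J) * (z : J) * (Quotient.out (d : J ⧸ center J))⁻¹ = z
    rw [h1]; group
  -- the form
  have houtQ : ∀ q ∈ Tq S J, Quotient.out q ∈ (Q : Subgroup J) := by
    intro q hq
    rw [← hmemT, hmk]
    exact hq
  let f : (J ⧸ center J) → (J ⧸ center J) → E := fun a b =>
    if hab : a ∈ Tq S J ∧ b ∈ Tq S J then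
      N ⟨⁅Quotient.out a, Quotient.out b⁆, hcomm _ (houtQ a hab.1) _ (houtQ b hab.2)⟩ else 1
  have hf : ∀ a b (ha : a ∈ Tq S J) (hb : b ∈ Tq S J), f a b =
      N ⟨⁅Quotient.out a, Quotient.out b⁆, hcomm _ (houtQ a ha) _ (houtQ b hb)⟩ := by
    intro a b ha hb
    simp only [f]
    rw [dif_pos ⟨ha, hb⟩]
  have hmulc : ∀ u ∈ (Q : Subgroup J), ∀ v ∈ (Q : Subgroup J), ∀ w ∈ (Q : Subgroup J),
      ⁅u * v, w⁆ = ⁅u, w⁆ * ⁅v, w⁆ := by
    intro u hu v hv w hw
    have h1 := hEc _ (hcomm v hv w hw) u hu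
    have h2 := hEc _ (hcomm v hv w hw) _ (hEQ _ (hcomm u hu w hw))
    rw [← h2]
    calc ⁅u * v, w⁆ = (u * ⁅v, w⁆) * (w * u⁻¹ * w⁻¹) := by
          simp only [commutatorElement_def, mul_inv_rev]; group
      _ = (⁅v, w⁆ * u) * (w * u⁻¹ * w⁻¹) := by rw [h1]
      _ = ⁅v, w⁆ * ⁅u, w⁆ := by simp only [commutatorElement_def]; group
  have hmulc' : ∀ u ∈ (Q : Subgroup J), ∀ v ∈ (Q : Subgroup J), ∀ w ∈ (Q : Subgroup J),
      ⁅w, u * v⁆ = ⁅w, u⁆ * ⁅w, v⁆ := by
    intro u hu v hv w hw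
    have h1 := hmulc u hu v hv w hw
    have h2 := hEc _ (hcomm w hw u hu) _ (hEQ _ (hcomm w hw v hv))
    rw [h2, ← commutatorElement_inv, h1, mul_inv_rev, commutatorElement_inv, commutatorElement_inv]
  have hall := hD.noform E f ?_ ?_ ?_ ?_ ?_
  · -- conclusion
    have hker : ⁅(Q : Subgroup J), (Q : Subgroup J)⁆ ≤ N.ker.map E.subtype := by
      rw [commutator_le]
      intro x hx y hy
      refine ⟨⟨⁅x, y⁆, hcomm x hx y hy⟩, ?_, rfl⟩
      rw [SetLike.mem_coe, MonoidHom.mem_ker]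
      have h1 := hall _ ((hmemT x).2 hx) _ ((hmemT y).2 hy)
      rw [hf _ _ ((hmemT x).2 hx) ((hmemT y).2 hy)] at h1
      rw [← h1]
      congr 1
      apply Subtype.ext
      change ⁅x, y⁆ = ⁅Quotient.out (QuotientGroup.mk x : J ⧸ center J),
        Quotient.out (QuotientGroup.mk y : J ⧸ center J)⁆
      rw [(hdiffc x (Quotient.out (QuotientGroup.mk x : J ⧸ center J)) (hmk _).symm y).1,
        (hdiffc y (Quotient.out (QuotientGroup.mk y : J ⧸ center J)) (hmk _).symm _).2]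
    rw [eq_bot_iff]
    intro z hz
    rw [mem_bot]
    have hzQ : z ∈ (Q : Subgroup J) := hEQ z (hcZ z hz)
    obtain ⟨w, hw, hwz⟩ := hker (mem_commutator_of_center hJ.2.1 Q hz hzQ)
    rw [SetLike.mem_coe, MonoidHom.mem_ker, hNz w (by rw [← hwz] at hz; exact hz)] at hw
    have h1 : z ^ Fintype.card D = 1 := by
      rw [← hwz]
      exact congrArg Subtype.val hw
    have hodd : Odd (Fintype.card D) := by
      rw [← Nat.card_eq_fintype_card]
      exact hD.odd
    obtain ⟨m, hm⟩ := center_two h hJ ⟨z, hz⟩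
    have h2 : z ^ 2 ^ m = 1 := congrArg Subtype.val hm
    have h3 : orderOf z ∣ Nat.gcd (Fintype.card D) (2 ^ m) :=
      Nat.dvd_gcd (orderOf_dvd_of_pow_eq_one h1) (orderOf_dvd_of_pow_eq_one h2)
    have h4 : Nat.gcd (Fintype.card D) (2 ^ m) = 1 :=
      Nat.Coprime.pow_right m (Nat.coprime_two_right.2 hodd)
    rw [h4, Nat.dvd_one, orderOf_eq_one_iff] at h3
    exact h3
  · intro x hx y hy z hz
    rw [hf _ _ (mul_mem hx hy) hz, hf _ _ hx hz, hf _ _ hy hz, ← map_mul]
    congr 1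
    apply Subtype.ext
    change ⁅Quotient.out (x * y), Quotient.out z⁆ =
      ⁅Quotient.out x, Quotient.out z⁆ * ⁅Quotient.out y, Quotient.out z⁆
    rw [(hdiffc (Quotient.out (x * y)) (Quotient.out x * Quotient.out y) (by
      rw [QuotientGroup.mk_mul, hmk, hmk, hmk]) (Quotient.out z)).1]
    exact hmulc _ (houtQ x hx) _ (houtQ y hy) _ (houtQ z hz)
  · intro x hx y hy z hz
    rw [hf _ _ hx (mul_mem hy hz), hf _ _ hx hy, hf _ _ hx hz, ← map_mul]
    congr 1
    apply Subtype.ext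
    change ⁅Quotient.out x, Quotient.out (y * z)⁆ =
      ⁅Quotient.out x, Quotient.out y⁆ * ⁅Quotient.out x, Quotient.out z⁆
    rw [(hdiffc (Quotient.out (y * z)) (Quotient.out y * Quotient.out z) (by
      rw [QuotientGroup.mk_mul, hmk, hmk, hmk]) (Quotient.out x)).2]
    exact hmulc' _ (houtQ y hy) _ (houtQ z hz) _ (houtQ x hx)
  · intro d hd x hx y hy
    have hdn := hD.D_le hd
    have hx' := (Subgroup.mem_normalizer_iff.1 hdn x).1 hx
    have hy' := (Subgroup.mem_normalizer_iff.1 hdn y).1 hy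
    rw [hf _ _ hx' hy', hf _ _ hx hy,
      ← hNinv ⟨d, hd⟩ ⟨⁅Quotient.out x, Quotient.out y⁆, hcomm _ (houtQ x hx) _ (houtQ y hy)⟩]
    congr 1
    apply Subtype.ext
    change ⁅Quotient.out (d * x * d⁻¹), Quotient.out (d * y * d⁻¹)⁆ =
      Quotient.out d * ⁅Quotient.out x, Quotient.out y⁆ * (Quotient.out d)⁻¹
    rw [(hdiffc (Quotient.out (d * x * d⁻¹)) (Quotient.out d * Quotient.out x * (Quotient.out d)⁻¹) (by
      rw [QuotientGroup.mk_mul, QuotientGroup.mk_mul, QuotientGroup.mk_inv, hmk, hmk, hmk])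
      (Quotient.out (d * y * d⁻¹))).1,
      (hdiffc (Quotient.out (d * y * d⁻¹)) (Quotient.out d * Quotient.out y * (Quotient.out d)⁻¹) (by
      rw [QuotientGroup.mk_mul, QuotientGroup.mk_mul, QuotientGroup.mk_inv, hmk, hmk, hmk]) _).2]
    simp only [commutatorElement_def]
    group
  · intro x hx hx2 y hy
    rw [hf _ _ hx hy]
    have h1 : Quotient.out x ∈ E := by
      rw [hE, hmk]
      refine ⟨hx, ?_⟩
      refine mem_centralizer_iff.2 ?_
      intro t ht
      exact ((hD.sq_iff x hx).1 hx2 t ht).symm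
    have h2 : (⟨⁅Quotient.out x, Quotient.out y⁆, hcomm _ (houtQ x hx) _ (houtQ y hy)⟩ : E) = 1 := by
      apply Subtype.ext
      change ⁅Quotient.out x, Quotient.out y⁆ = 1
      rw [commutatorElement_eq_one_iff_mul_comm]
      exact hEc _ h1 _ (houtQ y hy)
    rw [h2, map_one]
  · intro x hx hx2 y hy
    rw [hf _ _ hy hx]
    have h1 : Quotient.out x ∈ E := by
      rw [hE, hmk]
      refine ⟨hx, ?_⟩
      refine mem_centralizer_iff.2 ?_
      intro t ht
      exact ((hD.sq_iff x hx).1 hx2 t ht).symm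
    have h2 : (⟨⁅Quotient.out y, Quotient.out x⁆, hcomm _ (houtQ y hy) _ (houtQ x hx)⟩ : E) = 1 := by
      apply Subtype.ext
      change ⁅Quotient.out y, Quotient.out x⁆ = 1
      rw [commutatorElement_eq_one_iff_mul_comm]
      exact (hEc _ h1 _ (houtQ y hy)).symm
    rw [h2, map_one]

end Cfsg.Agent.ThreePrime.CenterTrivial
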