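import Mathlib
import Cfsg.Agent.Involutions.BaerSuzuki

/-!
# Irreducible elementary abelian subgroups of groups of order prime to 3

If `N_G(A)` acts irreducibly on the elementary abelian 2-subgroup `A` and `3 ∤ |G|`, a subgroup `T ≤ N_G(A)` with
`[A, T] = Z ≤ C_A(T)` and `[x, T] = Z` for all `x ∈ A - C_A(T)` centralizes `A`.
-/

set_option autoImplicit false

namespace Cfsg.Agent.ThreePrime.Chain

open Subgroup

variable {G : Type*} [Group G]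

/-- `N_G(A)` acts irreducibly on `A`. -/
def Irr (A : Subgroup G) : Prop :=
  ∀ B : Subgroup G, B ≤ A → B ≠ ⊥ →
    (∀ n ∈ normalizer (A : Set G), ∀ b ∈ B, n * b * n⁻¹ ∈ B) → B = A

theorem normalizerMonoidHom_coe (A : Subgroup G) (n : normalizer (A : Set G)) (a : A) :
    ((A.normalizerMonoidHom n a : A) : G) = n * a * (n : G)⁻¹ := rfl

/-- A 2-group of automorphisms of `A` normalised by `N_G(A)` is trivial. -/
theorem range_core [Finite G] {A : Subgroup G} (hA : IsPGroup 2 A) (hA1 : A ≠ ⊥) (hirr : Irr A)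
    (K : Subgroup (MulAut A)) (hK : IsPGroup 2 K)
    (hn : ∀ n : normalizer (A : Set G), ∀ k ∈ K,
      (A.normalizerMonoidHom n) * k * (A.normalizerMonoidHom n)⁻¹ ∈ K) : K = ⊥ := by
  let B0 : Subgroup A :=
    { carrier := {a | ∀ k ∈ K, (k : MulAut A) a = a}
      mul_mem' := by
        intro a b ha hb k hk
        rw [map_mul, ha k hk, hb k hk]
      one_mem' := by
        intro k hk
        exact map_one k
      inv_mem' := by
        intro a ha k hk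
        rw [map_inv, ha k hk] }
  have hB0 : ∀ a, a ∈ B0 ↔ ∀ k ∈ K, (k : MulAut A) a = a := fun a => Iff.rfl
  have hB1 : B0 ≠ ⊥ := by
    have hdvd : 2 ∣ Nat.card A := by
      obtain ⟨n, hn⟩ := IsPGroup.iff_card.1 hA
      have h1 : 1 < Nat.card A := (Subgroup.one_lt_card_iff_ne_bot A).2 hA1
      rw [hn] at h1 ⊢
      rcases n with _ | n
      · simp at h1
      · exact dvd_pow_self 2 (Nat.succ_ne_zero n)
    obtain ⟨b, hb, hb1⟩ := hK.exists_fixed_point_of_prime_dvd_card_of_fixed_point (α := A)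
      hdvd (a := 1) (by
        intro k
        exact map_one (k : MulAut A))
    intro h
    apply hb1
    have : b ∈ B0 := fun k hk => hb ⟨k, hk⟩
    rw [h, mem_bot] at this
    exact this.symm
  have hB : B0.map A.subtype = A := by
    apply hirr _ (map_subtype_le B0)
    · rwa [Ne, (map_eq_bot_iff_of_injective _ A.subtype_injective)]
    · rintro n hn' _ ⟨a, ha, rfl⟩
      refine ⟨A.normalizerMonoidHom ⟨n, hn'⟩ a, ?_, rfl⟩
      intro k hk
      have h1 := hn (⟨n, hn'⟩ : normalizer (A : Set G))⁻¹ k hk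
      have h2 := ha _ h1
      rw [map_inv, inv_inv] at h2
      have h3 : (A.normalizerMonoidHom ⟨n, hn'⟩)⁻¹ (k (A.normalizerMonoidHom ⟨n, hn'⟩ a)) = a := h2
      have h4 := congrArg (A.normalizerMonoidHom ⟨n, hn'⟩) h3
      rwa [MulAut.apply_inv_self] at h4
  rw [eq_bot_iff]
  intro k hk
  rw [mem_bot]
  ext a
  have h1 : (a : G) ∈ B0.map A.subtype := by rw [hB]; exact a.2
  obtain ⟨b, hb, hba⟩ := h1
  have h2 : b = a := Subtype.ext hba
  rw [← h2, (hB0 b).1 hb k hk]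
  rfl

/-- elements stabilising a chain `A ≥ Y ≥ Z ≥ 1` satisfy `k ^ 4 ∈ C(A)`. -/
theorem pow_four_comm {A : Subgroup G} (hsq : ∀ x ∈ A, x * x = 1)
    (hcomm : ∀ x ∈ A, ∀ y ∈ A, x * y = y * x) {Y Z : Subgroup G} (hYA : Y ≤ A) (hZY : Z ≤ Y) {k : G}
    (h1 : ∀ x ∈ A, k * x * k⁻¹ * x⁻¹ ∈ Y) (h2 : ∀ y ∈ Y, k * y * k⁻¹ * y⁻¹ ∈ Z)
    (h3 : ∀ z ∈ Z, k * z * k⁻¹ = z) (x : G) (hx : x ∈ A) : k ^ 4 * x * (k ^ 4)⁻¹ = x := by
  -- c(x) = k x k⁻¹ x⁻¹
  have key : ∀ x ∈ A, ∃ z ∈ Z, k ^ 2 * x * (k ^ 2)⁻¹ = z * x := by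
    intro x hx
    set c := k * x * k⁻¹ * x⁻¹ with hc
    have hcY : c ∈ Y := h1 x hx
    have hcA : c ∈ A := hYA hcY
    have hkx : k * x * k⁻¹ = c * x := by rw [hc]; group
    have hkx' : k * (c * x) * k⁻¹ = (k * c * k⁻¹) * (k * x * k⁻¹) := by group
    set d := k * c * k⁻¹ * c⁻¹ with hd
    have hdZ : d ∈ Z := h2 c hcY
    have hkc : k * c * k⁻¹ = d * c := by rw [hd]; group
    refine ⟨d, hdZ, ?_⟩
    calc k ^ 2 * x * (k ^ 2)⁻¹ = k * (k * x * k⁻¹) * k⁻¹ := by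
          simp only [pow_two, mul_inv_rev, mul_assoc]
      _ = k * (c * x) * k⁻¹ := by rw [hkx]
      _ = (k * c * k⁻¹) * (k * x * k⁻¹) := hkx'
      _ = d * c * (c * x) := by rw [hkc, hkx]
      _ = d * (c * c) * x := by simp only [mul_assoc]
      _ = d * x := by rw [hsq c hcA, mul_one]
  obtain ⟨z, hz, hzx⟩ := key x hx
  have hkz : k ^ 2 * z * (k ^ 2)⁻¹ = z := by
    calc k ^ 2 * z * (k ^ 2)⁻¹ = k * (k * z * k⁻¹) * k⁻¹ := by
          simp only [pow_two, mul_inv_rev, mul_assoc]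
      _ = z := by rw [h3 z hz, h3 z hz]
  have hk4 : k ^ 4 = k ^ 2 * k ^ 2 := by rw [← pow_add]
  have hsplit : k ^ 2 * (z * x) * (k ^ 2)⁻¹ = (k ^ 2 * z * (k ^ 2)⁻¹) * (k ^ 2 * x * (k ^ 2)⁻¹) := by
    simp only [mul_assoc, inv_mul_cancel_left]
  calc k ^ 4 * x * (k ^ 4)⁻¹ = k ^ 2 * (k ^ 2 * x * (k ^ 2)⁻¹) * (k ^ 2)⁻¹ := by
        rw [hk4]; simp only [mul_inv_rev, mul_assoc]
    _ = k ^ 2 * (z * x) * (k ^ 2)⁻¹ := by rw [hzx]
    _ = (k ^ 2 * z * (k ^ 2)⁻¹) * (k ^ 2 * x * (k ^ 2)⁻¹) := hsplit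
    _ = z * (z * x) := by rw [hkz, hzx]
    _ = (z * z) * x := by simp only [mul_assoc]
    _ = x := by rw [hsq z (hYA (hZY hz)), one_mul]

/-- the stability group of a chain. -/
def stab (A Y Z : Subgroup G) (hcomm : ∀ x ∈ A, ∀ y ∈ A, x * y = y * x) (hYA : Y ≤ A) (hZY : Z ≤ Y) :
    Subgroup G where
  carrier := {k | k ∈ normalizer (A : Set G) ∧ (∀ x ∈ A, k * x * k⁻¹ * x⁻¹ ∈ Y) ∧
    (∀ y ∈ Y, k * y * k⁻¹ * y⁻¹ ∈ Z) ∧ (∀ z ∈ Z, k * z * k⁻¹ = z)}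
  mul_mem' := by
    rintro k l ⟨hk0, hk1, hk2, hk3⟩ ⟨hl0, hl1, hl2, hl3⟩
    refine ⟨mul_mem hk0 hl0, ?_, ?_, ?_⟩
    · intro x hx
      have e1 : k * l * x * (k * l)⁻¹ * x⁻¹ =
          (k * (l * x * l⁻¹ * x⁻¹) * k⁻¹ * (l * x * l⁻¹ * x⁻¹)⁻¹) * (l * x * l⁻¹ * x⁻¹) *
            (k * x * k⁻¹ * x⁻¹) := by group
      rw [e1]
      exact mul_mem (mul_mem (hZY (hk2 _ (hl1 x hx))) (hl1 x hx)) (hk1 x hx)
    · intro y hy
      have e1 : k * l * y * (k * l)⁻¹ * y⁻¹ =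
          (k * (l * y * l⁻¹ * y⁻¹) * k⁻¹) * (k * y * k⁻¹ * y⁻¹) := by group
      rw [e1, hk3 _ (hl2 y hy)]
      exact mul_mem (hl2 y hy) (hk2 y hy)
    · intro z hz
      calc k * l * z * (k * l)⁻¹ = k * (l * z * l⁻¹) * k⁻¹ := by group
        _ = z := by rw [hl3 z hz, hk3 z hz]
  one_mem' := by
    refine ⟨one_mem _, ?_, ?_, ?_⟩
    · intro x _
      simp
    · intro x _
      simp
    · intro x _
      simp
  inv_mem' := by
    rintro k ⟨hk0, hk1, hk2, hk3⟩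
    have h0 : ∀ x ∈ A, k⁻¹ * x * k ∈ A := by
      intro x hx
      have := (mem_normalizer_iff.1 (inv_mem hk0) x).1 hx
      simpa using this
    have h1 : ∀ x ∈ A, k⁻¹ * x * k * x⁻¹ ∈ Y := by
      intro x hx
      have h := hk1 _ (h0 x hx)
      have e1 : k * (k⁻¹ * x * k) * k⁻¹ * (k⁻¹ * x * k)⁻¹ = x * (k⁻¹ * x * k)⁻¹ := by group
      rw [e1] at h
      have h' := inv_mem h
      have e2 : (x * (k⁻¹ * x * k)⁻¹)⁻¹ = k⁻¹ * x * k * x⁻¹ := by group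
      rwa [e2] at h'
    have h2 : ∀ y ∈ Y, k⁻¹ * y * k ∈ Y := by
      intro y hy
      have h := mul_mem (h1 y (hYA hy)) hy
      rwa [inv_mul_cancel_right] at h
    refine ⟨inv_mem hk0, ?_, ?_, ?_⟩
    · intro x hx
      rw [inv_inv]
      exact h1 x hx
    · intro y hy
      rw [inv_inv]
      have h := hk2 _ (h2 y hy)
      have e1 : k * (k⁻¹ * y * k) * k⁻¹ * (k⁻¹ * y * k)⁻¹ = y * (k⁻¹ * y * k)⁻¹ := by group
      rw [e1] at h
      have h' := inv_mem h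
      have e2 : (y * (k⁻¹ * y * k)⁻¹)⁻¹ = k⁻¹ * y * k * y⁻¹ := by group
      rwa [e2] at h'
    · intro z hz
      rw [inv_inv]
      have h := hk3 z hz
      calc k⁻¹ * z * k = k⁻¹ * (k * z * k⁻¹) * k := by rw [h]
        _ = z := by group

/-- Two subgroups stabilising a common chain generate a group inducing a 2-group on `A`. -/
theorem isPGroup_map_sup {A : Subgroup G} (hsq : ∀ x ∈ A, x * x = 1)
    (hcomm : ∀ x ∈ A, ∀ y ∈ A, x * y = y * x) {T₁ T₂ Z₁ Z₂ : Subgroup G}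
    (hT₁ : T₁ ≤ normalizer (A : Set G)) (hT₂ : T₂ ≤ normalizer (A : Set G)) (hZ₁ : Z₁ ≤ A)
    (hZ₂ : Z₂ ≤ A) (c₁ : ∀ x ∈ A, ∀ t ∈ T₁, t * x * t⁻¹ * x⁻¹ ∈ Z₁)
    (c₂ : ∀ x ∈ A, ∀ t ∈ T₂, t * x * t⁻¹ * x⁻¹ ∈ Z₂)
    (d₁ : ∀ z ∈ Z₁, ∀ t ∈ T₁, t * z = z * t) (d₂ : ∀ z ∈ Z₂, ∀ t ∈ T₂, t * z = z * t)
    (d₂₁ : ∀ z ∈ Z₂, ∀ t ∈ T₁, t * z = z * t) :
    ∀ k ∈ T₁ ⊔ T₂, ∀ x ∈ A, k ^ 4 * x * (k ^ 4)⁻¹ = x := by
  have hYA : Z₁ ⊔ Z₂ ≤ A := sup_le hZ₁ hZ₂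
  have hle : T₁ ⊔ T₂ ≤ stab A (Z₁ ⊔ Z₂) Z₂ hcomm hYA le_sup_right := by
    refine sup_le ?_ ?_
    · intro t ht
      have hc : ∀ y ∈ Z₁ ⊔ Z₂, t * y = y * t := by
        have : Z₁ ⊔ Z₂ ≤ centralizer {t} := by
          refine sup_le ?_ ?_
          · intro z hz
            rw [mem_centralizer_singleton_iff]
            exact (d₁ z hz t ht).symm
          · intro z hz
            rw [mem_centralizer_singleton_iff]
            exact (d₂₁ z hz t ht).symm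
        intro y hy
        have h := this hy
        rw [mem_centralizer_singleton_iff] at h
        exact h.symm
      refine ⟨hT₁ ht, fun x hx => le_sup_left (a := Z₁) (c₁ x hx t ht), ?_, ?_⟩
      · intro y hy
        rw [hc y hy]
        simp
      · intro z hz
        rw [hc z (le_sup_right (a := Z₁) hz)]
        simp
    · intro t ht
      refine ⟨hT₂ ht, fun x hx => le_sup_right (a := Z₁) (c₂ x hx t ht), ?_, ?_⟩
      · intro y hy
        exact c₂ y (hYA hy) t ht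
      · intro z hz
        rw [d₂ z hz t ht]
        simp
  intro k hk x hx
  obtain ⟨-, k1, k2, k3⟩ := hle hk
  exact pow_four_comm hsq hcomm hYA le_sup_right k1 k2 k3 x hx

/-- The `S₃`-argument. -/
theorem three_dvd_card [Finite G] {A : Subgroup G} (hsq : ∀ x ∈ A, x * x = 1)
    (hcomm : ∀ x ∈ A, ∀ y ∈ A, x * y = y * x) {t t' z z' : G} (hz : z ∈ A) (hz' : z' ∈ A)
    (hne : z ≠ z') (h1 : t * z = z * t) (h2 : t' * z' = z' * t') (h3 : t * z' * t⁻¹ = z * z')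
    (h4 : t' * z * t'⁻¹ = z' * z) : 3 ∣ Nat.card G := by
  set y := t * t' with hy
  have e1 : y * z * y⁻¹ = z' := by
    calc y * z * y⁻¹ = t * (t' * z * t'⁻¹) * t⁻¹ := by rw [hy]; group
      _ = (t * z' * t⁻¹) * (t * z * t⁻¹) := by rw [h4]; group
      _ = (z * z') * z := by rw [h3, h1]; group
      _ = (z' * z) * z := by rw [hcomm z hz z' hz']
      _ = z' := by rw [mul_assoc, hsq z hz, mul_one]
  have e2 : y * z' * y⁻¹ = z * z' := by
    calc y * z' * y⁻¹ = t * (t' * z' * t'⁻¹) * t⁻¹ := by rw [hy]; group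
      _ = t * z' * t⁻¹ := by rw [h2]; group
      _ = z * z' := h3
  have e3 : y ^ 3 * z * (y ^ 3)⁻¹ = z := by
    calc y ^ 3 * z * (y ^ 3)⁻¹ = y * (y * (y * z * y⁻¹) * y⁻¹) * y⁻¹ := by
          simp only [pow_succ, pow_zero, one_mul, mul_inv_rev, mul_assoc]
      _ = y * (z * z') * y⁻¹ := by rw [e1, e2]
      _ = (y * z * y⁻¹) * (y * z' * y⁻¹) := by group
      _ = z' * (z * z') := by rw [e1, e2]
      _ = z' * (z' * z) := by rw [hcomm z hz z' hz']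
      _ = z := by rw [← mul_assoc, hsq z' hz', one_mul]
  have h5 : 3 ∣ orderOf y := by
    by_contra hnd
    have hcop : Nat.Coprime 3 (orderOf y) := (Nat.Prime.coprime_iff_not_dvd Nat.prime_three).2 hnd
    obtain ⟨m, hm⟩ := exists_pow_eq_self_of_coprime hcop
    have h6 : y ^ 3 ∈ centralizer ({z} : Set G) := by
      rw [mem_centralizer_singleton_iff]
      calc y ^ 3 * z = (y ^ 3 * z * (y ^ 3)⁻¹) * y ^ 3 := by group
        _ = z * y ^ 3 := by rw [e3]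
    have h7 : y ∈ centralizer ({z} : Set G) := by
      rw [← hm]
      exact pow_mem h6 m
    rw [mem_centralizer_singleton_iff] at h7
    apply hne
    calc z = (z * y) * y⁻¹ := by group
      _ = y * z * y⁻¹ := by rw [← h7]
      _ = z' := e1
  exact h5.trans (orderOf_dvd_natCard y)

/-- **Lemma B.** -/
theorem le_centralizer [Finite G] (h3 : ¬ 3 ∣ Nat.card G) {A : Subgroup G}
    (hsq : ∀ x ∈ A, x * x = 1) (hcomm : ∀ x ∈ A, ∀ y ∈ A, x * y = y * x) (hA1 : A ≠ ⊥)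
    (hirr : Irr A) {T Z : Subgroup G} (hT : T ≤ normalizer (A : Set G)) (hZ : Z ≤ A)
    (hZT : ∀ z ∈ Z, ∀ t ∈ T, t * z = z * t) (hAT : ∀ x ∈ A, ∀ t ∈ T, t * x * t⁻¹ * x⁻¹ ∈ Z)
    (hsurj : ∀ x ∈ A, (∃ t ∈ T, t * x ≠ x * t) → ∀ z ∈ Z, ∃ t ∈ T, t * x * t⁻¹ = z * x) :
    T ≤ centralizer (A : Set G) := by
  have hA : IsPGroup 2 A := by
    intro x
    refine ⟨1, ?_⟩
    rw [pow_one, pow_two]
    exact Subtype.ext (hsq x x.2)
  set ρ : normalizer (A : Set G) →* MulAut A := A.normalizerMonoidHom with hρ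
  let X : Subgroup ρ.range := (T.subgroupOf (normalizer (A : Set G))).map ρ.rangeRestrict
  have hX : IsPGroup 2 (Subgroup.normalClosure (X : Set ρ.range) : Subgroup ρ.range) := by
    apply Cfsg.Agent.Involutions.BaerSuzuki.baer_suzuki_subgroup
    rintro ⟨_, ⟨g, rfl⟩⟩
    -- the conjugate pair
    let T' : Subgroup G := T.map (MulAut.conj (g : G)).toMonoidHom
    let Z' : Subgroup G := Z.map (MulAut.conj (g : G)).toMonoidHom
    have hgN := g.2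
    have hgA : ∀ x ∈ A, (g : G) * x * (g : G)⁻¹ ∈ A := fun x hx => (mem_normalizer_iff.1 hgN x).1 hx
    have hgA' : ∀ x ∈ A, (g : G)⁻¹ * x * (g : G) ∈ A := fun x hx => by
      have := (mem_normalizer_iff.1 (inv_mem hgN) x).1 hx
      simpa using this
    have hT' : T' ≤ normalizer (A : Set G) := by
      rintro _ ⟨t, ht, rfl⟩
      exact mul_mem (mul_mem hgN (hT ht)) (inv_mem hgN)
    have hZ' : Z' ≤ A := by
      rintro _ ⟨z, hz, rfl⟩
      exact hgA z (hZ hz)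
    have hZT' : ∀ z ∈ Z', ∀ t ∈ T', t * z = z * t := by
      rintro _ ⟨z, hz, rfl⟩ _ ⟨t, ht, rfl⟩
      rw [← map_mul, ← map_mul, hZT z hz t ht]
    have hAT' : ∀ x ∈ A, ∀ t ∈ T', t * x * t⁻¹ * x⁻¹ ∈ Z' := by
      rintro x hx _ ⟨t, ht, rfl⟩
      refine ⟨t * ((g : G)⁻¹ * x * g) * t⁻¹ * ((g : G)⁻¹ * x * g)⁻¹, hAT _ (hgA' x hx) t ht, ?_⟩
      simp only [MulEquiv.toMonoidHom_eq_coe, MonoidHom.coe_coe, MulAut.conj_apply]
      group
    have hsurj' : ∀ x ∈ A, (∃ t ∈ T', t * x ≠ x * t) → ∀ z ∈ Z', ∃ t ∈ T', t * x * t⁻¹ = z * x := by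
      rintro x hx ⟨_, ⟨t, ht, rfl⟩, hne⟩ _ ⟨z, hz, rfl⟩
      obtain ⟨t₀, ht₀, h0⟩ := hsurj ((g : G)⁻¹ * x * g) (hgA' x hx) ⟨t, ht, by
        intro h
        apply hne
        simp only [MulEquiv.toMonoidHom_eq_coe, MonoidHom.coe_coe, MulAut.conj_apply]
        calc (g : G) * t * (g : G)⁻¹ * x = g * (t * ((g : G)⁻¹ * x * g)) * (g : G)⁻¹ := by group
          _ = g * (((g : G)⁻¹ * x * g) * t) * (g : G)⁻¹ := by rw [h]
          _ = x * (g * t * (g : G)⁻¹) := by group⟩ z hz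
      refine ⟨_, ⟨t₀, ht₀, rfl⟩, ?_⟩
      simp only [MulEquiv.toMonoidHom_eq_coe, MonoidHom.coe_coe, MulAut.conj_apply]
      calc (g : G) * t₀ * (g : G)⁻¹ * x * ((g : G) * t₀ * (g : G)⁻¹)⁻¹ =
            g * (t₀ * ((g : G)⁻¹ * x * g) * t₀⁻¹) * (g : G)⁻¹ := by group
        _ = g * (z * ((g : G)⁻¹ * x * g)) * (g : G)⁻¹ := by rw [h0]
        _ = g * z * (g : G)⁻¹ * x := by group
    have hk4 : ∀ k ∈ T ⊔ T', ∀ x ∈ A, k ^ 4 * x * (k ^ 4)⁻¹ = x := by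
      by_cases hc1 : ∀ z ∈ Z', ∀ t ∈ T, t * z = z * t
      · exact isPGroup_map_sup hsq hcomm hT hT' hZ hZ' hAT hAT' hZT hZT' hc1
      · by_cases hc2 : ∀ z ∈ Z, ∀ t ∈ T', t * z = z * t
        · rw [sup_comm]
          exact isPGroup_map_sup hsq hcomm hT' hT hZ' hZ hAT' hAT hZT' hZT hc2
        · exfalso
          push Not at hc1 hc2
          obtain ⟨z', hz', t', ht', hne'⟩ := hc1
          obtain ⟨z, hz, t, ht, hne⟩ := hc2
          obtain ⟨t₁, ht₁, h₁⟩ := hsurj z' (hZ' hz') ⟨t', ht', hne'⟩ z hz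
          obtain ⟨t₂, ht₂, h₂⟩ := hsurj' z (hZ hz) ⟨t, ht, hne⟩ z' hz'
          apply h3
          refine three_dvd_card hsq hcomm (hZ hz) (hZ' hz') ?_ (hZT z hz t₁ ht₁)
            (hZT' z' hz' t₂ ht₂) h₁ h₂
          intro h
          apply hne'
          rw [← h]
          exact hZT z hz t' ht'
    -- the group generated by the two images is a 2-group
    have hle : X ⊔ X.map (MulAut.conj (⟨ρ g, ⟨g, rfl⟩⟩ : ρ.range)).toMonoidHom ≤
        ((T ⊔ T').subgroupOf (normalizer (A : Set G))).map ρ.rangeRestrict := by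
      refine sup_le (map_mono ?_) ?_
      · intro x hx
        exact le_sup_left (a := T) hx
      · rintro _ ⟨_, ⟨t, ht, rfl⟩, rfl⟩
        refine ⟨g * t * g⁻¹, ?_, ?_⟩
        · refine le_sup_right (a := T) ?_
          exact ⟨t, ht, rfl⟩
        · apply Subtype.ext
          simp
    refine IsPGroup.to_le ?_ hle
    rintro ⟨_, ⟨k, hk, rfl⟩⟩
    refine ⟨2, ?_⟩
    apply Subtype.ext
    apply Subtype.ext
    ext a
    have h := hk4 (k : G) hk a a.2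
    have h' : ((ρ (k ^ 4) a : A) : G) = a := h
    simpa using h'
  have hK : (Subgroup.normalClosure (X : Set ρ.range) : Subgroup ρ.range).map ρ.range.subtype = ⊥ := by
    apply range_core hA hA1 hirr
    · exact hX.map _
    · rintro n _ ⟨k, hk, rfl⟩
      refine ⟨⟨ρ n, ⟨n, rfl⟩⟩ * k * (⟨ρ n, ⟨n, rfl⟩⟩ : ρ.range)⁻¹, ?_, rfl⟩
      exact Subgroup.normalClosure_normal.conj_mem k hk _
  intro t ht
  rw [mem_centralizer_iff]
  intro a ha
  have h1 : (ρ ⟨t, hT ht⟩) ∈ (Subgroup.normalClosure (X : Set ρ.range) : Subgroup ρ.range).map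
      ρ.range.subtype := by
    refine ⟨⟨ρ ⟨t, hT ht⟩, ⟨_, rfl⟩⟩, ?_, rfl⟩
    apply Subgroup.subset_normalClosure
    exact ⟨⟨t, hT ht⟩, ht, rfl⟩
  rw [hK, mem_bot] at h1
  have h2 := congrArg (fun φ : MulAut A => ((φ ⟨a, ha⟩ : A) : G)) h1
  have h3 : t * a * t⁻¹ = a := h2
  calc a * t = (t * a * t⁻¹) * t := by rw [h3]
    _ = t * a := by group

end Cfsg.Agent.ThreePrime.Chain
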