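import Mathlib
import Cfsg.Agent.ThreePrime.Chain

/-!
# Direct factors with abelian centralizers

`Fac P T R`: `P = T × R` (internally), `T` is nonabelian and the centralizer in `T` of every noncentral element of
`T` is abelian.  Two such factors `T`, `T'` of `P` either commute or coincide modulo `Z(P)`.
-/

set_option autoImplicit false

namespace Cfsg.Agent.ThreePrime.Factor

open Subgroup
open scoped commutatorElement
open Cfsg.Agent.ThreePrime.Chain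

variable {G : Type*} [Group G]

/-- `P = T × R`, `T` nonabelian with abelian centralizers of noncentral elements. -/
structure Fac (P T R : Subgroup G) : Prop where
  T_le : T ≤ P
  R_le : R ≤ P
  comm : ∀ t ∈ T, ∀ r ∈ R, t * r = r * t
  inf : ∀ x ∈ T, x ∈ R → x = 1
  ex : ∀ p ∈ P, ∃ t ∈ T, ∃ r ∈ R, p = t * r
  abel : ∀ u ∈ T, (∃ v ∈ T, u * v ≠ v * u) → ∀ x ∈ T, ∀ y ∈ T, x * u = u * x → y * u = u * y →
    x * y = y * x
  nonab : ∃ x ∈ T, ∃ y ∈ T, x * y ≠ y * x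

variable {P T R T' R' : Subgroup G}

theorem comm_components (h : Fac P T R) {t₁ t₂ r₁ r₂ : G} (ht₁ : t₁ ∈ T) (ht₂ : t₂ ∈ T)
    (hr₁ : r₁ ∈ R) (hr₂ : r₂ ∈ R) (hc : t₁ * r₁ * (t₂ * r₂) = t₂ * r₂ * (t₁ * r₁)) :
    t₁ * t₂ = t₂ * t₁ := by
  have e1 : t₁ * r₁ * (t₂ * r₂) = (t₁ * t₂) * (r₁ * r₂) := by
    rw [mul_assoc, ← mul_assoc r₁, ← h.comm t₂ ht₂ r₁ hr₁]
    simp only [mul_assoc]
  have e2 : t₂ * r₂ * (t₁ * r₁) = (t₂ * t₁) * (r₂ * r₁) := by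
    rw [mul_assoc, ← mul_assoc r₂, ← h.comm t₁ ht₁ r₂ hr₂]
    simp only [mul_assoc]
  rw [e1, e2] at hc
  have h1 : (t₂ * t₁)⁻¹ * (t₁ * t₂) = (r₂ * r₁) * (r₁ * r₂)⁻¹ := by
    rw [inv_mul_eq_iff_eq_mul, ← mul_assoc, ← hc]
    group
  have h2 : (t₂ * t₁)⁻¹ * (t₁ * t₂) = 1 := by
    apply h.inf _ (mul_mem (inv_mem (mul_mem ht₂ ht₁)) (mul_mem ht₁ ht₂))
    rw [h1]
    exact mul_mem (mul_mem hr₂ hr₁) (inv_mem (mul_mem hr₁ hr₂))
  rwa [inv_mul_eq_one, eq_comm] at h2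

/-- one half of the dichotomy. -/
theorem dichotomy_aux (h : Fac P T R) (h' : Fac P T' R') :
    (∀ t ∈ T, ∀ t' ∈ T', t * t' = t' * t) ∨ (∀ t ∈ T, ∀ r' ∈ R', t * r' = r' * t) := by
  by_cases hX : ∀ t' ∈ T', ∀ t ∈ T, ∀ r ∈ R, t' = t * r → ∀ v ∈ T, t * v = v * t
  · left
    intro v hv t' ht'
    obtain ⟨t, ht, r, hr, rfl⟩ := h.ex t' (h'.T_le ht')
    rw [← mul_assoc, ← hX _ ht' t ht r hr rfl v hv, mul_assoc, h.comm v hv r hr, mul_assoc]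
  · right
    push Not at hX
    obtain ⟨t', ht', x, hx, r, hr, hxr, v, hv, hxv⟩ := hX
    -- all components of elements of `R'` commute with `x`
    have hYx : ∀ r' ∈ R', ∀ y ∈ T, ∀ s ∈ R, r' = y * s → y * x = x * y := by
      intro r' hr' y hy s hs he
      apply comm_components h hy hx hs hr
      rw [← he, ← hxr, h'.comm t' ht' r' hr']
    have hY : ∀ r' ∈ R', ∀ y ∈ T, ∀ s ∈ R, r' = y * s → ∀ v ∈ T, y * v = v * y := by
      by_contra hcon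
      push Not at hcon
      obtain ⟨r₀, hr₀, y₀, hy₀, s₀, hs₀, he₀, v₀, hv₀, hne₀⟩ := hcon
      -- elements of `X` commute with `y₀`
      have hXy : ∀ a ∈ T', ∀ t ∈ T, ∀ r ∈ R, a = t * r → t * y₀ = y₀ * t := by
        intro a ha t ht r hr he
        apply comm_components h ht hy₀ hr hs₀
        rw [← he, ← he₀, h'.comm a ha r₀ hr₀]
      obtain ⟨a, ha, b, hb, hab⟩ := h.nonab
      obtain ⟨a', ha', a'', ha'', hae⟩ := h'.ex a (h.T_le ha)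
      obtain ⟨b', hb', b'', hb'', hbe⟩ := h'.ex b (h.T_le hb)
      obtain ⟨t₁, ht₁, r₁, hr₁, e₁⟩ := h.ex a' (h'.T_le ha')
      obtain ⟨t₂, ht₂, r₂, hr₂, e₂⟩ := h.ex a'' (h'.R_le ha'')
      obtain ⟨t₃, ht₃, r₃, hr₃, e₃⟩ := h.ex b' (h'.T_le hb')
      obtain ⟨t₄, ht₄, r₄, hr₄, e₄⟩ := h.ex b'' (h'.R_le hb'')
      -- a = t₁ t₂, b = t₃ t₄
      have key : ∀ c ∈ T, ∀ p ∈ T, ∀ p' ∈ R, ∀ q ∈ T, ∀ q' ∈ R, c = p * p' * (q * q') →
          c = p * q := by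
        intro c hc p hp p' hp' q hq q' hq' he
        have e1 : p * p' * (q * q') = (p * q) * (p' * q') := by
          rw [mul_assoc, ← mul_assoc p', ← h.comm q hq p' hp']
          simp only [mul_assoc]
        rw [e1] at he
        have h1 : (p * q)⁻¹ * c = p' * q' := by rw [he]; group
        have h2 : (p * q)⁻¹ * c = 1 := by
          apply h.inf _ (mul_mem (inv_mem (mul_mem hp hq)) hc)
          rw [h1]
          exact mul_mem hp' hq'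
        rwa [inv_mul_eq_one, eq_comm] at h2
      have ha12 : a = t₁ * t₂ := key a ha t₁ ht₁ r₁ hr₁ t₂ ht₂ r₂ hr₂ (by rw [hae, e₁, e₂])
      have hb34 : b = t₃ * t₄ := key b hb t₃ ht₃ r₃ hr₃ t₄ ht₄ r₄ hr₄ (by rw [hbe, e₃, e₄])
      have c13 : t₁ * t₃ = t₃ * t₁ := h.abel y₀ hy₀ ⟨v₀, hv₀, hne₀⟩ t₁ ht₁ t₃ ht₃
        (hXy a' ha' t₁ ht₁ r₁ hr₁ e₁) (hXy b' hb' t₃ ht₃ r₃ hr₃ e₃)
      have c24 : t₂ * t₄ = t₄ * t₂ := h.abel x hx ⟨v, hv, hxv⟩ t₂ ht₂ t₄ ht₄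
        (hYx a'' ha'' t₂ ht₂ r₂ hr₂ e₂) (hYx b'' hb'' t₄ ht₄ r₄ hr₄ e₄)
      have c14 : t₁ * t₄ = t₄ * t₁ := comm_components h ht₁ ht₄ hr₁ hr₄ (by
        rw [← e₁, ← e₄, h'.comm a' ha' b'' hb''])
      have c23 : t₂ * t₃ = t₃ * t₂ := (comm_components h ht₃ ht₂ hr₃ hr₂ (by
        rw [← e₃, ← e₂, h'.comm b' hb' a'' ha''])).symm
      apply hab
      rw [ha12, hb34]
      calc t₁ * t₂ * (t₃ * t₄) = t₁ * (t₂ * t₃) * t₄ := by simp only [mul_assoc]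
        _ = (t₁ * t₃) * (t₂ * t₄) := by rw [c23]; simp only [mul_assoc]
        _ = (t₃ * t₁) * (t₄ * t₂) := by rw [c13, c24]
        _ = t₃ * (t₁ * t₄) * t₂ := by simp only [mul_assoc]
        _ = t₃ * t₄ * (t₁ * t₂) := by rw [c14]; simp only [mul_assoc]
    intro t ht r' hr'
    obtain ⟨y, hy, s, hs, rfl⟩ := h.ex r' (h'.R_le hr')
    rw [← mul_assoc, ← hY _ hr' y hy s hs rfl t ht, mul_assoc, h.comm t ht s hs, mul_assoc]

/-- **Dichotomy** for two factors. -/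
theorem dichotomy (h : Fac P T R) (h' : Fac P T' R') :
    (∀ t ∈ T, ∀ t' ∈ T', t * t' = t' * t) ∨
      ((∀ t ∈ T, ∀ r' ∈ R', t * r' = r' * t) ∧ (∀ t' ∈ T', ∀ r ∈ R, t' * r = r * t')) := by
  rcases dichotomy_aux h h' with h1 | h1
  · exact Or.inl h1
  · rcases dichotomy_aux h' h with h2 | h2
    · exact Or.inl fun t ht t' ht' => (h2 t' ht' t ht).symm
    · exact Or.inr ⟨h1, h2⟩

/-- commuting factors. -/
theorem commutator_le_of_comm (h : Fac P T R) (h' : Fac P T' R')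
    (hc : ∀ t ∈ T, ∀ t' ∈ T', t * t' = t' * t) : ⁅T', T'⁆ ≤ R := by
  rw [commutator_le]
  intro a ha b hb
  obtain ⟨t₁, ht₁, r₁, hr₁, rfl⟩ := h.ex a (h'.T_le ha)
  obtain ⟨t₂, ht₂, r₂, hr₂, rfl⟩ := h.ex b (h'.T_le hb)
  have c1 : ∀ v ∈ T, t₁ * v = v * t₁ := by
    intro v hv
    have := hc v hv _ ha
    rw [mul_assoc t₁, ← h.comm v hv r₁ hr₁, ← mul_assoc, ← mul_assoc] at this
    exact (mul_right_cancel this).symm
  have c2 : ∀ v ∈ T, t₂ * v = v * t₂ := by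
    intro v hv
    have := hc v hv _ hb
    rw [mul_assoc t₂, ← h.comm v hv r₂ hr₂, ← mul_assoc, ← mul_assoc] at this
    exact (mul_right_cancel this).symm
  have e1 : ⁅t₁ * r₁, t₂ * r₂⁆ = ⁅r₁, r₂⁆ := by
    have hA : Commute t₁ t₂ := c1 t₂ ht₂
    have hB : Commute t₁ r₁ := h.comm t₁ ht₁ r₁ hr₁
    have hC : Commute t₁ r₂ := h.comm t₁ ht₁ r₂ hr₂
    have hD : Commute t₂ r₁ := h.comm t₂ ht₂ r₁ hr₁
    have hE : Commute t₂ r₂ := h.comm t₂ ht₂ r₂ hr₂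
    simp only [commutatorElement_def, mul_inv_rev]
    calc t₁ * r₁ * (t₂ * r₂) * (r₁⁻¹ * t₁⁻¹) * (r₂⁻¹ * t₂⁻¹)
        = t₁ * (r₁ * t₂) * r₂ * r₁⁻¹ * t₁⁻¹ * (r₂⁻¹ * t₂⁻¹) := by simp only [mul_assoc]
      _ = t₁ * (t₂ * r₁) * r₂ * r₁⁻¹ * t₁⁻¹ * (t₂⁻¹ * r₂⁻¹) := by
          rw [hD.eq, (hE.inv_inv).eq]
      _ = (t₁ * t₂) * (r₁ * r₂ * r₁⁻¹) * (t₁⁻¹ * t₂⁻¹) * r₂⁻¹ := by simp only [mul_assoc]
      _ = (r₁ * r₂ * r₁⁻¹) * (t₁ * t₂) * (t₁⁻¹ * t₂⁻¹) * r₂⁻¹ := by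
          have : Commute (t₁ * t₂) (r₁ * r₂ * r₁⁻¹) :=
            ((hB.mul_right hC).mul_right hB.inv_right).mul_left
              ((hD.mul_right hE).mul_right hD.inv_right)
          rw [this.eq]
      _ = (r₁ * r₂ * r₁⁻¹) * ((t₂ * t₁) * (t₁⁻¹ * t₂⁻¹)) * r₂⁻¹ := by
          rw [hA.eq]; simp only [mul_assoc]
      _ = r₁ * r₂ * r₁⁻¹ * r₂⁻¹ := by group
  rw [e1]
  exact R.mul_mem (R.mul_mem (R.mul_mem hr₁ hr₂) (R.inv_mem hr₁)) (R.inv_mem hr₂)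

/-- factors which coincide modulo the centre. -/
theorem commutator_le_of_comm' (h : Fac P T R) (h' : Fac P T' R')
    (hc : ∀ t' ∈ T', ∀ r ∈ R, t' * r = r * t') : ⁅T', T'⁆ ≤ ⁅T, T⁆ := by
  rw [commutator_le]
  intro a ha b hb
  obtain ⟨t₁, ht₁, r₁, hr₁, rfl⟩ := h.ex a (h'.T_le ha)
  obtain ⟨t₂, ht₂, r₂, hr₂, rfl⟩ := h.ex b (h'.T_le hb)
  have c1 : ∀ v ∈ R, r₁ * v = v * r₁ := by
    intro v hv
    have := hc _ ha v hv
    rw [mul_assoc, ← mul_assoc v, ← h.comm t₁ ht₁ v hv, mul_assoc] at this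
    exact mul_left_cancel this
  have c2 : ∀ v ∈ R, r₂ * v = v * r₂ := by
    intro v hv
    have := hc _ hb v hv
    rw [mul_assoc, ← mul_assoc v, ← h.comm t₂ ht₂ v hv, mul_assoc] at this
    exact mul_left_cancel this
  have e1 : ⁅t₁ * r₁, t₂ * r₂⁆ = ⁅t₁, t₂⁆ := by
    have hA : Commute r₁ r₂ := c1 r₂ hr₂
    have hB : Commute t₁ r₁ := h.comm t₁ ht₁ r₁ hr₁
    have hC : Commute t₁ r₂ := h.comm t₁ ht₁ r₂ hr₂
    have hD : Commute t₂ r₁ := h.comm t₂ ht₂ r₁ hr₁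
    have hE : Commute t₂ r₂ := h.comm t₂ ht₂ r₂ hr₂
    simp only [commutatorElement_def, mul_inv_rev]
    calc t₁ * r₁ * (t₂ * r₂) * (r₁⁻¹ * t₁⁻¹) * (r₂⁻¹ * t₂⁻¹)
        = t₁ * (r₁ * t₂) * r₂ * (r₁⁻¹ * t₁⁻¹) * (r₂⁻¹ * t₂⁻¹) := by simp only [mul_assoc]
      _ = t₁ * (t₂ * r₁) * r₂ * (t₁⁻¹ * r₁⁻¹) * (t₂⁻¹ * r₂⁻¹) := by
          rw [hD.eq, (hE.inv_inv).eq, (hB.inv_inv).eq]
      _ = (t₁ * t₂) * (r₁ * r₂) * t₁⁻¹ * (r₁⁻¹ * t₂⁻¹) * r₂⁻¹ := by simp only [mul_assoc]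
      _ = (t₁ * t₂) * (r₁ * r₂) * t₁⁻¹ * (t₂⁻¹ * r₁⁻¹) * r₂⁻¹ := by rw [(hD.inv_inv).eq]
      _ = (t₁ * t₂) * ((r₁ * r₂) * (t₁⁻¹ * t₂⁻¹)) * (r₁⁻¹ * r₂⁻¹) := by simp only [mul_assoc]
      _ = (t₁ * t₂) * ((t₁⁻¹ * t₂⁻¹) * (r₁ * r₂)) * (r₁⁻¹ * r₂⁻¹) := by
          have : Commute (r₁ * r₂) (t₁⁻¹ * t₂⁻¹) :=
            ((hB.symm.inv_right).mul_right (hD.symm.inv_right)).mul_left
              ((hC.symm.inv_right).mul_right (hE.symm.inv_right))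
          rw [this.eq]
      _ = t₁ * t₂ * t₁⁻¹ * t₂⁻¹ * ((r₁ * r₂) * (r₁⁻¹ * r₂⁻¹)) := by simp only [mul_assoc]
      _ = t₁ * t₂ * t₁⁻¹ * t₂⁻¹ := by rw [hA.eq]; group
  rw [e1]
  exact commutator_mem_commutator ht₁ ht₂

theorem commutator_eq_of_comm' (h : Fac P T R) (h' : Fac P T' R')
    (hc : (∀ t ∈ T, ∀ r' ∈ R', t * r' = r' * t) ∧ (∀ t' ∈ T', ∀ r ∈ R, t' * r = r * t')) :
    ⁅T', T'⁆ = ⁅T, T⁆ :=
  le_antisymm (commutator_le_of_comm' h h' hc.2) (commutator_le_of_comm' h' h hc.1)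

/-- conjugates of a factor by elements normalising `P`. -/
theorem Fac.conj (h : Fac P T R) {n : G} (hn : n ∈ normalizer (P : Set G)) :
    Fac P (T.map (MulAut.conj n).toMonoidHom) (R.map (MulAut.conj n).toMonoidHom) := by
  have hnP : ∀ x ∈ P, n * x * n⁻¹ ∈ P := fun x hx => (mem_normalizer_iff.1 hn x).1 hx
  have hnP' : ∀ x ∈ P, n⁻¹ * x * n ∈ P := fun x hx => by
    have := (mem_normalizer_iff.1 (inv_mem hn) x).1 hx
    simpa using this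
  refine ⟨?_, ?_, ?_, ?_, ?_, ?_, ?_⟩
  · rintro _ ⟨t, ht, rfl⟩
    exact hnP t (h.T_le ht)
  · rintro _ ⟨t, ht, rfl⟩
    exact hnP t (h.R_le ht)
  · rintro _ ⟨t, ht, rfl⟩ _ ⟨r, hr, rfl⟩
    rw [← map_mul, ← map_mul, h.comm t ht r hr]
  · rintro _ ⟨t, ht, rfl⟩ ⟨r, hr, hrt⟩
    have : r = t := (MulAut.conj n).injective hrt
    rw [h.inf t ht (this ▸ hr), map_one]
  · intro p hp
    obtain ⟨t, ht, r, hr, he⟩ := h.ex _ (hnP' p hp)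
    refine ⟨_, ⟨t, ht, rfl⟩, _, ⟨r, hr, rfl⟩, ?_⟩
    rw [← map_mul, ← he]
    simp only [MulEquiv.toMonoidHom_eq_coe, MonoidHom.coe_coe, MulAut.conj_apply]
    group
  · rintro _ ⟨u, hu, rfl⟩ ⟨_, ⟨v, hv, rfl⟩, hne⟩ _ ⟨x, hx, rfl⟩ _ ⟨y, hy, rfl⟩ hxu hyu
    rw [← map_mul, ← map_mul] at hne hxu hyu ⊢
    rw [h.abel u hu ⟨v, hv, fun hh => hne (by rw [hh])⟩ x hx y hy
      ((MulAut.conj n).injective hxu) ((MulAut.conj n).injective hyu)]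
  · obtain ⟨x, hx, y, hy, hxy⟩ := h.nonab
    refine ⟨_, ⟨x, hx, rfl⟩, _, ⟨y, hy, rfl⟩, ?_⟩
    rw [← map_mul, ← map_mul]
    exact fun hh => hxy ((MulAut.conj n).injective hh)

theorem Fac.commutator_ne_bot (h : Fac P T R) : ⁅T, T⁆ ≠ ⊥ := by
  obtain ⟨x, hx, y, hy, hxy⟩ := h.nonab
  intro hb
  rw [commutator_eq_bot_iff_le_centralizer] at hb
  exact hxy ((mem_centralizer_iff.1 (hb hy) x hx))

theorem map_conj_commutator (T : Subgroup G) (n : G) :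
    ⁅T.map (MulAut.conj n).toMonoidHom, T.map (MulAut.conj n).toMonoidHom⁆ =
      ⁅T, T⁆.map (MulAut.conj n).toMonoidHom := (map_commutator T T _).symm

/-- If `⁅T,T⁆ ≤ A`, `N_G(A)` is irreducible on `A` and `A ∩ R ≠ 1`, some conjugate of `⁅T,T⁆` is contained in
`A ∩ R`. -/
theorem exists_conj_le (h : Fac P T R) {A : Subgroup G} (hirr : Irr A) (hBA : ⁅T, T⁆ ≤ A)
    (hF : ∀ n ∈ normalizer (A : Set G), ∃ c ∈ centralizer (A : Set G),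
      c * n ∈ normalizer (P : Set G)) {a : G} (haA : a ∈ A) (haR : a ∈ R) (ha : a ≠ 1) :
    ∃ n ∈ normalizer (A : Set G), ⁅T, T⁆.map (MulAut.conj n).toMonoidHom ≤ A ⊓ R := by
  by_contra hcon
  push Not at hcon
  have hB : ⁅T, T⁆ = A := by
    apply hirr _ hBA h.commutator_ne_bot
    intro n hn b hb
    obtain ⟨c, hc, hcn⟩ := hF n hn
    have hcA : c ∈ normalizer (A : Set G) := centralizer_le_normalizer _ hc
    have h' := h.conj hcn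
    rcases dichotomy h h' with h1 | h1
    · exfalso
      apply hcon (c * n) (mul_mem hcA hn)
      refine le_inf ?_ ?_
      · rintro _ ⟨x, hx, rfl⟩
        exact (mem_normalizer_iff.1 (mul_mem hcA hn) x).1 (hBA hx)
      · rw [← map_conj_commutator]
        exact commutator_le_of_comm h h' h1
    · have h2 := commutator_eq_of_comm' h h' h1
      rw [map_conj_commutator] at h2
      have h3 : n * b * n⁻¹ ∈ A := (mem_normalizer_iff.1 hn b).1 (hBA hb)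
      have h4 : (c * n) * b * (c * n)⁻¹ ∈ ⁅T, T⁆ := by
        have : (c * n) * b * (c * n)⁻¹ ∈ ⁅T, T⁆.map (MulAut.conj (c * n)).toMonoidHom := ⟨b, hb, rfl⟩
        rwa [h2] at this
      have h5 : (c * n) * b * (c * n)⁻¹ = n * b * n⁻¹ := by
        have h6 := mem_centralizer_iff.1 hc _ h3
        calc (c * n) * b * (c * n)⁻¹ = c * (n * b * n⁻¹) * c⁻¹ := by group
          _ = (n * b * n⁻¹) * c * c⁻¹ := by rw [h6]
          _ = n * b * n⁻¹ := by group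
      rwa [h5] at h4
  apply ha
  apply h.inf a _ haR
  rw [← hB] at haA
  exact commutator_le_self T haA

end Cfsg.Agent.ThreePrime.Factor
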