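import Mathlib
import Cfsg.Agent.ThreePrime.CenterTrivial
import Cfsg.Agent.ThreePrime.Factor

/-!
# Facts on the components not centralised by `A`
-/

set_option autoImplicit false

namespace Cfsg.Agent.ThreePrime.ACFacts

open Subgroup
open scoped commutatorElement
open Cfsg
open Cfsg.Agent.ThreePrime.SzData
open Cfsg.Agent.ThreePrime.Comp
open Cfsg.Agent.ThreePrime.AComp
open Cfsg.Agent.ThreePrime.CenterTrivial
open Cfsg.Agent.ThreePrime.Factor
open Cfsg.Agent.SignalizersComponents.CompBasic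
open Cfsg.Agent.SignalizersComponents.Components

universe u

variable {X : Type u} [Group X]

/-- Facts on a component `J` not centralised by `A`. -/
structure AC (S : Sylow 2 X) (A J : Subgroup X) : Prop where
  comp : IsComponent J
  /-- `Z(J) = 1` -/
  ctr : ∀ z ∈ J, (∀ k ∈ J, k * z = z * k) → z = 1
  /-- `A ∩ J ≠ 1` -/
  ex : ∃ b ∈ A, b ∈ J ∧ b ≠ 1
  /-- `A` acts on `J` as `A ∩ J`. -/
  act : ∀ a ∈ A, ∃ b ∈ A, b ∈ J ∧ ∀ k ∈ J, a * k * a⁻¹ = b * k * b⁻¹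
  /-- `C_J(a) = S ∩ J` for `a` in `A` not centralising `J`. -/
  fix : ∀ a ∈ A, a ∉ centralizer (J : Set X) → ∀ k ∈ J, k * a = a * k → k ∈ (S : Subgroup X)
  /-- odd order elements centralising `S ∩ J` centralise `J`. -/
  cent : ∀ y ∈ normalizer (J : Set X), Odd (orderOf y) →
    (∀ t ∈ J, t ∈ (S : Subgroup X) → y * t = t * y) → y ∈ centralizer (J : Set X)
  /-- the commutator subgroup of `S ∩ J` is `A ∩ J`. -/
  comm_eq : ⁅(S : Subgroup X) ⊓ J, (S : Subgroup X) ⊓ J⁆ = A ⊓ J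
  card : 8 ≤ Nat.card (A ⊓ J : Subgroup X)
  inner : ∀ x ∈ (S : Subgroup X), x ∈ normalizer (J : Set X) →
    ∃ j ∈ J, j ∈ (S : Subgroup X) ∧ ∀ k ∈ J, x * k * x⁻¹ = j * k * j⁻¹
  abel : ∀ t ∈ J, t ∈ (S : Subgroup X) → (∃ v ∈ J, v ∈ (S : Subgroup X) ∧ t * v ≠ v * t) →
    ∀ x ∈ J, x ∈ (S : Subgroup X) → ∀ y ∈ J, y ∈ (S : Subgroup X) →
      x * t = t * x → y * t = t * y → x * y = y * x

variable [Finite X] {S : Sylow 2 X} {A J : Subgroup X}

theorem isoSuzuki_of_equiv {G : Type*} [Group G] {H : Type*} [Group H] (e : G ≃* H)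
    (h : Cfsg.Lie.IsoSuzuki H) : Cfsg.Lie.IsoSuzuki G := by
  obtain ⟨F, i1, i2, m, hm, hF, ⟨f⟩⟩ := h
  exact ⟨F, i1, i2, m, hm, hF, ⟨e.trans f⟩⟩

/-- The standing hypothesis: Sylow 2-subgroups of components commute with `A`. -/
def Good (S : Sylow 2 X) (A : Subgroup X) : Prop :=
  ∀ J : Subgroup X, IsComponent J → ∀ t ∈ J, t ∈ (S : Subgroup X) → ∀ x ∈ A, t * x = x * t

omit [Finite X] in
/-- conjugate components meeting nontrivially are equal, if the centre is trivial. -/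
theorem mem_normalizer_of_conj (hJ : IsComponent J)
    (hc : ∀ z ∈ J, (∀ k ∈ J, k * z = z * k) → z = 1) {x b : X} (hb : b ∈ J) (hb1 : b ≠ 1)
    (hx : x * b * x⁻¹ ∈ J) : x ∈ normalizer (J : Set X) := by
  by_contra hxJ
  set J' := J.map (MulAut.conj x).toMonoidHom with hJ'
  have hne : J' ≠ J := by
    intro he
    apply hxJ
    rw [Subgroup.mem_normalizer_iff_map_conj_eq]
    exact he
  have hcomm := component_commutator_eq_bot_of_ne (isComponent_conj x hJ) hJ hne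
  rw [commutator_eq_bot_iff_le_centralizer] at hcomm
  have h1 : x * b * x⁻¹ ∈ J' := ⟨b, hb, rfl⟩
  have h2 : x * b * x⁻¹ = 1 := by
    apply hc _ hx
    intro k hk
    exact mem_centralizer_iff.1 (hcomm h1) k hk
  apply hb1
  have : b = x⁻¹ * (x * b * x⁻¹) * x := by group
  rw [this, h2]
  group

theorem ac (h : Hyp X) (hA : SC S A) (hT : Good S A) (hJ : IsComponent J)
    (hAJ : ¬ A ≤ centralizer (J : Set X)) : AC S A J := by
  have hbot := center_eq_bot h hA hJ hAJ (fun t ht htS x hx => hT J hJ t ht htS x hx)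
  have e : J ≃* J ⧸ center J :=
    ((QuotientGroup.quotientMulEquivOfEq hbot).trans QuotientGroup.quotientBot).symm
  have hiso : Cfsg.Lie.IsoSuzuki J := isoSuzuki_of_equiv e (isoSuzuki h hJ)
  obtain ⟨Q, hQ⟩ := Cfsg.Agent.S0542.result 2 J hJ.1 S
  have hmemQ : ∀ y : J, y ∈ (Q : Subgroup J) ↔ (y : X) ∈ (S : Subgroup X) := by
    intro y
    rw [hQ, mem_subgroupOf]
  obtain ⟨D, hD⟩ := Cfsg.Agent.ThreePrime.SzRel.exists_szData hiso Q
  have hctr : ∀ z ∈ J, (∀ k ∈ J, k * z = z * k) → z = 1 := by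
    intro z hz hk
    have h1 : (⟨z, hz⟩ : J) ∈ center J := by
      rw [mem_center_iff]
      intro g
      exact Subtype.ext (hk g g.2)
    rw [hbot, mem_bot] at h1
    exact congrArg Subtype.val h1
  have hact : ∀ a ∈ A, ∃ b ∈ A, b ∈ J ∧ ∀ k ∈ J, a * k * a⁻¹ = b * k * b⁻¹ :=
    fun a ha => exists_inf_act h hA hJ hAJ ha
  -- involutions of `S ∩ J`
  have hinv : ∀ z : J, z ∈ (Q : Subgroup J) → z * z = 1 → (z : X) ∈ A := by
    intro z hz hz2
    obtain ⟨b, hb, hbz⟩ := exists_mem_inf h hA hJ hAJ (QuotientGroup.mk z)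
      ((mem_Tq h hJ).2 ((hmemQ z).1 hz)) (by rw [← QuotientGroup.mk_mul, hz2, QuotientGroup.mk_one])
    have h1 : b⁻¹ * z ∈ center J := QuotientGroup.eq.1 hbz
    rw [hbot, mem_bot, inv_mul_eq_one] at h1
    rw [← h1]
    exact hb
  have hAQ : ∀ z : J, (z : X) ∈ A → z ∈ (Q : Subgroup J) := fun z hz => (hmemQ z).2 (hA.le hz)
  have hAsq : ∀ z : J, (z : X) ∈ A → z * z = 1 := fun z hz => Subtype.ext (hA.sq z hz)
  -- `A ∩ J` as the centre of `Q`
  have hZ : (A ⊓ J).subgroupOf J = (Q : Subgroup J) ⊓ centralizer ((Q : Subgroup J) : Set J) := by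
    ext z
    rw [mem_subgroupOf, mem_inf, mem_inf]
    constructor
    · rintro ⟨hzA, -⟩
      refine ⟨hAQ z hzA, mem_centralizer_iff.2 ?_⟩
      intro y hy
      exact ((hD.sq_iff z (hAQ z hzA)).1 (hAsq z hzA) y hy).symm
    · rintro ⟨hzQ, hzc⟩
      refine ⟨hinv z hzQ ?_, z.2⟩
      exact (hD.sq_iff z hzQ).2 (fun y hy => (mem_centralizer_iff.1 hzc y hy).symm)
  have hSJ : (S : Subgroup X) ⊓ J = (Q : Subgroup J).map J.subtype := by
    rw [hQ, subgroupOf_map_subtype]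
  have hcommeq : ⁅(S : Subgroup X) ⊓ J, (S : Subgroup X) ⊓ J⁆ = A ⊓ J := by
    rw [hSJ, ← map_commutator, hD.comm_eq, ← hZ, subgroupOf_map_subtype]
    exact inf_of_le_left inf_le_right
  refine ⟨hJ, hctr, ?_, hact, ?_, ?_, hcommeq, ?_, ?_, ?_⟩
  · obtain ⟨x, hx, hxJ⟩ : ∃ x ∈ A, x ∉ centralizer (J : Set X) := by
      by_contra hcon
      push Not at hcon
      exact hAJ hcon
    obtain ⟨b, hbA, hbJ, hb⟩ := hact x hx
    refine ⟨b, hbA, hbJ, ?_⟩
    rintro rfl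
    apply hxJ
    rw [mem_centralizer_iff]
    intro k hk
    have h1 := hb k hk
    rw [one_mul, inv_one, mul_one] at h1
    calc k * x = (x * k * x⁻¹) * x := by rw [h1]
      _ = x * k := by group
  · intro a ha haJ k hk hka
    obtain ⟨b, hbA, hbJ, hb⟩ := hact a ha
    have hb1 : (⟨b, hbJ⟩ : J) ≠ 1 := by
      intro hb1
      have hb1' : b = 1 := congrArg Subtype.val hb1
      apply haJ
      rw [mem_centralizer_iff]
      intro l hl
      have h1 := hb l hl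
      rw [hb1', one_mul, inv_one, mul_one] at h1
      calc l * a = (a * l * a⁻¹) * a := by rw [h1]
        _ = a * l := by group
    have hkb : b * k * b⁻¹ = k := by
      rw [← hb k hk, ← hka]; group
    have hkb' : k * b * k⁻¹ = b := by
      calc k * b * k⁻¹ = (b * k * b⁻¹) * b * k⁻¹ := by rw [hkb]
        _ = b := by group
    set k' : J := ⟨k, hk⟩
    set b' : J := ⟨b, hbJ⟩
    have hkb2 : k' * b' * k'⁻¹ = b' := Subtype.ext hkb'
    have hb'Q := hAQ b' hbA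
    have hkn := hD.ti k' b' hb'Q hb1 (by rw [hkb2]; exact hb'Q)
    obtain ⟨t, ht, d, hd, hkd⟩ := hD.norm k' hkn
    have hcb := (hD.sq_iff b' hb'Q).1 (hAsq b' hbA) t ht
    have h3 : d * b' * d⁻¹ = b' := by
      rw [hkd] at hkb2
      calc d * b' * d⁻¹ = t⁻¹ * (t * d * b' * (t * d)⁻¹) * t := by group
        _ = t⁻¹ * b' * t := by rw [hkb2]
        _ = t⁻¹ * (b' * t) := by group
        _ = b' := by rw [hcb]; group
    rcases hD.fpf d hd b' hb'Q h3 with h4 | h4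
    · rw [h4, mul_one] at hkd
      rw [← hkd] at ht
      exact (hmemQ k').1 ht
    · exact absurd h4 hb1
  · intro y hy hodd hyT
    have h1 := hD.cent (J.normalizerMonoidHom ⟨y, hy⟩) ?_ ?_
    · rw [mem_centralizer_iff]
      intro k hk
      have h2 := congrArg (fun φ : MulAut J => ((φ ⟨k, hk⟩ : J) : X)) h1
      have h3 : y * k * y⁻¹ = k := h2
      calc k * y = (y * k * y⁻¹) * y := by rw [h3]
        _ = y * k := by group
    · apply Odd.of_dvd_nat _ (orderOf_map_dvd _ _)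
      rwa [Subgroup.orderOf_mk]
    · intro t ht
      apply Subtype.ext
      change y * t * y⁻¹ = t
      rw [hyT t t.2 ((hmemQ t).1 ht)]
      group
  · have h1 := hD.card
    rw [← hZ] at h1
    rwa [Nat.card_congr (subgroupOfEquivOfLe (inf_le_right : A ⊓ J ≤ J)).toEquiv] at h1
  · intro x hx hxJ
    exact exists_inner h S hJ hx hxJ
  · rintro t ht htS ⟨v, hv, hvS, hne⟩ x hx hxS y hy hyS hxt hyt
    have h1 := hD.abel ⟨t, ht⟩ ((hmemQ _).2 htS) ?_ ⟨x, hx⟩ ((hmemQ _).2 hxS) ⟨y, hy⟩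
      ((hmemQ _).2 hyS) (Subtype.ext hxt) (Subtype.ext hyt)
    · exact congrArg Subtype.val h1
    · intro h2
      apply hne
      exact congrArg Subtype.val ((hD.sq_iff ⟨t, ht⟩ ((hmemQ _).2 htS)).1 h2 ⟨v, hv⟩ ((hmemQ _).2 hvS))

omit [Finite X] in
/-- The elements of `S` centralising `A` induce a factorisation `P = (P ∩ J) × C_P(J)`, `P = C_S(A)`. -/
theorem AC.fac (hJ : AC S A J) (hT : Good S A) :
    Fac ((S : Subgroup X) ⊓ centralizer (A : Set X)) ((S : Subgroup X) ⊓ J)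
      ((S : Subgroup X) ⊓ centralizer (A : Set X) ⊓ centralizer (J : Set X)) := by
  have hTA : ∀ t ∈ (S : Subgroup X) ⊓ J, t ∈ (S : Subgroup X) ⊓ centralizer (A : Set X) := by
    rintro t ⟨htS, htJ⟩
    refine ⟨htS, mem_centralizer_iff.2 ?_⟩
    intro x hx
    exact (hT J hJ.comp t htJ htS x hx).symm
  refine ⟨hTA, inf_le_left, ?_, ?_, ?_, ?_, ?_⟩
  · rintro t ⟨-, htJ⟩ r ⟨-, hr⟩
    exact mem_centralizer_iff.1 hr t htJ
  · rintro x ⟨-, hxJ⟩ ⟨-, hx⟩
    exact hJ.ctr x hxJ (mem_centralizer_iff.1 hx)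
  · rintro p ⟨hpS, hpA⟩
    obtain ⟨b, hbA, hbJ, hb1⟩ := hJ.ex
    have hpJ : p ∈ normalizer (J : Set X) := by
      apply mem_normalizer_of_conj hJ.comp hJ.ctr hbJ hb1
      have h1 := mem_centralizer_iff.1 hpA b hbA
      rw [← h1]
      simpa using hbJ
    obtain ⟨j, hjJ, hjS, hj⟩ := hJ.inner p hpS hpJ
    have hjp : j⁻¹ * p ∈ (S : Subgroup X) ⊓ centralizer (A : Set X) :=
      mul_mem (inv_mem (hTA j ⟨hjS, hjJ⟩)) ⟨hpS, hpA⟩
    refine ⟨j, ⟨hjS, hjJ⟩, j⁻¹ * p, ⟨hjp, mem_centralizer_iff.2 ?_⟩, by group⟩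
    intro k hk
    have h1 := hj k hk
    calc k * (j⁻¹ * p) = j⁻¹ * (j * k * j⁻¹) * p := by group
      _ = j⁻¹ * (p * k * p⁻¹) * p := by rw [h1]
      _ = j⁻¹ * p * k := by group
  · rintro u ⟨huS, huJ⟩ ⟨v, ⟨hvS, hvJ⟩, hne⟩ x ⟨hxS, hxJ⟩ y ⟨hyS, hyJ⟩ hxu hyu
    exact hJ.abel u huJ huS ⟨v, hvJ, hvS, hne⟩ x hxJ hxS y hyJ hyS hxu hyu
  · by_contra hcon
    push Not at hcon
    have h1 : ⁅(S : Subgroup X) ⊓ J, (S : Subgroup X) ⊓ J⁆ = ⊥ := by
      rw [commutator_eq_bot_iff_le_centralizer]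
      intro x hx
      rw [mem_centralizer_iff]
      intro y hy
      exact hcon y hy x hx
    have h2 := hJ.card
    rw [← hJ.comm_eq, h1] at h2
    simp at h2

omit [Finite X] in
/-- `A = (A ∩ J) × C_A(J)`. -/
theorem AC.exists_split (hJ : AC S A J) {a : X} (ha : a ∈ A) :
    ∃ b ∈ A, b ∈ J ∧ b⁻¹ * a ∈ centralizer (J : Set X) := by
  obtain ⟨b, hbA, hbJ, hb⟩ := hJ.act a ha
  refine ⟨b, hbA, hbJ, ?_⟩
  rw [mem_centralizer_iff]
  intro k hk
  have h1 := hb k hk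
  calc k * (b⁻¹ * a) = b⁻¹ * (b * k * b⁻¹) * a := by group
    _ = b⁻¹ * (a * k * a⁻¹) * a := by rw [h1]
    _ = b⁻¹ * a * k := by group

end Cfsg.Agent.ThreePrime.ACFacts
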