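import Mathlib
import Cfsg.Prelude.Def_TwoFusion
import Cfsg.Agent.ThreePrime.Chain

/-!
# Data on minimal strongly closed elementary abelian 2-subgroups
-/

set_option autoImplicit false
set_option linter.dupNamespace false

namespace Cfsg.Agent.ThreePrime.GData

open Subgroup
open Cfsg.Agent.ThreePrime.Chain

universe u

variable {G : Type u} [Group G]

/-- Standing hypothesis on the elementary abelian 2-subgroup `A` of `G`. -/
structure GData (A : Subgroup G) : Prop where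
  three : ¬ 3 ∣ Nat.card G
  sq : ∀ x ∈ A, x * x = 1
  comm : ∀ x ∈ A, ∀ y ∈ A, x * y = y * x
  ne : A ≠ ⊥
  sc : ∀ P : Subgroup G, IsPGroup 2 P → A ≤ P → ∀ x ∈ A, ∀ g : G, g * x * g⁻¹ ∈ P → g * x * g⁻¹ ∈ A
  irr : Irr A
  card : 8 ≤ Nat.card A
  ctrl : ∀ x ∈ A, ∀ g : G, g * x * g⁻¹ ∈ A →
    ∃ n ∈ normalizer (A : Set G), n * x * n⁻¹ = g * x * g⁻¹

theorem isPGroup_of_sq {A : Subgroup G} (hsq : ∀ x ∈ A, x * x = 1) : IsPGroup 2 A := by
  intro x
  refine ⟨1, ?_⟩
  rw [pow_one, pow_two]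
  exact Subtype.ext (hsq x x.2)

theorem mem_normalizer_of_forall [Finite G] {A : Subgroup G} {g : G} (h : ∀ x ∈ A, g * x * g⁻¹ ∈ A) :
    g ∈ normalizer (A : Set G) := by
  rw [Subgroup.mem_normalizer_iff_map_conj_eq]
  have hle : A.map (MulAut.conj g).toMonoidHom ≤ A := by
    rintro _ ⟨x, hx, rfl⟩
    exact h x hx
  apply Subgroup.eq_of_le_of_card_ge hle
  rw [card_map_of_injective (MulAut.conj g).injective]

/-- Strong closure in a Sylow 2-subgroup gives strong closure in every 2-subgroup. -/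
theorem sc_of_stronglyClosed [Finite G] {A : Subgroup G} (S : Sylow 2 G)
    (hA : Cfsg.IsStronglyClosed A (S : Subgroup G)) (P : Subgroup G) (hP : IsPGroup 2 P) (hAP : A ≤ P)
    (x : G) (hx : x ∈ A) (h : G) (hh : h * x * h⁻¹ ∈ P) : h * x * h⁻¹ ∈ A := by
  obtain ⟨Q, hQ⟩ := hP.exists_le_sylow
  obtain ⟨g, hg⟩ := MulAction.exists_smul_eq G Q S
  have hmem : ∀ p ∈ P, g * p * g⁻¹ ∈ (S : Subgroup G) := by
    intro p hp
    have h1 : p ∈ (Q : Subgroup G) := hQ hp
    rw [← hg]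
    have h2 : g * p * g⁻¹ ∈ (g • Q : Sylow 2 G) := by
      rw [← SetLike.mem_coe, Sylow.coe_smul]
      exact ⟨p, h1, rfl⟩
    exact h2
  have hgA : ∀ y ∈ A, g * y * g⁻¹ ∈ A := fun y hy => hA.2 y hy g (hmem y (hAP hy))
  have hgN := mem_normalizer_of_forall hgA
  have h1 := hmem _ hh
  have h2 : (g * h) * x * (g * h)⁻¹ ∈ A := by
    apply hA.2 x hx
    have e : (g * h) * x * (g * h)⁻¹ = g * (h * x * h⁻¹) * g⁻¹ := by group
    rw [e]
    exact h1
  have h3 := (mem_normalizer_iff.1 (inv_mem hgN) _).1 h2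
  have e : g⁻¹ * (g * h * x * (g * h)⁻¹) * g⁻¹⁻¹ = h * x * h⁻¹ := by group
  rwa [e] at h3

/-- `N_G(A)` controls fusion in `A`. -/
theorem exists_ctrl [Finite G] {A : Subgroup G} (hsq : ∀ x ∈ A, x * x = 1)
    (hcomm : ∀ x ∈ A, ∀ y ∈ A, x * y = y * x)
    (hsc : ∀ P : Subgroup G, IsPGroup 2 P → A ≤ P → ∀ x ∈ A, ∀ g : G, g * x * g⁻¹ ∈ P →
      g * x * g⁻¹ ∈ A) (x : G) (hx : x ∈ A) (g : G) (hg : g * x * g⁻¹ ∈ A) :
    ∃ n ∈ normalizer (A : Set G), n * x * n⁻¹ = g * x * g⁻¹ := by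
  set y := g * x * g⁻¹ with hy
  set C := centralizer ({y} : Set G) with hC
  have hAC : A ≤ C := by
    intro a ha
    rw [mem_centralizer_singleton_iff]
    exact hcomm a ha y hg
  set A' := A.map (MulAut.conj g).toMonoidHom with hA'
  have hA'C : A' ≤ C := by
    rintro _ ⟨a, ha, rfl⟩
    rw [mem_centralizer_singleton_iff]
    have h1 := hcomm a ha x hx
    change g * a * g⁻¹ * (g * x * g⁻¹) = g * x * g⁻¹ * (g * a * g⁻¹)
    calc g * a * g⁻¹ * (g * x * g⁻¹) = g * (a * x) * g⁻¹ := by group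
      _ = g * (x * a) * g⁻¹ := by rw [h1]
      _ = _ := by group
  have hA2 := isPGroup_of_sq hsq
  have hA2' : IsPGroup 2 A' := hA2.map _
  obtain ⟨P, hP⟩ := (hA2.comap_of_injective C.subtype C.subtype_injective).exists_le_sylow
  obtain ⟨Q, hQ⟩ := (hA2'.comap_of_injective C.subtype C.subtype_injective).exists_le_sylow
  obtain ⟨c, hc⟩ := MulAction.exists_smul_eq C Q P
  have hPG : IsPGroup 2 ((P : Subgroup C).map C.subtype) := P.isPGroup'.map _
  have hAP : A ≤ (P : Subgroup C).map C.subtype := by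
    intro a ha
    exact ⟨⟨a, hAC ha⟩, hP ha, rfl⟩
  have hn : ∀ a ∈ A, ((c : G) * g) * a * ((c : G) * g)⁻¹ ∈ A := by
    intro a ha
    apply hsc _ hPG hAP a ha
    have h1 : g * a * g⁻¹ ∈ A' := ⟨a, ha, rfl⟩
    have h2 : (⟨g * a * g⁻¹, hA'C h1⟩ : C) ∈ (Q : Subgroup C) := hQ h1
    have h3 : c * ⟨g * a * g⁻¹, hA'C h1⟩ * c⁻¹ ∈ (P : Subgroup C) := by
      rw [← hc]
      have h2 : c * ⟨g * a * g⁻¹, hA'C h1⟩ * c⁻¹ ∈ (c • Q : Sylow 2 C) := by
        rw [← SetLike.mem_coe, Sylow.coe_smul]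
        exact ⟨_, h2, rfl⟩
      exact h2
    refine ⟨_, h3, ?_⟩
    simp only [coe_subtype, Subgroup.coe_mul, Subgroup.coe_inv]
    group
  refine ⟨(c : G) * g, mem_normalizer_of_forall hn, ?_⟩
  have hcc := mem_centralizer_singleton_iff.1 c.2
  calc (c : G) * g * x * ((c : G) * g)⁻¹ = c * y * (c : G)⁻¹ := by rw [hy]; group
    _ = y := by rw [hcc]; group

/-- A 3'-group acts trivially on an elementary abelian group of order at most 4 on which it acts
irreducibly. -/
theorem centralizes_of_small [Finite G] (h3 : ¬ 3 ∣ Nat.card G) {A : Subgroup G}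
    (hsq : ∀ x ∈ A, x * x = 1) (hne : A ≠ ⊥) (hirr : Irr A) (hc : Nat.card A < 8) (n : G)
    (hn : n ∈ normalizer (A : Set G)) (x : G) (hx : x ∈ A) : n * x * n⁻¹ = x := by
  classical
  have hA := isPGroup_of_sq hsq
  have hcard : Nat.card A ∣ 4 := by
    obtain ⟨k, hk⟩ := IsPGroup.iff_card.1 hA
    have hk3 : k < 3 := by
      by_contra hcon
      have h1 : 2 ^ 3 ≤ 2 ^ k := Nat.pow_le_pow_right (by norm_num) (by omega)
      omega
    rw [hk]
    exact pow_dvd_pow 2 (show k ≤ 2 by omega)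
  set ρ : normalizer (A : Set G) →* MulAut A := A.normalizerMonoidHom with hρ
  -- the permutation representation on `A - 1`
  let ψ : MulAut A →* Equiv.Perm {a : A // a ≠ 1} :=
    { toFun := fun φ =>
        { toFun := fun a => ⟨φ a, fun h => a.2 (φ.injective (by rw [h, map_one]))⟩
          invFun := fun a => ⟨φ.symm a, fun h => a.2 (φ.symm.injective (by rw [h, map_one]))⟩
          left_inv := fun a => by simp
          right_inv := fun a => by simp }
      map_one' := by ext a; rfl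
      map_mul' := by intro f g; ext a; rfl }
  have hψ : Function.Injective ψ := by
    intro f g hfg
    ext a
    by_cases ha : a = 1
    · rw [ha, map_one, map_one]
    · have h1 := congrArg (fun p : Equiv.Perm {a : A // a ≠ 1} => ((p ⟨a, ha⟩ : {a : A // a ≠ 1}) : A))
        hfg
      exact congrArg Subtype.val h1
  have h6 : ∀ p : Equiv.Perm {a : A // a ≠ 1}, p ^ 6 = 1 := by
    intro p
    have : Fintype A := Fintype.ofFinite A
    have h1 : Nat.card {a : A // a ≠ 1} ≤ 3 := by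
      have h2 : Nat.card A ≤ 4 := Nat.le_of_dvd (by norm_num) hcard
      have h4 := Fintype.card_subtype_compl (fun a : A => a = 1)
      rw [Fintype.card_subtype_eq] at h4
      rw [Nat.card_eq_fintype_card] at h2
      rw [Nat.card_eq_fintype_card]
      have h5 : Fintype.card {a : A // a ≠ 1} = Fintype.card {x : A // ¬ x = 1} := rfl
      omega
    have h2 : Nat.card (Equiv.Perm {a : A // a ≠ 1}) ∣ 6 := by
      rw [Nat.card_perm]
      interval_cases Nat.card {a : A // a ≠ 1} <;> decide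
    obtain ⟨m, hm⟩ := h2
    rw [hm, pow_mul, pow_card_eq_one', one_pow]
  have hK : IsPGroup 2 ρ.range := by
    rintro ⟨_, m, rfl⟩
    refine ⟨1, ?_⟩
    apply Subtype.ext
    change (ρ m) ^ (2 ^ 1) = 1
    have h1 : (ρ m) ^ 6 = 1 := hψ (by rw [map_pow, h6, map_one])
    have h2 : orderOf (ρ m) ∣ 6 := orderOf_dvd_of_pow_eq_one h1
    have h3' : orderOf (ρ m) ∣ Nat.card G :=
      (orderOf_map_dvd ρ m).trans ((orderOf_dvd_natCard m).trans (card_subgroup_dvd_card _))
    have hcop : Nat.Coprime (orderOf (ρ m)) 3 := by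
      rw [Nat.coprime_comm, Nat.Prime.coprime_iff_not_dvd Nat.prime_three]
      exact fun h => h3 (h.trans h3')
    have h4 : orderOf (ρ m) ∣ 2 := by
      have : orderOf (ρ m) ∣ 3 * 2 := h2
      exact hcop.dvd_of_dvd_mul_left this
    rw [pow_one]
    exact orderOf_dvd_iff_pow_eq_one.1 h4
  have hbot := range_core hA hne hirr ρ.range hK (by
    rintro m k hk
    exact mul_mem (mul_mem ⟨m, rfl⟩ hk) (inv_mem ⟨m, rfl⟩))
  have h1 : ρ ⟨n, hn⟩ ∈ ρ.range := ⟨_, rfl⟩
  rw [hbot, mem_bot] at h1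
  exact congrArg (fun φ : MulAut A => ((φ ⟨x, hx⟩ : A) : G)) h1

end Cfsg.Agent.ThreePrime.GData
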