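import Mathlib
import Cfsg.Prelude.Def_TwoFusion
import Cfsg.Agent.S0215
import Cfsg.Agent.ThreePrime.GData
import Cfsg.Agent.TwoFusion.S4FreeFunctor

/-!
# Minimal strongly closed elementary abelian subgroups of simple groups of order prime to 3
-/

set_option autoImplicit false

namespace Cfsg.Agent.ThreePrime.GDataExists

open Subgroup
open Cfsg.Agent.ThreePrime.Chain
open Cfsg.Agent.ThreePrime.GData

universe u

variable {G : Type u} [Group G]

/-- Existence of `A`. -/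
theorem exists_gdata [Finite G] [IsSimpleGroup G] (hna : ∃ a b : G, a * b ≠ b * a)
    (h3 : ¬ 3 ∣ Nat.card G) (heven : Even (Nat.card G)) : ∃ A : Subgroup G, GData A := by
  obtain ⟨S⟩ : Nonempty (Sylow 2 G) := inferInstance
  have hS : (S : Subgroup G) ≠ ⊥ := by
    have := Sylow.ne_bot_of_dvd_card S (even_iff_two_dvd.1 heven)
    exact this
  obtain ⟨A₀, hA1, hA2, hA3⟩ :=
    Cfsg.Agent.TwoFusion.S4FreeFunctor.exists_stronglyClosed h3 S hS
  -- the involutions of `A₀`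
  let A₁ : Subgroup G :=
    { carrier := {x | x ∈ A₀ ∧ x * x = 1}
      mul_mem' := by
        rintro x y ⟨hx, hx2⟩ ⟨hy, hy2⟩
        refine ⟨mul_mem hx hy, ?_⟩
        have h1 : x * y = y * x := congrArg Subtype.val (hA2.is_comm.comm (⟨x, hx⟩ : A₀) ⟨y, hy⟩)
        calc x * y * (x * y) = x * (y * x) * y := by group
          _ = x * (x * y) * y := by rw [h1]
          _ = (x * x) * (y * y) := by group
          _ = 1 := by rw [hx2, hy2, one_mul]
      one_mem' := ⟨one_mem _, one_mul 1⟩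
      inv_mem' := by
        rintro x ⟨hx, hx2⟩
        refine ⟨inv_mem hx, ?_⟩
        rw [← mul_inv_rev, hx2, inv_one] }
  have hA₁S : Cfsg.IsStronglyClosed A₁ (S : Subgroup G) := by
    refine ⟨fun x hx => hA3.1 hx.1, ?_⟩
    rintro x ⟨hx, hx2⟩ g hg
    refine ⟨hA3.2 x hx g hg, ?_⟩
    calc g * x * g⁻¹ * (g * x * g⁻¹) = g * (x * x) * g⁻¹ := by group
      _ = 1 := by rw [hx2]; group
  have hA₁ : A₁ ≠ ⊥ := by
    intro hbot
    apply hA1
    have h2 : IsPGroup 2 A₀ := S.isPGroup'.to_le hA3.1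
    rw [eq_bot_iff]
    intro x hx
    rw [mem_bot]
    by_contra hx1
    obtain ⟨k, hk⟩ := h2 ⟨x, hx⟩
    have hk' : x ^ 2 ^ k = 1 := congrArg Subtype.val hk
    have hex : ∃ k, x ^ 2 ^ k = 1 := ⟨k, hk'⟩
    classical
    set m := Nat.find hex with hm
    have h3 : x ^ 2 ^ m = 1 := Nat.find_spec hex
    rcases Nat.eq_zero_or_pos m with h0 | h0
    · rw [h0, pow_zero, pow_one] at h3
      exact hx1 h3
    · obtain ⟨l, hl⟩ : ∃ l, m = l + 1 := ⟨m - 1, by omega⟩
      have h4 : x ^ 2 ^ l ≠ 1 := Nat.find_min hex (by omega)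
      apply h4
      have h5 : x ^ 2 ^ l ∈ A₁ := by
        refine ⟨pow_mem hx _, ?_⟩
        rw [← pow_two, ← pow_mul, ← pow_succ, ← hl]
        exact h3
      rw [hbot, mem_bot] at h5
      exact h5
  -- a minimal one
  have hfin : ({B : Subgroup G | B ≤ A₁ ∧ B ≠ ⊥ ∧ Cfsg.IsStronglyClosed B (S : Subgroup G)}).Finite :=
    Set.toFinite _
  obtain ⟨A, hAmin⟩ := hfin.exists_minimal ⟨A₁, le_rfl, hA₁, hA₁S⟩
  obtain ⟨⟨hAle, hAne, hAsc⟩, hmin⟩ := hAmin
  have hsq : ∀ x ∈ A, x * x = 1 := fun x hx => (hAle hx).2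
  have hcomm : ∀ x ∈ A, ∀ y ∈ A, x * y = y * x := by
    intro x hx y hy
    exact congrArg Subtype.val (hA2.is_comm.comm (⟨x, (hAle hx).1⟩ : A₀) ⟨y, (hAle hy).1⟩)
  have hsc : ∀ P : Subgroup G, IsPGroup 2 P → A ≤ P → ∀ x ∈ A, ∀ g : G, g * x * g⁻¹ ∈ P →
      g * x * g⁻¹ ∈ A := sc_of_stronglyClosed S hAsc
  have hctrl := exists_ctrl hsq hcomm hsc
  have hirr : Irr A := by
    intro B hB hB1 hn
    have h1 : B ∈ {B : Subgroup G | B ≤ A₁ ∧ B ≠ ⊥ ∧ Cfsg.IsStronglyClosed B (S : Subgroup G)} := by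
      refine ⟨hB.trans hAle, hB1, hB.trans hAsc.1, ?_⟩
      intro b hb g hg
      obtain ⟨n, hnA, hng⟩ := hctrl b (hB hb) g (hAsc.2 b (hB hb) g hg)
      rw [← hng]
      exact hn n hnA b hb
    exact le_antisymm hB (hmin h1 hB)
  refine ⟨A, h3, hsq, hcomm, hAne, hsc, hirr, ?_, hctrl⟩
  by_contra hlt
  rw [not_le] at hlt
  have htriv := centralizes_of_small h3 hsq hAne hirr hlt
  obtain ⟨x, hx, hx1⟩ : ∃ x ∈ A, x ≠ 1 := (bot_or_exists_ne_one A).resolve_left hAne
  have hord : orderOf x = 2 := by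
    apply orderOf_eq_prime _ hx1
    rw [pow_two]
    exact hsq x hx
  obtain ⟨N, hN, hNodd, hNc⟩ := Cfsg.Agent.S0215.result S x hord (hAsc.1 hx) (by
    intro g hg
    obtain ⟨n, hnA, hng⟩ := hctrl x hx g (hAsc.2 x hx g hg)
    rw [← hng]
    exact htriv n hnA x hx)
  rcases IsSimpleGroup.eq_bot_or_eq_top_of_normal N hN with h1 | h1
  · have h2 : x ∈ center G := by
      rw [mem_center_iff]
      intro g
      have h4 := hNc g
      rw [h1, mem_bot] at h4
      calc g * x = 1 * g * x := by group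
        _ = (x * g * x⁻¹ * g⁻¹) * g * x := by rw [h4]
        _ = x * g := by group
    rcases IsSimpleGroup.eq_bot_or_eq_top_of_normal (center G) inferInstance with h5 | h5
    · rw [h5, mem_bot] at h2
      exact hx1 h2
    · obtain ⟨a, b, hab⟩ := hna
      apply hab
      have h6 : b ∈ center G := by rw [h5]; trivial
      exact mem_center_iff.1 h6 a
  · rw [h1, card_top] at hNodd
    exact (Nat.not_even_iff_odd.2 hNodd) heven

end Cfsg.Agent.ThreePrime.GDataExists
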