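import Mathlib
import Cfsg.Prelude.Def_Classical

/-!
# Elements of order 3 in `PSL₂(F)` and `PSU₃(q)`

`3` divides the orders of `PSL₂(F)` and of `PSU₃(q)`, `q ≥ 4` (`q ≥ 3` suffices).
-/

set_option autoImplicit false

namespace Cfsg.Agent.ThreePrime.OrderThree

open Subgroup Cfsg Matrix

/-- An element of order dividing 3 outside a normal subgroup. -/
theorem three_dvd_card_quotient {H : Type*} [Group H] [Finite H] (N : Subgroup H) [N.Normal]
    {x : H} (hx : x ^ 3 = 1) (hxN : x ∉ N) : 3 ∣ Nat.card (H ⧸ N) := by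
  have h1 : ((x : H ⧸ N)) ^ 3 = 1 := by
    rw [← QuotientGroup.mk_pow, hx, QuotientGroup.mk_one]
  have h2 : (x : H ⧸ N) ≠ 1 := by
    rw [Ne, QuotientGroup.eq_one_iff]
    exact hxN
  have h3 : orderOf (x : H ⧸ N) = 3 := by
    have := orderOf_dvd_of_pow_eq_one h1
    rcases (Nat.dvd_prime Nat.prime_three).mp this with h | h
    · exact absurd (orderOf_eq_one_iff.mp h) h2
    · exact h
  rw [← h3]
  exact orderOf_dvd_natCard _

/-- `3` divides the order of `PSL₂(F)`. -/
theorem three_dvd_card_psl (F : Type*) [Field F] [Finite F] :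
    3 ∣ Nat.card (Matrix.ProjectiveSpecialLinearGroup (Fin 2) F) := by
  have : Fintype F := Fintype.ofFinite F
  let M : Matrix.SpecialLinearGroup (Fin 2) F := ⟨!![0, 1; -1, -1], by simp [Matrix.det_fin_two]⟩
  let T : Matrix.SpecialLinearGroup (Fin 2) F := ⟨!![1, 1; 0, 1], by simp [Matrix.det_fin_two]⟩
  refine three_dvd_card_quotient (x := M) _ ?_ ?_
  · apply Subtype.ext
    show ((M ^ 3 : Matrix.SpecialLinearGroup (Fin 2) F) : Matrix (Fin 2) (Fin 2) F) = _
    rw [Matrix.SpecialLinearGroup.coe_pow, pow_succ, pow_two]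
    ext i j
    fin_cases i <;> fin_cases j <;> simp [M, Matrix.mul_apply, Fin.sum_univ_two]
  · intro hM
    have h := mem_center_iff.mp hM T
    have h00 : (T.1 * M.1) 0 0 = (M.1 * T.1) 0 0 :=
      congrArg (fun A : Matrix.SpecialLinearGroup (Fin 2) F =>
        (A : Matrix (Fin 2) (Fin 2) F) 0 0) h
    simp [M, T, Matrix.mul_apply, Fin.sum_univ_two] at h00

theorem slToMat_apply (n : ℕ) (F : Type*) [Field F] (g : Matrix.SpecialLinearGroup (Fin n) F) :
    slToMat n F g = (g : Matrix (Fin n) (Fin n) F) := rfl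

/-- `3` divides the order of `PSU₃(q)` if the field has an element `a ≠ 1` with `a^(q+1) = 1`. -/
theorem three_dvd_card_psu (F : Type*) [Field F] [Fintype F] (q : ℕ)
    (hq : Fintype.card F = q ^ 2) (hq3 : 2 ≤ q) : 3 ∣ Nat.card (PSU 3 F q) := by
  classical
  -- an element of order `q + 1`
  obtain ⟨a, ha1, ha⟩ : ∃ a : F, a ≠ 1 ∧ a * a ^ q = 1 := by
    obtain ⟨g, hg⟩ := IsCyclic.exists_generator (α := Fˣ)
    have hcard : Nat.card Fˣ = (q - 1) * (q + 1) := by
      rw [Nat.card_eq_fintype_card, Fintype.card_units, hq]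
      obtain ⟨k, rfl⟩ : ∃ k, q = k + 1 := ⟨q - 1, by omega⟩
      simp only [Nat.add_sub_cancel]
      have : (k + 1) ^ 2 = k * (k + 1 + 1) + 1 := by ring
      omega
    have hord : orderOf g = (q - 1) * (q + 1) := by
      rw [orderOf_eq_card_of_forall_mem_zpowers hg, hcard]
    have hpos : 0 < (q - 1) * (q + 1) := Nat.mul_pos (by omega) (by omega)
    have h1 : (g ^ (q - 1)) ≠ 1 := by
      intro h
      have h2 := orderOf_dvd_of_pow_eq_one h
      rw [hord] at h2
      have h3 := Nat.le_of_dvd (by omega) h2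
      nlinarith
    refine ⟨((g ^ (q - 1) : Fˣ) : F), fun h => h1 (Units.ext h), ?_⟩
    rw [← pow_succ', ← Units.val_pow_eq_pow_val, ← pow_mul, ← hord, pow_orderOf_eq_one,
      Units.val_one]
  have ha0 : a ≠ 0 := by
    rintro rfl
    simp at ha
  have hainv : a⁻¹ * a⁻¹ ^ q = 1 := by
    rw [inv_pow, ← mul_inv, ha, inv_one]
  -- the two matrices
  let P : Matrix.SpecialLinearGroup (Fin 3) F :=
    ⟨!![0, 1, 0; 0, 0, 1; 1, 0, 0], by simp [Matrix.det_fin_three]⟩
  let D : Matrix.SpecialLinearGroup (Fin 3) F :=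
    ⟨!![a, 0, 0; 0, a⁻¹, 0; 0, 0, 1], by simp [Matrix.det_fin_three, ha0]⟩
  have hP : P ∈ SU 3 F q := by
    intro u v
    show hermForm 3 F q (P.1 *ᵥ u) (P.1 *ᵥ v) = hermForm 3 F q u v
    simp only [hermForm, P, Fin.sum_univ_three, Matrix.mulVec, dotProduct]
    simp
    ring
  have hD : D ∈ SU 3 F q := by
    intro u v
    show hermForm 3 F q (D.1 *ᵥ u) (D.1 *ᵥ v) = hermForm 3 F q u v
    simp only [hermForm, D, Fin.sum_univ_three, Matrix.mulVec, dotProduct]
    simp only [Matrix.of_apply, Matrix.cons_val', Matrix.cons_val_zero, Matrix.cons_val_one,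
      Matrix.cons_val, zero_mul, one_mul, add_zero, zero_add, mul_pow]
    linear_combination (u 0 * v 0 ^ q) * ha + (u 1 * v 1 ^ q) * hainv
  refine three_dvd_card_quotient (x := (⟨P, hP⟩ : SU 3 F q)) _ ?_ ?_
  · apply Subtype.ext
    apply Subtype.ext
    show ((P ^ 3 : Matrix.SpecialLinearGroup (Fin 3) F) : Matrix (Fin 3) (Fin 3) F) = _
    rw [Matrix.SpecialLinearGroup.coe_pow, pow_succ, pow_two]
    ext i j
    fin_cases i <;> fin_cases j <;> simp [P, Matrix.mul_apply, Fin.sum_univ_three]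
  · intro hM
    have h := mem_center_iff.mp hM ⟨D, hD⟩
    have h00 : (D.1 * P.1) 2 0 = (P.1 * D.1) 2 0 := congrArg (fun A : SU 3 F q =>
      ((A : Matrix.SpecialLinearGroup (Fin 3) F) : Matrix (Fin 3) (Fin 3) F) 2 0) h
    simp [P, D, Matrix.mul_apply, Fin.sum_univ_three] at h00
    first | exact ha1 h00 | exact ha1 h00.symm

end Cfsg.Agent.ThreePrime.OrderThree
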