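import Mathlib
import Cfsg.Agent.ThreePrime.Pump

/-!
# Balance: odd order subgroups invariant under `C(a)`, `a` in `A`
-/

set_option autoImplicit false

namespace Cfsg.Agent.ThreePrime.Balance

open Subgroup
open Cfsg
open Cfsg.Agent.Lib.Cores
open Cfsg.Agent.ThreePrime.Comp
open Cfsg.Agent.ThreePrime.AComp
open Cfsg.Agent.ThreePrime.ACFacts
open Cfsg.Agent.ThreePrime.Pump
open Cfsg.Agent.SignalizersComponents.CompBasic
open Cfsg.Agent.SignalizersComponents.Components

universe u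

variable {X : Type u} [Group X] [Finite X] {S : Sylow 2 X} {A : Subgroup X}

/-- a component of `X` has no odd overgroup. -/
theorem not_le_odd (S : Sylow 2 X) (h : Hyp X) {K Y : Subgroup X} (hK : IsComponent K)
    (hY : Odd (Nat.card Y)) : ¬ K ≤ Y := by
  intro hle
  obtain ⟨y, hyK, hyS, k, -, hk⟩ := exists_sq_not_central (S := S) h hK
  obtain ⟨n, hn⟩ := S.isPGroup' ⟨y, hyS⟩
  have hn' : y ^ 2 ^ n = 1 := congrArg Subtype.val hn
  have h1 : orderOf y ∣ 2 ^ n := orderOf_dvd_of_pow_eq_one hn'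
  have h2 : orderOf y ∣ Nat.card Y := by
    have := orderOf_dvd_natCard (⟨y, hle hyK⟩ : Y)
    rwa [Subgroup.orderOf_mk] at this
  have h3 : Nat.Coprime (Nat.card Y) (2 ^ n) :=
    Nat.Coprime.pow_right _ (Nat.coprime_two_right.2 hY)
  have h4 : y = 1 := orderOf_eq_one_iff.mp (Nat.eq_one_of_dvd_coprimes h3 h2 h1)
  apply hk
  rw [h4]
  group

theorem balance (h : Hyp X) (hA : SC S A) (hT : Good S A) {a : X} (ha : a ∈ A) {Y : Subgroup X}
    (hodd : Odd (Nat.card Y)) (hYa : ∀ y ∈ Y, a * y = y * a)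
    (hn : ∀ c : X, c * a = a * c → ∀ y ∈ Y, c * y * c⁻¹ ∈ Y) : Y = ⊥ := by
  have hodd' : ∀ y ∈ Y, Odd (orderOf y) := by
    intro y hy
    have := orderOf_dvd_natCard (⟨y, hy⟩ : Y)
    rw [Subgroup.orderOf_mk] at this
    exact Odd.of_dvd_nat hodd this
  rw [eq_bot_iff]
  intro y hy
  rw [mem_bot]
  refine pump h hA hT ha (hodd' y hy) (hYa y hy).symm ?_ ?_
  · rintro _ ⟨q, hq, rfl⟩
    have hqa : (q : X) * a = a * q := mem_centralizer_singleton_iff.1 q.2
    have h1 : y * q * y⁻¹ * (q : X)⁻¹ ∈ Y := by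
      have h2 := hn q hqa y⁻¹ (inv_mem hy)
      have h3 : y * q * y⁻¹ * (q : X)⁻¹ = y * ((q : X) * y⁻¹ * (q : X)⁻¹) := by group
      rw [h3]
      exact mul_mem hy h2
    set y' : centralizer ({a} : Set X) := ⟨y, mem_centralizer_singleton_iff.2 (hYa y hy).symm⟩
    have h4 : y' * q * y'⁻¹ * q⁻¹ ∈ pCore 2 (centralizer ({a} : Set X)) :=
      mul_mem ((Cfsg.Agent.Lib.Cores.pCore_normal 2).conj_mem q hq y') (inv_mem hq)
    obtain ⟨n, hn⟩ := pCore_isPGroup (G := centralizer ({a} : Set X)) 2 ⟨_, h4⟩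
    have hn' : (y * q * y⁻¹ * (q : X)⁻¹) ^ 2 ^ n = 1 :=
      congrArg (fun z => ((z : centralizer ({a} : Set X)) : X)) (congrArg Subtype.val hn)
    have h5 : orderOf (y * q * y⁻¹ * (q : X)⁻¹) ∣ 2 ^ n := orderOf_dvd_of_pow_eq_one hn'
    have h6 : y * q * y⁻¹ * (q : X)⁻¹ = 1 :=
      orderOf_eq_one_iff.mp (Nat.eq_one_of_dvd_coprimes
        (Nat.Coprime.pow_right n (Nat.coprime_two_right.2 (hodd' _ h1))) dvd_rfl h5)
    calc y * (q : X) = (y * q * y⁻¹ * (q : X)⁻¹) * (q * y) := by group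
      _ = q * y := by rw [h6, one_mul]
  · intro K hK haK
    have h1 : K ≤ normalizer (Y : Set X) := by
      intro k hk
      have hka : k * a = a * k := mem_centralizer_iff.1 haK k hk
      have hka' : k⁻¹ * a = a * k⁻¹ := mem_centralizer_iff.1 haK k⁻¹ (inv_mem hk)
      rw [mem_normalizer_iff]
      intro z
      constructor
      · intro hz
        exact hn k hka z hz
      · intro hz
        have h2 := hn k⁻¹ hka' _ hz
        have h3 : k⁻¹ * (k * z * k⁻¹) * k⁻¹⁻¹ = z := by group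
        rwa [h3] at h2
    rcases component_le_or_commutator_eq_bot_of_le_normalizer hK h1 with h2 | h2
    · exact absurd h2 (not_le_odd S h hK hodd)
    · rw [commutator_comm, commutator_eq_bot_iff_le_centralizer] at h2
      exact h2 hy

end Cfsg.Agent.ThreePrime.Balance
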