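import Mathlib
import Cfsg.Agent.ThreePrime.Balance

/-!
# `L`-balance: components of `C(u)`, `u` in `A`, are components
-/

set_option autoImplicit false

namespace Cfsg.Agent.ThreePrime.LBal

open Subgroup
open Cfsg
open Cfsg.Agent.Lib.Cores
open Cfsg.Agent.ThreePrime.Comp
open Cfsg.Agent.ThreePrime.AComp
open Cfsg.Agent.ThreePrime.ACFacts
open Cfsg.Agent.ThreePrime.Pump
open Cfsg.Agent.SignalizersComponents.CompBasic
open Cfsg.Agent.SignalizersComponents.Components

universe u

variable {X : Type u} [Group X]

/-- a finite group all of whose odd order elements are trivial is a 2-group. -/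
theorem isPGroup_two_of_odd {G : Type*} [Group G] [Finite G]
    (h : ∀ y : G, Odd (orderOf y) → y = 1) : IsPGroup 2 G := by
  intro y
  obtain ⟨k, m, hm, hkm⟩ := Nat.exists_eq_two_pow_mul_odd (orderOf_pos y).ne'
  refine ⟨k, ?_⟩
  apply h
  rw [orderOf_pow' _ (by positivity), hkm, Nat.gcd_eq_right (Dvd.intro _ rfl),
    Nat.mul_div_cancel_left _ (by positivity)]
  exact hm

variable [Finite X] {S : Sylow 2 X} {A : Subgroup X}

theorem lbalance (h : Hyp X) (hA : SC S A) (hT : Good S A) {u : X} (hu : u ∈ A) {J : Subgroup X}
    (hJu : J ≤ centralizer ({u} : Set X))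
    (hJ : IsComponent (J.subgroupOf (centralizer ({u} : Set X)))) : IsComponent J := by
  by_contra hcon
  have hodd : ∀ y : J, Odd (orderOf y) → y = 1 := by
    intro y hy
    have hyC := hJu y.2
    apply Subtype.ext
    refine pump h hA hT hu (by rwa [Subgroup.orderOf_coe]) (mem_centralizer_singleton_iff.1 hyC) ?_ ?_
    · rintro _ ⟨q, hq, rfl⟩
      have h1 : (⟨y, hyC⟩ : centralizer ({u} : Set X)) ∈ layer (centralizer ({u} : Set X)) :=
        component_le_layer hJ (mem_subgroupOf.2 y.2)
      have h2 := mem_centralizer_iff.1 (layer_le_centralizer_fitting h1) q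
        (pCore_le_fittingSubgroup 2 hq)
      exact (congrArg Subtype.val h2).symm
    · intro K hK huK
      have hKC : K ≤ centralizer ({u} : Set X) := by
        intro k hk
        exact mem_centralizer_singleton_iff.2 (mem_centralizer_iff.1 huK k hk)
      have hK' := isComponent_subgroupOf hKC hK
      have hne : J.subgroupOf (centralizer ({u} : Set X)) ≠
          K.subgroupOf (centralizer ({u} : Set X)) := by
        intro he
        apply hcon
        have h1 : J = K := by
          have := congrArg (Subgroup.map (centralizer ({u} : Set X)).subtype) he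
          rwa [subgroupOf_map_subtype, subgroupOf_map_subtype, inf_of_le_left hJu,
            inf_of_le_left hKC] at this
        rw [h1]
        exact hK
      have h1 := component_commutator_eq_bot_of_ne hJ hK' hne
      rw [commutator_eq_bot_iff_le_centralizer] at h1
      rw [mem_centralizer_iff]
      intro k hk
      have h2 := mem_centralizer_iff.1 (h1 (show (⟨y, hyC⟩ : centralizer ({u} : Set X)) ∈ _ from
        mem_subgroupOf.2 y.2)) ⟨k, hKC hk⟩ (mem_subgroupOf.2 hk)
      exact congrArg Subtype.val h2
  have h2 : IsPGroup 2 J := isPGroup_two_of_odd hodd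
  have h3 : IsPGroup 2 (J.subgroupOf (centralizer ({u} : Set X))) :=
    h2.of_equiv (subgroupOfEquivOfLe hJu).symm
  have : Group.IsNilpotent (J.subgroupOf (centralizer ({u} : Set X))) := h3.isNilpotent
  exact quasisimple_not_isSolvable hJ.2 inferInstance

end Cfsg.Agent.ThreePrime.LBal
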