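import Mathlib
import Cfsg.Agent.ThreePrime.GData
import Cfsg.Agent.ThreePrime.ACFacts
import Cfsg.Agent.TwoFusion.IsolatedCenter

/-!
# Quotients of the centralizers of the elements of `A`

`Cov`: a surjection `π : C_G(a) → X` with kernel of odd order onto a group `X` with `Hyp X`.
-/

set_option autoImplicit false
set_option linter.dupNamespace false

namespace Cfsg.Agent.ThreePrime.Cov

open Subgroup
open scoped commutatorElement
open Cfsg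
open Cfsg.Agent.ThreePrime.Chain
open Cfsg.Agent.ThreePrime.Factor
open Cfsg.Agent.ThreePrime.GData
open Cfsg.Agent.ThreePrime.Comp
open Cfsg.Agent.ThreePrime.AComp
open Cfsg.Agent.ThreePrime.ACFacts

universe u

/-! ### Pulling back and pushing forward factorisations -/

theorem Fac.pull {C X : Type*} [Group C] [Group X] (π : C →* X) {P' : Subgroup C}
    (hinj : ∀ x ∈ P', π x = 1 → x = 1) {P T R : Subgroup X} (h : Fac P T R) (hP : P'.map π = P) :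
    Fac P' (P' ⊓ T.comap π) (P' ⊓ R.comap π) := by
  have hi : ∀ x ∈ P', ∀ y ∈ P', π x = π y → x = y := by
    intro x hx y hy hxy
    have h1 := hinj (x * y⁻¹) (mul_mem hx (inv_mem hy)) (by rw [map_mul, map_inv, hxy, mul_inv_cancel])
    rwa [mul_inv_eq_one] at h1
  have hPmem : ∀ x ∈ P', π x ∈ P := fun x hx => hP ▸ ⟨x, hx, rfl⟩
  have hlift : ∀ y ∈ P, ∃ x ∈ P', π x = y := by
    intro y hy
    rw [← hP] at hy
    obtain ⟨x, hx, rfl⟩ := hy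
    exact ⟨x, hx, rfl⟩
  refine ⟨inf_le_left, inf_le_left, ?_, ?_, ?_, ?_, ?_⟩
  · rintro t ⟨htP, htT⟩ r ⟨hrP, hrR⟩
    apply hi _ (mul_mem htP hrP) _ (mul_mem hrP htP)
    rw [map_mul, map_mul]
    exact h.comm _ htT _ hrR
  · rintro x ⟨hxP, hxT⟩ ⟨-, hxR⟩
    exact hinj x hxP (h.inf _ hxT hxR)
  · intro p hp
    obtain ⟨t, ht, r, hr, he⟩ := h.ex _ (hPmem p hp)
    obtain ⟨t', ht', rfl⟩ := hlift t (h.T_le ht)
    obtain ⟨r', hr', rfl⟩ := hlift r (h.R_le hr)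
    refine ⟨t', ⟨ht', ht⟩, r', ⟨hr', hr⟩, ?_⟩
    apply hi _ hp _ (mul_mem ht' hr')
    rw [map_mul, he]
  · rintro u ⟨huP, huT⟩ ⟨v, ⟨hvP, hvT⟩, hne⟩ x ⟨hxP, hxT⟩ y ⟨hyP, hyT⟩ hxu hyu
    apply hi _ (mul_mem hxP hyP) _ (mul_mem hyP hxP)
    rw [map_mul, map_mul]
    refine h.abel _ huT ⟨π v, hvT, ?_⟩ _ hxT _ hyT ?_ ?_
    · intro hh
      apply hne
      apply hi _ (mul_mem huP hvP) _ (mul_mem hvP huP)
      rw [map_mul, map_mul, hh]
    · rw [← map_mul, hxu, map_mul]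
    · rw [← map_mul, hyu, map_mul]
  · obtain ⟨x, hx, y, hy, hxy⟩ := h.nonab
    obtain ⟨x', hx', rfl⟩ := hlift x (h.T_le hx)
    obtain ⟨y', hy', rfl⟩ := hlift y (h.T_le hy)
    refine ⟨x', ⟨hx', hx⟩, y', ⟨hy', hy⟩, ?_⟩
    intro hh
    apply hxy
    rw [← map_mul, hh, map_mul]

theorem Fac.push {C G : Type*} [Group C] [Group G] (f : C →* G) (hf : Function.Injective f)
    {P T R : Subgroup C} (h : Fac P T R) : Fac (P.map f) (T.map f) (R.map f) := by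
  refine ⟨map_mono h.T_le, map_mono h.R_le, ?_, ?_, ?_, ?_, ?_⟩
  · rintro _ ⟨t, ht, rfl⟩ _ ⟨r, hr, rfl⟩
    rw [← map_mul, ← map_mul, h.comm t ht r hr]
  · rintro _ ⟨t, ht, rfl⟩ ⟨r, hr, hrt⟩
    have : r = t := hf hrt
    rw [h.inf t ht (this ▸ hr), map_one]
  · rintro _ ⟨p, hp, rfl⟩
    obtain ⟨t, ht, r, hr, he⟩ := h.ex p hp
    exact ⟨_, ⟨t, ht, rfl⟩, _, ⟨r, hr, rfl⟩, by rw [← map_mul, ← he]⟩
  · rintro _ ⟨u, hu, rfl⟩ ⟨_, ⟨v, hv, rfl⟩, hne⟩ _ ⟨x, hx, rfl⟩ _ ⟨y, hy, rfl⟩ hxu hyu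
    rw [← map_mul, ← map_mul] at hne hxu hyu ⊢
    rw [h.abel u hu ⟨v, hv, fun hh => hne (by rw [hh])⟩ x hx y hy (hf hxu) (hf hyu)]
  · obtain ⟨x, hx, y, hy, hxy⟩ := h.nonab
    refine ⟨_, ⟨x, hx, rfl⟩, _, ⟨y, hy, rfl⟩, ?_⟩
    rw [← map_mul, ← map_mul]
    exact fun hh => hxy (hf hh)

variable {G : Type u} [Group G] [Finite G] {A : Subgroup G}

/-- the centralizer of an element. -/
abbrev Ce {G : Type u} [Group G] (a : G) : Subgroup G := centralizer ({a} : Set G)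

/-- A surjection of `C_G(a)` with kernel of odd order. -/
structure Cov (a : G) (X : Type u) [Group X] [Finite X] (π : Ce a →* X) :
    Prop where
  surj : Function.Surjective π
  ker : Odd (Nat.card π.ker)
  hyp : Hyp X

variable {a : G} {X : Type u} [Group X] [Finite X] {π : Ce a →* X}

omit [Finite G] in
theorem le_centralizer (hG : GData A) (ha : a ∈ A) : A ≤ Ce a := by
  intro x hx
  rw [mem_centralizer_singleton_iff]
  exact hG.comm x hx a ha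

omit [Finite G] in
/-- elements of 2-power order in the kernel are trivial. -/
theorem Cov.eq_one (h : Cov a X π) {Sa : Sylow 2 (Ce a)}
    {x : Ce a} (hx : x ∈ (Sa : Subgroup (Ce a)))
    (hπ : π x = 1) : x = 1 := by
  obtain ⟨k, hk⟩ := Sa.isPGroup' ⟨x, hx⟩
  have hk' : x ^ 2 ^ k = 1 := congrArg Subtype.val hk
  have h1 : orderOf x ∣ 2 ^ k := orderOf_dvd_of_pow_eq_one hk'
  have h2 : orderOf x ∣ Nat.card π.ker := by
    have : orderOf (⟨x, MonoidHom.mem_ker.2 hπ⟩ : π.ker) ∣ Nat.card π.ker := orderOf_dvd_natCard _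
    rwa [Subgroup.orderOf_mk] at this
  have h3 : orderOf x ∣ Nat.gcd (Nat.card π.ker) (2 ^ k) := Nat.dvd_gcd h2 h1
  have h4 : Nat.gcd (Nat.card π.ker) (2 ^ k) = 1 :=
    Nat.Coprime.pow_right k (Nat.coprime_two_right.2 h.ker)
  rw [h4, Nat.dvd_one, orderOf_eq_one_iff] at h3
  exact h3

omit [Finite G] in
theorem Cov.inj (h : Cov a X π) {Sa : Sylow 2 (Ce a)}
    {x y : Ce a} (hx : x ∈ (Sa : Subgroup (Ce a)))
    (hy : y ∈ (Sa : Subgroup (Ce a))) (hπ : π x = π y) : x = y := by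
  have h1 := h.eq_one (mul_mem hx (inv_mem hy)) (by rw [map_mul, map_inv, hπ, mul_inv_cancel])
  rwa [mul_inv_eq_one] at h1

/-- the image of `A` in `X`. -/
def Abar (A : Subgroup G) (π : Ce a →* X) : Subgroup X :=
  (A.subgroupOf (Ce a)).map π

omit [Finite G] in
theorem mem_of_conj (hG : GData A) {Sa : Sylow 2 (Ce a)}
    (hAS : A ≤ (Sa : Subgroup (Ce a)).map
      (Ce a).subtype) {x : G} (hx : x ∈ A) {g : G}
    (hg : g * x * g⁻¹ ∈ (Sa : Subgroup (Ce a)).map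
      (Ce a).subtype) : g * x * g⁻¹ ∈ A :=
  hG.sc _ (Sa.isPGroup'.map _) hAS x hx g hg

/-- The image of `A` in `X` is strongly closed. -/
theorem Cov.sc (h : Cov a X π) (hG : GData A) {Sa : Sylow 2 (Ce a)}
    (hAS : A ≤ (Sa : Subgroup (Ce a)).map
      (Ce a).subtype) : SC (Sa.mapSurjective h.surj) (Abar A π) := by
  have : Fact (Nat.Prime 2) := ⟨Nat.prime_two⟩
  refine ⟨⟨?_, ?_⟩, ?_, ?_⟩
  · rintro _ ⟨x, hx, rfl⟩
    obtain ⟨s, hs, hsx⟩ := hAS (mem_subgroupOf.1 hx)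
    have : s = x := Subtype.ext hsx
    rw [Sylow.coe_mapSurjective]
    exact ⟨x, this ▸ hs, rfl⟩
  · rintro _ ⟨x, hx, rfl⟩ g hg
    obtain ⟨g', rfl⟩ := h.surj g
    rw [Sylow.coe_mapSurjective] at hg
    obtain ⟨s, hs, hsx⟩ := hg
    have hx2 : ∃ k : ℕ, (g' * x * g'⁻¹) ^ 2 ^ k = 1 := by
      refine ⟨1, ?_⟩
      have h1 : x * x = 1 := Subtype.ext (hG.sq x hx)
      calc (g' * x * g'⁻¹) ^ 2 ^ 1 = g' * (x * x) * g'⁻¹ := by
            rw [pow_one, pow_two]; group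
        _ = 1 := by rw [h1]; group
    have hmem : g' * x * g'⁻¹ ∈ (Sa : Subgroup (Ce a)) ⊔ π.ker := by
      have h1 : s⁻¹ * (g' * x * g'⁻¹) ∈ π.ker := by
        rw [MonoidHom.mem_ker, map_mul, map_inv, hsx]
        simp only [map_mul, map_inv]
        group
      have h2 := mul_mem (le_sup_left (b := π.ker) hs) (le_sup_right (a :=
        (Sa : Subgroup (Ce a))) h1)
      rwa [mul_inv_cancel_left] at h2
    obtain ⟨n, hn, hnx⟩ := Cfsg.Agent.TwoFusion.IsolatedCenter.exists_conj_mem Sa π.ker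
      (g' * x * g'⁻¹) hx2 hmem
    have h3 : ((n * g' : Ce a) : G) * x * ((n * g' : Ce a) : G)⁻¹
        ∈ A := by
      apply mem_of_conj hG hAS hx
      refine ⟨_, hnx, ?_⟩
      simp only [coe_subtype, Subgroup.coe_mul, Subgroup.coe_inv]
      group
    refine ⟨(n * g') * x * (n * g')⁻¹, h3, ?_⟩
    rw [MonoidHom.mem_ker] at hn
    simp [hn]
  · rintro _ ⟨x, hx, rfl⟩
    rw [← map_mul, ← map_one π]
    congr 1
    exact Subtype.ext (hG.sq x hx)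
  · rintro _ ⟨x, hx, rfl⟩ _ ⟨y, hy, rfl⟩
    rw [← map_mul, ← map_mul]
    congr 1
    exact Subtype.ext (hG.comm x hx y hy)

/-- Sylow 2-subgroups of components of `X` centralise `A`. -/
theorem Cov.good (h : Cov a X π) (hG : GData A) {Sa : Sylow 2 (Ce a)}
    (hAS : A ≤ (Sa : Subgroup (Ce a)).map
      (Ce a).subtype) : Good (Sa.mapSurjective h.surj) (Abar A π) := by
  intro J hJ t ht htS x hx
  have hSC := h.sc hG hAS
  by_cases hAJ : Abar A π ≤ centralizer (J : Set X)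
  · exact mem_centralizer_iff.1 (hAJ hx) t ht
  obtain ⟨Z, hZA, hZJ, hZ1, hZ2⟩ := exists_Z h.hyp hSC hJ hAJ
  have hAmem : ∀ y ∈ A, ∃ s ∈ (Sa : Subgroup (Ce a)), (s : G) = y := by
    intro y hy
    obtain ⟨s, hs, hsy⟩ := hAS hy
    exact ⟨s, hs, hsy⟩
  let T : Subgroup G := ((Sa : Subgroup (Ce a)) ⊓ J.comap π).map (Ce a).subtype
  let Y : Subgroup G := ((Sa : Subgroup (Ce a)) ⊓ A.subgroupOf (Ce a) ⊓ Z.comap π).map (Ce a).subtype
  have hSmap : ∀ s ∈ (Sa : Subgroup (Ce a)), π s ∈ (Sa.mapSurjective h.surj : Subgroup X) := by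
    intro s hs
    rw [Sylow.coe_mapSurjective]
    exact ⟨s, hs, rfl⟩
  have hSlift : ∀ y ∈ (Sa.mapSurjective h.surj : Subgroup X), ∃ s ∈ (Sa : Subgroup (Ce a)), π s = y := by
    intro y hy
    rw [Sylow.coe_mapSurjective] at hy
    exact hy
  have hTA : ∀ s ∈ (Sa : Subgroup (Ce a)), ∀ y : Ce a, (y : G) ∈ A → ((s * y * s⁻¹ : Ce a) : G) ∈ A := by
    intro s hs y hy
    obtain ⟨y', hy', hyy'⟩ := hAmem _ hy
    have : y' = y := Subtype.ext hyy'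
    subst this
    have h1 := mem_of_conj hG hAS hy (g := (s : G)) ⟨s * y' * s⁻¹, mul_mem (mul_mem hs hy')
      (inv_mem hs), rfl⟩
    exact h1
  have hAmem' : ∀ y : Ce a, (y : G) ∈ A → y ∈ (Sa : Subgroup (Ce a)) := by
    intro y hy
    obtain ⟨y', hy', hyy'⟩ := hAmem _ hy
    have : y' = y := Subtype.ext hyy'
    exact this ▸ hy'
  have hAC := le_centralizer hG (a := a)
  have key := Chain.le_centralizer hG.three hG.sq hG.comm hG.ne hG.irr (T := T) (Z := Y) ?_ ?_ ?_ ?_ ?_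
  · obtain ⟨s, hs, hst⟩ := hSlift t htS
    obtain ⟨y, hy, rfl⟩ := hx
    have h1 : (s : G) ∈ T := ⟨s, ⟨hs, by rw [← hst] at ht; exact ht⟩, rfl⟩
    have h2 := mem_centralizer_iff.1 (key h1) y hy
    rw [← hst, ← map_mul, ← map_mul]
    congr 1
    exact Subtype.ext h2.symm
  · rintro _ ⟨s, ⟨hs, hsJ⟩, rfl⟩
    apply mem_normalizer_of_forall
    intro y hy
    obtain ⟨y', hy', rfl⟩ := hAmem y hy
    exact hTA s hs y' hy
  · rintro _ ⟨s, ⟨⟨hs, hsA⟩, hsZ⟩, rfl⟩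
    exact hsA
  · rintro _ ⟨z, ⟨⟨hz, hzA⟩, hzZ⟩, rfl⟩ _ ⟨s, ⟨hs, hsJ⟩, rfl⟩
    have h1 : s * z = z * s := by
      apply h.inj (mul_mem hs hz) (mul_mem hz hs)
      rw [map_mul, map_mul]
      exact hZJ _ hzZ _ hsJ
    exact congrArg Subtype.val h1
  · rintro y hy _ ⟨s, ⟨hs, hsJ⟩, rfl⟩
    obtain ⟨y', hy', rfl⟩ := hAmem y hy
    have hm1 : s * y' * s⁻¹ * y'⁻¹ ∈ (Sa : Subgroup (Ce a)) :=
      mul_mem (mul_mem (mul_mem hs hy') (inv_mem hs)) (inv_mem hy')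
    have hm2 : s * y' * s⁻¹ * y'⁻¹ ∈ A.subgroupOf (Ce a) := by
      have h0 : ((s * y' * s⁻¹ * y'⁻¹ : Ce a) : G) ∈ A := mul_mem (hTA s hs y' hy) (inv_mem hy)
      exact h0
    refine ⟨s * y' * s⁻¹ * y'⁻¹, ⟨⟨hm1, hm2⟩, ?_⟩, rfl⟩
    · have h1 := hZ1 (π y') ⟨y', hy, rfl⟩ (π s) hsJ (hSmap s hs)
      simpa using h1
  · rintro y hy ⟨_, ⟨s, ⟨hs, hsJ⟩, rfl⟩, hne⟩ _ ⟨z, ⟨⟨hz, hzA⟩, hzZ⟩, rfl⟩
    obtain ⟨y', hy', rfl⟩ := hAmem y hy
    obtain ⟨t₁, ht₁, ht₁S, h1⟩ := hZ2 (π y') ⟨y', hy, rfl⟩ ⟨π s, hsJ, hSmap s hs, by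
      intro hh
      apply hne
      have : s * y' = y' * s := by
        apply h.inj (mul_mem hs hy') (mul_mem hy' hs)
        rw [map_mul, map_mul, hh]
      exact congrArg Subtype.val this⟩ (π z) hzZ
    obtain ⟨s₁, hs₁, rfl⟩ := hSlift t₁ ht₁S
    refine ⟨s₁, ⟨s₁, ⟨hs₁, ht₁⟩, rfl⟩, ?_⟩
    have h2 : s₁ * y' * s₁⁻¹ = z * y' := by
      apply h.inj (mul_mem (mul_mem hs₁ hy') (inv_mem hs₁)) (mul_mem hz hy')
      rw [map_mul, map_mul, map_mul, map_inv]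
      exact h1
    exact congrArg Subtype.val h2

end Cfsg.Agent.ThreePrime.Cov
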