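import Mathlib
import Cfsg.Agent.ThreePrime.Cov

/-!
# A Sylow 2-subgroup of `C_G(A)` and the factorisations induced by components
-/

set_option autoImplicit false
set_option linter.dupNamespace false

namespace Cfsg.Agent.ThreePrime.CovP

open Subgroup
open scoped commutatorElement
open Cfsg
open Cfsg.Agent.ThreePrime.Chain
open Cfsg.Agent.ThreePrime.Factor
open Cfsg.Agent.ThreePrime.GData
open Cfsg.Agent.ThreePrime.Comp
open Cfsg.Agent.ThreePrime.AComp
open Cfsg.Agent.ThreePrime.ACFacts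
open Cfsg.Agent.ThreePrime.Cov

universe u

variable {G : Type u} [Group G] [Finite G] {A : Subgroup G}

/-- `P` is a Sylow 2-subgroup of `C_G(A)`. -/
structure SylC (A P : Subgroup G) : Prop where
  two : IsPGroup 2 P
  le : P ≤ centralizer (A : Set G)
  A_le : A ≤ P
  max : ∀ Q : Subgroup G, IsPGroup 2 Q → P ≤ Q → Q ≤ centralizer (A : Set G) → Q = P
  frat : ∀ n ∈ normalizer (A : Set G), ∃ c ∈ centralizer (A : Set G), c * n ∈ normalizer (P : Set G)

theorem exists_sylC (hG : GData A) : ∃ P : Subgroup G, SylC A P := by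
  obtain ⟨P₀⟩ : Nonempty (Sylow 2 (centralizer (A : Set G))) := inferInstance
  have hAC : A ≤ centralizer (A : Set G) := by
    intro x hx
    rw [mem_centralizer_iff]
    intro y hy
    exact hG.comm y hy x hx
  set P : Subgroup G := (P₀ : Subgroup (centralizer (A : Set G))).map
    (centralizer (A : Set G)).subtype with hP
  have h2 : IsPGroup 2 P := P₀.isPGroup'.map _
  have hle : P ≤ centralizer (A : Set G) := map_subtype_le _
  have hAn : (A.subgroupOf (centralizer (A : Set G))).Normal := by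
    refine ⟨?_⟩
    intro x hx g
    have h1 : g * x * g⁻¹ = x := by
      apply Subtype.ext
      have h2 := mem_centralizer_iff.1 g.2 x hx
      change (g : G) * x * (g : G)⁻¹ = x
      rw [← h2]
      group
    rw [h1]
    exact hx
  have hA2 : IsPGroup 2 (A.subgroupOf (centralizer (A : Set G))) :=
    (isPGroup_of_sq hG.sq).comap_of_injective _ (subtype_injective _)
  have hAP : A ≤ P := by
    intro x hx
    have h1 : (⟨x, hAC hx⟩ : centralizer (A : Set G)) ∈ (P₀ : Subgroup _) :=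
      Cfsg.Agent.Lib.Cores.pCore_le_sylow P₀ (Cfsg.Agent.Lib.Cores.le_pCore hAn hA2 hx)
    exact ⟨_, h1, rfl⟩
  have hmax : ∀ Q : Subgroup G, IsPGroup 2 Q → P ≤ Q → Q ≤ centralizer (A : Set G) → Q = P := by
    intro Q hQ hPQ hQC
    apply le_antisymm _ hPQ
    have h1 : IsPGroup 2 (Q.subgroupOf (centralizer (A : Set G))) :=
      hQ.comap_of_injective _ (subtype_injective _)
    have h3 := P₀.is_maximal' h1 (by
      intro x hx
      exact hPQ ⟨x, hx, rfl⟩)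
    intro x hx
    have h4 : (⟨x, hQC hx⟩ : centralizer (A : Set G)) ∈ Q.subgroupOf (centralizer (A : Set G)) := hx
    rw [h3] at h4
    exact ⟨_, h4, rfl⟩
  refine ⟨P, h2, hle, hAP, hmax, ?_⟩
  intro n hn
  -- the conjugate Sylow subgroup
  set P' : Subgroup G := P.map (MulAut.conj n).toMonoidHom with hP'
  have hP'C : P' ≤ centralizer (A : Set G) := by
    rintro _ ⟨x, hx, rfl⟩
    rw [mem_centralizer_iff]
    intro y hy
    have h1 : n⁻¹ * y * n ∈ A := by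
      have := (mem_normalizer_iff.1 (inv_mem hn) y).1 hy
      simpa using this
    have h3 := mem_centralizer_iff.1 (hle hx) _ h1
    change y * (n * x * n⁻¹) = n * x * n⁻¹ * y
    calc y * (n * x * n⁻¹) = n * ((n⁻¹ * y * n) * x) * n⁻¹ := by group
      _ = n * (x * (n⁻¹ * y * n)) * n⁻¹ := by rw [h3]
      _ = n * x * n⁻¹ * y := by group
  have hP'2 : IsPGroup 2 (P'.subgroupOf (centralizer (A : Set G))) :=
    (h2.map _).comap_of_injective _ (subtype_injective _)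
  obtain ⟨Q, hQ⟩ := hP'2.exists_le_sylow
  obtain ⟨c, hc⟩ := MulAction.exists_smul_eq (centralizer (A : Set G)) Q P₀
  refine ⟨c, c.2, ?_⟩
  apply mem_normalizer_of_forall
  intro x hx
  have h3 : n * x * n⁻¹ ∈ P' := ⟨x, hx, rfl⟩
  have h4 : (⟨n * x * n⁻¹, hP'C h3⟩ : centralizer (A : Set G)) ∈ (Q : Subgroup _) := hQ h3
  have h5 : c * ⟨n * x * n⁻¹, hP'C h3⟩ * c⁻¹ ∈ (P₀ : Subgroup (centralizer (A : Set G))) := by
    rw [← hc]
    have h6 : c * ⟨n * x * n⁻¹, hP'C h3⟩ * c⁻¹ ∈ (c • Q : Sylow 2 (centralizer (A : Set G))) := by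
      rw [← SetLike.mem_coe, Sylow.coe_smul]
      exact ⟨_, h4, rfl⟩
    exact h6
  refine ⟨_, h5, ?_⟩
  simp only [coe_subtype, Subgroup.coe_mul, Subgroup.coe_inv]
  group

variable {a : G} {X : Type u} [Group X] [Finite X] {π : centralizer ({a} : Set G) →* X}
  {P : Subgroup G}

omit [Finite G] in
theorem SylC.le_Ce (hP : SylC A P) (ha : a ∈ A) : P ≤ Ce a := by
  intro x hx
  rw [mem_centralizer_singleton_iff]
  exact (mem_centralizer_iff.1 (hP.le hx) a ha).symm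

omit [Finite G] in
theorem SylC.exists_sylow (hP : SylC A P) (ha : a ∈ A) :
    ∃ Sa : Sylow 2 (Ce a), P ≤ (Sa : Subgroup (Ce a)).map (Ce a).subtype := by
  have h1 : IsPGroup 2 (P.subgroupOf (Ce a)) := hP.two.comap_of_injective _ (subtype_injective _)
  obtain ⟨Sa, hSa⟩ := h1.exists_le_sylow
  refine ⟨Sa, ?_⟩
  intro x hx
  exact ⟨⟨x, hP.le_Ce ha hx⟩, hSa hx, rfl⟩

omit [Finite G] in
theorem SylC.inf_eq (hP : SylC A P) {Sa : Sylow 2 (Ce a)}
    (hSa : P ≤ (Sa : Subgroup (Ce a)).map (Ce a).subtype) :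
    (Sa : Subgroup (Ce a)).map (Ce a).subtype ⊓ centralizer (A : Set G) = P := by
  apply hP.max _ ((Sa.isPGroup'.map _).to_le inf_le_left) (le_inf hSa hP.le) inf_le_right

/-- `{x ∈ P | π x ∈ J}` -/
def TJ (P : Subgroup G) (π : centralizer ({a} : Set G) →* X) (J : Subgroup X) : Subgroup G :=
  (P.subgroupOf (Ce a) ⊓ J.comap π).map (Ce a).subtype

omit [Finite G] [Finite X] in
theorem mem_TJ {J : Subgroup X} {x : Ce a} : (x : G) ∈ TJ P π J ↔ (x : G) ∈ P ∧ π x ∈ J := by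
  constructor
  · rintro ⟨y, ⟨hy1, hy2⟩, hyx⟩
    have : y = x := Subtype.ext hyx
    exact this ▸ ⟨hy1, hy2⟩
  · rintro ⟨h1, h2⟩
    exact ⟨x, ⟨h1, h2⟩, rfl⟩

/-- The image of `P` in `X` is `C_S(A)`. -/
theorem map_P (h : Cov a X π) (hP : SylC A P) {Sa : Sylow 2 (Ce a)}
    (hSa : P ≤ (Sa : Subgroup (Ce a)).map (Ce a).subtype) :
    (P.subgroupOf (Ce a)).map π =
      (Sa.mapSurjective h.surj : Subgroup X) ⊓ centralizer (Abar A π : Set X) := by
  have : Fact (Nat.Prime 2) := ⟨Nat.prime_two⟩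
  have hmemS : ∀ x : Ce a, (x : G) ∈ P → x ∈ (Sa : Subgroup (Ce a)) := by
    intro x hx
    obtain ⟨s, hs, hsx⟩ := hSa hx
    have : s = x := Subtype.ext hsx
    exact this ▸ hs
  apply le_antisymm
  · rintro _ ⟨x, hx, rfl⟩
    refine ⟨?_, mem_centralizer_iff.2 ?_⟩
    · rw [Sylow.coe_mapSurjective]
      exact ⟨x, hmemS x hx, rfl⟩
    · rintro _ ⟨y, hy, rfl⟩
      rw [← map_mul, ← map_mul]
      congr 1
      exact Subtype.ext (mem_centralizer_iff.1 (hP.le hx) y hy)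
  · rintro y ⟨hyS, hyA⟩
    rw [SetLike.mem_coe] at hyA
    rw [Sylow.coe_mapSurjective] at hyS
    obtain ⟨s, hs, rfl⟩ := hyS
    refine ⟨s, ?_, rfl⟩
    have h1 : (s : G) ∈ (Sa : Subgroup (Ce a)).map (Ce a).subtype ⊓ centralizer (A : Set G) := by
      refine ⟨⟨s, hs, rfl⟩, mem_centralizer_iff.2 ?_⟩
      intro x hx
      obtain ⟨x', hx', rfl⟩ := hSa (hP.A_le hx)
      have h2 : x' * s = s * x' := by
        apply h.inj (mul_mem hx' hs) (mul_mem hs hx')
        rw [map_mul, map_mul]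
        exact mem_centralizer_iff.1 hyA (π x') ⟨x', hx, rfl⟩
      exact congrArg Subtype.val h2
    rw [hP.inf_eq hSa] at h1
    exact h1

/-- The factorisation of `P` induced by a component. -/
theorem fac_G (h : Cov a X π) (hG : GData A) (hP : SylC A P) (ha : a ∈ A) {J : Subgroup X}
    (hJ : IsComponent J) (hAJ : ¬ Abar A π ≤ centralizer (J : Set X)) :
    Fac P (TJ P π J) (TJ P π (centralizer (J : Set X))) ∧
      ⁅TJ P π J, TJ P π J⁆ = A ⊓ TJ P π J ∧ 8 ≤ Nat.card (A ⊓ TJ P π J : Subgroup G) := by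
  have : Fact (Nat.Prime 2) := ⟨Nat.prime_two⟩
  obtain ⟨Sa, hSa⟩ := hP.exists_sylow ha
  have hAS := hP.A_le.trans hSa
  have hSC := h.sc hG hAS
  have hgood := h.good hG hAS
  have hac := ac h.hyp hSC hgood hJ hAJ
  have hfac := hac.fac hgood
  have hmemS : ∀ x : Ce a, (x : G) ∈ P → x ∈ (Sa : Subgroup (Ce a)) := by
    intro x hx
    obtain ⟨s, hs, hsx⟩ := hSa hx
    have : s = x := Subtype.ext hsx
    exact this ▸ hs
  have hmap := map_P h hP hSa
  have hfac' := Fac.pull π (P' := P.subgroupOf (Ce a)) (fun x hx hx1 => h.eq_one (hmemS x hx) hx1)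
    hfac hmap
  have e1 : P.subgroupOf (Ce a) ⊓ ((Sa.mapSurjective h.surj : Subgroup X) ⊓ J).comap π =
      P.subgroupOf (Ce a) ⊓ J.comap π := by
    apply le_antisymm
    · rintro x ⟨hx1, hx2⟩
      exact ⟨hx1, hx2.2⟩
    · rintro x ⟨hx1, hx2⟩
      have h1 : π x ∈ (P.subgroupOf (Ce a)).map π := ⟨x, hx1, rfl⟩
      rw [hmap] at h1
      exact ⟨hx1, ⟨h1.1, hx2⟩⟩
  have e2 : P.subgroupOf (Ce a) ⊓ ((Sa.mapSurjective h.surj : Subgroup X) ⊓
      centralizer (Abar A π : Set X) ⊓ centralizer (J : Set X)).comap π =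
      P.subgroupOf (Ce a) ⊓ (centralizer (J : Set X)).comap π := by
    apply le_antisymm
    · rintro x ⟨hx1, hx2⟩
      exact ⟨hx1, hx2.2⟩
    · rintro x ⟨hx1, hx2⟩
      have h1 : π x ∈ (P.subgroupOf (Ce a)).map π := ⟨x, hx1, rfl⟩
      rw [hmap] at h1
      exact ⟨hx1, ⟨h1, hx2⟩⟩
  rw [e1, e2] at hfac'
  have hfac'' := Fac.push (Ce a).subtype (subtype_injective _) hfac'
  have e3 : (P.subgroupOf (Ce a)).map (Ce a).subtype = P := by
    rw [subgroupOf_map_subtype]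
    exact inf_of_le_left (hP.le_Ce ha)
  rw [e3] at hfac''
  refine ⟨hfac'', ?_⟩
  -- the commutator subgroup
  have e4 : (P.subgroupOf (Ce a) ⊓ J.comap π).map π = (Sa.mapSurjective h.surj : Subgroup X) ⊓ J := by
    apply le_antisymm
    · rintro _ ⟨x, ⟨hx1, hx2⟩, rfl⟩
      have h1 : π x ∈ (P.subgroupOf (Ce a)).map π := ⟨x, hx1, rfl⟩
      rw [hmap] at h1
      exact ⟨h1.1, hx2⟩
    · rintro y ⟨hyS, hyJ⟩
      have h1 : y ∈ (P.subgroupOf (Ce a)).map π := by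
        rw [hmap]
        refine ⟨hyS, mem_centralizer_iff.2 ?_⟩
        intro x hx
        exact (hgood J hJ y hyJ hyS x hx).symm
      obtain ⟨x, hx, rfl⟩ := h1
      exact ⟨x, ⟨hx, hyJ⟩, rfl⟩
  have hTS : P.subgroupOf (Ce a) ⊓ J.comap π ≤ (Sa : Subgroup (Ce a)) := fun x hx => hmemS x hx.1
  have e5 : ⁅P.subgroupOf (Ce a) ⊓ J.comap π, P.subgroupOf (Ce a) ⊓ J.comap π⁆ =
      A.subgroupOf (Ce a) ⊓ J.comap π := by
    have h1 : ⁅P.subgroupOf (Ce a) ⊓ J.comap π, P.subgroupOf (Ce a) ⊓ J.comap π⁆.map π =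
        Abar A π ⊓ J := by
      rw [map_commutator, e4, hac.comm_eq]
    apply le_antisymm
    · intro x hx
      have h2 : π x ∈ Abar A π ⊓ J := by
        rw [← h1]
        exact ⟨x, hx, rfl⟩
      obtain ⟨⟨y, hy, hyx⟩, hxJ⟩ := h2
      have h3 : y = x := h.inj (hmemS y (hP.A_le hy)) (hTS (commutator_le_self _ hx)) hyx
      subst h3
      exact ⟨hy, hxJ⟩
    · rintro x ⟨hxA, hxJ⟩
      have h2 : π x ∈ Abar A π ⊓ J := ⟨⟨x, hxA, rfl⟩, hxJ⟩
      rw [← h1] at h2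
      obtain ⟨y, hy, hyx⟩ := h2
      have h3 : y = x := h.inj (hTS (commutator_le_self _ hy)) (hmemS x (hP.A_le hxA)) hyx
      exact h3 ▸ hy
  have e6 : A ⊓ TJ P π J = (A.subgroupOf (Ce a) ⊓ J.comap π).map (Ce a).subtype := by
    apply le_antisymm
    · rintro x ⟨hxA, ⟨y, ⟨hy1, hy2⟩, rfl⟩⟩
      exact ⟨y, ⟨hxA, hy2⟩, rfl⟩
    · rintro _ ⟨y, ⟨hy1, hy2⟩, rfl⟩
      exact ⟨hy1, ⟨y, ⟨hP.A_le hy1, hy2⟩, rfl⟩⟩
  constructor
  · rw [e6, ← e5, TJ, map_commutator]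
  · have h1 : (A.subgroupOf (Ce a) ⊓ J.comap π).map π = Abar A π ⊓ J := by
      apply le_antisymm
      · rintro _ ⟨x, ⟨hx1, hx2⟩, rfl⟩
        exact ⟨⟨x, hx1, rfl⟩, hx2⟩
      · rintro _ ⟨⟨x, hx, rfl⟩, hxJ⟩
        exact ⟨x, ⟨hx, hxJ⟩, rfl⟩
    have h2 := hac.card
    rw [← h1] at h2
    rw [e6, card_map_of_injective (subtype_injective _)]
    exact h2.trans (Nat.card_le_card_of_surjective
      (fun x : (A.subgroupOf (Ce a) ⊓ J.comap π : Subgroup (Ce a)) =>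
        (⟨π x, ⟨x, x.2, rfl⟩⟩ : (A.subgroupOf (Ce a) ⊓ J.comap π).map π)) (by
        rintro ⟨_, x, hx, rfl⟩
        exact ⟨⟨x, hx⟩, rfl⟩))

/-- `|C_A(J)| ≥ 8` -/
theorem card_cent (h : Cov a X π) (hG : GData A) (hP : SylC A P) (ha : a ∈ A) (ha1 : a ≠ 1)
    {J : Subgroup X} (hJ : IsComponent J) (hAJ : ¬ Abar A π ≤ centralizer (J : Set X)) :
    8 ≤ Nat.card (A ⊓ TJ P π (centralizer (J : Set X)) : Subgroup G) := by
  obtain ⟨h1, h2, h3⟩ := fac_G h hG hP ha hJ hAJ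
  have haC : a ∈ Ce a := mem_centralizer_singleton_iff.2 rfl
  have haR : a ∈ TJ P π (centralizer (J : Set X)) := by
    refine ⟨⟨a, haC⟩, ⟨hP.A_le ha, mem_centralizer_iff.2 ?_⟩, rfl⟩
    intro k hk
    obtain ⟨k', rfl⟩ := h.surj k
    rw [← map_mul, ← map_mul]
    congr 1
    exact Subtype.ext (mem_centralizer_singleton_iff.1 k'.2)
  obtain ⟨n, hn, hnle⟩ := exists_conj_le h1 hG.irr (h2.le.trans inf_le_left) hP.frat ha haR ha1
  calc 8 ≤ Nat.card (A ⊓ TJ P π J : Subgroup G) := h3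
    _ = Nat.card (⁅TJ P π J, TJ P π J⁆ : Subgroup G) := by rw [h2]
    _ = Nat.card (⁅TJ P π J, TJ P π J⁆.map (MulAut.conj n).toMonoidHom : Subgroup G) := by
        rw [card_map_of_injective (MulAut.conj n).injective]
    _ ≤ _ := card_le_of_le hnle

end Cfsg.Agent.ThreePrime.CovP
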