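import Mathlib
import Cfsg.Agent.ThreePrime.LBal

/-!
# Generation: `X = ⟨components not centralised by A⟩ N(A)`
-/

set_option autoImplicit false

namespace Cfsg.Agent.ThreePrime.Generation

open Subgroup
open Cfsg
open Cfsg.Agent.Lib.Cores
open Cfsg.Agent.Lib.ThompsonPQ
open Cfsg.Agent.ThreePrime.Comp
open Cfsg.Agent.ThreePrime.AComp
open Cfsg.Agent.ThreePrime.ACFacts
open Cfsg.Agent.ThreePrime.Pump
open Cfsg.Agent.ThreePrime.LBal
open Cfsg.Agent.SignalizersComponents.CompBasic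
open Cfsg.Agent.SignalizersComponents.Components

universe u

variable {X : Type u} [Group X]

/-- The product of the components not centralised by `A`. -/
def KA (A : Subgroup X) : Subgroup X :=
  ⨆ J : {J : Subgroup X // IsComponent J ∧ ¬ A ≤ centralizer (J : Set X)}, (J : Subgroup X)

theorem le_KA {A J : Subgroup X} (hJ : IsComponent J) (hAJ : ¬ A ≤ centralizer (J : Set X)) :
    J ≤ KA A :=
  le_iSup (fun J : {J : Subgroup X // IsComponent J ∧ ¬ A ≤ centralizer (J : Set X)} =>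
    (J : Subgroup X)) ⟨J, hJ, hAJ⟩

variable [Finite X] {S : Sylow 2 X} {A : Subgroup X}

/-- 2-subgroups of a subnormal subgroup `H` are conjugate in `H` into `S`. -/
theorem exists_conj_mem (S : Sylow 2 X) {H : Subgroup X} (hH : H.IsSubnormal) {B : Subgroup X}
    (hB : IsPGroup 2 B) (hBH : B ≤ H) : ∃ l ∈ H, ∀ b ∈ B, l * b * l⁻¹ ∈ (S : Subgroup X) := by
  obtain ⟨P, hP⟩ := Cfsg.Agent.S0542.result 2 H hH S
  have hB' : IsPGroup 2 (B.subgroupOf H) := hB.of_equiv (subgroupOfEquivOfLe hBH).symm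
  obtain ⟨Q, hQ⟩ := hB'.exists_le_sylow
  obtain ⟨l, hl⟩ := MulAction.exists_smul_eq H Q P
  refine ⟨l, l.2, fun b hb => ?_⟩
  have h1 : (⟨b, hBH hb⟩ : H) ∈ (Q : Subgroup H) := hQ (mem_subgroupOf.2 hb)
  have h2 : l * ⟨b, hBH hb⟩ * l⁻¹ ∈ (P : Subgroup H) := by
    rw [← hl, Sylow.smul_def]
    exact ⟨_, h1, rfl⟩
  rw [hP, mem_subgroupOf] at h2
  exact h2

/-- `A`-components are permuted by `X`. -/
theorem not_le_centralizer_conj (h : Hyp X) (hA : SC S A) (hT : Good S A) {J : Subgroup X}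
    (hJ : IsComponent J) (hAJ : ¬ A ≤ centralizer (J : Set X)) (g : X) :
    ¬ A ≤ centralizer ((J.map (MulAut.conj g).toMonoidHom : Subgroup X) : Set X) := by
  intro hcon
  set J' := J.map (MulAut.conj g).toMonoidHom with hJ'
  have hac := ac h hA hT hJ hAJ
  obtain ⟨b, hbA, hbJ, hb1⟩ := hac.ex
  have hJc : IsComponent J' := isComponent_conj g hJ
  have hb' : g * b * g⁻¹ ∈ J' := ⟨b, hbJ, rfl⟩
  have hP : IsPGroup 2 (zpowers (g * b * g⁻¹)) := by
    rintro ⟨_, k, rfl⟩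
    refine ⟨1, ?_⟩
    apply Subtype.ext
    show ((g * b * g⁻¹) ^ k) ^ 2 ^ 1 = 1
    have h1 : (g * b * g⁻¹) ^ 2 = 1 := by
      rw [pow_two]
      have : g * b * g⁻¹ * (g * b * g⁻¹) = g * (b * b) * g⁻¹ := by group
      rw [this, hA.sq b hbA]
      group
    rw [pow_one, ← zpow_natCast, zpow_comm, zpow_natCast, h1, one_zpow]
  obtain ⟨l, hl, hlS⟩ := exists_conj_mem S hJc.1 hP (by rwa [zpowers_le])
  have h1 := hlS _ (mem_zpowers (g * b * g⁻¹))
  have h2 : l * (g * b * g⁻¹) * l⁻¹ = (l * g) * b * (l * g)⁻¹ := by group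
  have h3 : l * (g * b * g⁻¹) * l⁻¹ ∈ A := by
    rw [h2] at h1 ⊢
    exact hA.mem hbA h1
  have h4 : l * (g * b * g⁻¹) * l⁻¹ ∈ J' := mul_mem (mul_mem hl hb') (inv_mem hl)
  have h5 := mem_centralizer_iff.1 (hcon h3)
  -- so `b` is central in `J`
  apply hb1
  apply hac.ctr b hbJ
  intro k hk
  have h6 := h5 (l * (g * k * g⁻¹) * l⁻¹) (mul_mem (mul_mem hl ⟨k, hk, rfl⟩) (inv_mem hl))
  have h7 : (l * g) * (k * b) * (l * g)⁻¹ = (l * g) * (b * k) * (l * g)⁻¹ := by
    calc (l * g) * (k * b) * (l * g)⁻¹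
        = (l * (g * k * g⁻¹) * l⁻¹) * (l * (g * b * g⁻¹) * l⁻¹) := by group
      _ = (l * (g * b * g⁻¹) * l⁻¹) * (l * (g * k * g⁻¹) * l⁻¹) := h6
      _ = (l * g) * (b * k) * (l * g)⁻¹ := by group
  exact mul_left_cancel (mul_right_cancel h7)

theorem KA_normal (h : Hyp X) (hA : SC S A) (hT : Good S A) : (KA A).Normal := by
  refine ⟨fun x hx g => ?_⟩
  have h1 : (KA A).map (MulAut.conj g).toMonoidHom ≤ KA A := by
    rw [KA, Subgroup.map_iSup]
    refine iSup_le ?_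
    rintro ⟨J, hJ, hAJ⟩
    exact le_KA (isComponent_conj g hJ) (not_le_centralizer_conj h hA hT hJ hAJ g)
  exact h1 ⟨x, hx, rfl⟩

/-- elements of `A` modulo `A ∩ 𝒦` centralise all components. -/
theorem exists_mem_KA (h : Hyp X) (hA : SC S A) (hT : Good S A) {a : X} (ha : a ∈ A) :
    ∃ c ∈ A, c ∈ KA A ∧ ∀ K : Subgroup X, IsComponent K → c⁻¹ * a ∈ centralizer (K : Set X) := by
  classical
  have key : ∀ F : Finset (Subgroup X),
      (∀ K ∈ F, IsComponent K ∧ ¬ A ≤ centralizer (K : Set X)) →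
      ∃ c ∈ A, c ∈ KA A ∧ ∀ K ∈ F, c⁻¹ * a ∈ centralizer (K : Set X) := by
    intro F
    induction F using Finset.induction_on with
    | empty => exact fun _ => ⟨1, one_mem _, one_mem _, by simp⟩
    | insert J F hJF ih =>
      intro hF
      obtain ⟨c, hcA, hcK, hc⟩ := ih (fun K hK => hF K (Finset.mem_insert_of_mem hK))
      obtain ⟨hJ, hAJ⟩ := hF J (Finset.mem_insert_self J F)
      obtain ⟨b, hbA, hbJ, hb⟩ := (ac h hA hT hJ hAJ).exists_split (mul_mem (inv_mem hcA) ha)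
      refine ⟨c * b, mul_mem hcA hbA, mul_mem hcK (le_KA hJ hAJ hbJ), ?_⟩
      have he : (c * b)⁻¹ * a = b⁻¹ * (c⁻¹ * a) := by group
      intro K hK
      rw [he]
      rcases Finset.mem_insert.1 hK with rfl | hK
      · exact hb
      · have hne : J ≠ K := by
          rintro rfl
          exact hJF hK
        have h1 := component_le_centralizer_of_ne hJ (hF K (Finset.mem_insert_of_mem hK)).1 hne
        exact mul_mem (inv_mem (h1 hbJ)) (hc K hK)
  have hfin : Set.Finite {K : Subgroup X | IsComponent K ∧ ¬ A ≤ centralizer (K : Set X)} :=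
    Set.toFinite _
  obtain ⟨c, hcA, hcK, hc⟩ := key hfin.toFinset (by intro K hK; simpa using hK)
  refine ⟨c, hcA, hcK, fun K hK => ?_⟩
  by_cases hAK : A ≤ centralizer (K : Set X)
  · exact hAK (mul_mem (inv_mem hcA) ha)
  · exact hc K (by simpa using ⟨hK, hAK⟩)

/-- `A ∩ O₂(X)` is normal in `X`. -/
theorem conj_mem_inf (hA : SC S A) {q : X} (hq : q ∈ pCore 2 X) (hqA : q ∈ A) (g : X) :
    g * q * g⁻¹ ∈ A :=
  hA.mem hqA (pCore_le_sylow S ((Cfsg.Agent.Lib.Cores.pCore_normal 2).conj_mem q hq g))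

/-- elements of `A` centralising all components lie in `O₂(X)`. -/
theorem mem_pCore (h : Hyp X) (hA : SC S A) {u : X} (hu : u ∈ A)
    (huK : ∀ K : Subgroup X, IsComponent K → u ∈ centralizer (K : Set X)) : u ∈ pCore 2 X := by
  have hqn := (Cfsg.Agent.Lib.Cores.pCore_normal (G := X) 2)
  let W : Subgroup X :=
    { carrier := {x | (∀ K : Subgroup X, IsComponent K → x ∈ centralizer (K : Set X)) ∧
        (∀ q ∈ pCore 2 X, x * q * x⁻¹ * q⁻¹ ∈ A) ∧ (∀ q ∈ pCore 2 X, q ∈ A → x * q = q * x)}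
      one_mem' := by
        refine ⟨fun K _ => one_mem _, fun q _ => ?_, fun q _ _ => by group⟩
        have : (1 : X) * q * 1⁻¹ * q⁻¹ = 1 := by group
        rw [this]
        exact one_mem _
      mul_mem' := by
        rintro x y ⟨hx1, hx2, hx3⟩ ⟨hy1, hy2, hy3⟩
        refine ⟨fun K hK => mul_mem (hx1 K hK) (hy1 K hK), fun q hq => ?_, fun q hq hqA => ?_⟩
        · have h1 := hy2 q hq
          have h2 : y * q * y⁻¹ * q⁻¹ ∈ pCore 2 X := mul_mem (hqn.conj_mem q hq y) (inv_mem hq)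
          have h3 := hx3 _ h2 h1
          have h4 : x * y * q * (x * y)⁻¹ * q⁻¹ = (y * q * y⁻¹ * q⁻¹) * (x * q * x⁻¹ * q⁻¹) := by
            calc x * y * q * (x * y)⁻¹ * q⁻¹ = (x * (y * q * y⁻¹ * q⁻¹)) * (q * x⁻¹ * q⁻¹) := by
                  group
              _ = ((y * q * y⁻¹ * q⁻¹) * x) * (q * x⁻¹ * q⁻¹) := by rw [h3]
              _ = (y * q * y⁻¹ * q⁻¹) * (x * q * x⁻¹ * q⁻¹) := by group
          rw [h4]
          exact mul_mem h1 (hx2 q hq)
        · calc x * y * q = x * (y * q) := by group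
            _ = x * q * y := by rw [hy3 q hq hqA]; group
            _ = q * (x * y) := by rw [hx3 q hq hqA]; group
      inv_mem' := by
        rintro x ⟨hx1, hx2, hx3⟩
        refine ⟨fun K hK => inv_mem (hx1 K hK), fun q hq => ?_, fun q hq hqA => ?_⟩
        · have h1 := hx2 q hq
          have h2 : x * q * x⁻¹ * q⁻¹ ∈ pCore 2 X := mul_mem (hqn.conj_mem q hq x) (inv_mem hq)
          have h3 := hx3 _ h2 h1
          have h4 : x⁻¹ * q * x⁻¹⁻¹ * q⁻¹ = (x * q * x⁻¹ * q⁻¹)⁻¹ := by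
            calc x⁻¹ * q * x⁻¹⁻¹ * q⁻¹ = x⁻¹ * (x * q * x⁻¹ * q⁻¹)⁻¹ * x := by group
              _ = x⁻¹ * ((x * q * x⁻¹ * q⁻¹)⁻¹ * x) := by group
              _ = x⁻¹ * (x * (x * q * x⁻¹ * q⁻¹)⁻¹) := by
                  have h5 : Commute x (x * q * x⁻¹ * q⁻¹) := h3
                  rw [(h5.inv_right).eq]
              _ = (x * q * x⁻¹ * q⁻¹)⁻¹ := by group
          rw [h4]
          exact inv_mem h1
        · have h1 : Commute x q := hx3 q hq hqA
          exact h1.inv_left.eq }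
  have hW : ∀ x, x ∈ W ↔ (∀ K : Subgroup X, IsComponent K → x ∈ centralizer (K : Set X)) ∧
        (∀ q ∈ pCore 2 X, x * q * x⁻¹ * q⁻¹ ∈ A) ∧ (∀ q ∈ pCore 2 X, q ∈ A → x * q = q * x) :=
    fun x => Iff.rfl
  have hWn : W.Normal := by
    refine ⟨?_⟩
    rintro x ⟨hx1, hx2, hx3⟩ g
    refine ⟨fun K hK => ?_, fun q hq => ?_, fun q hq hqA => ?_⟩
    · have h1 := hx1 _ (isComponent_conj g⁻¹ hK)
      rw [mem_centralizer_iff]
      intro k hk
      have h2 := mem_centralizer_iff.1 h1 (g⁻¹ * k * g) ⟨k, hk, by simp⟩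
      calc k * (g * x * g⁻¹) = g * ((g⁻¹ * k * g) * x) * g⁻¹ := by group
        _ = g * (x * (g⁻¹ * k * g)) * g⁻¹ := by rw [h2]
        _ = g * x * g⁻¹ * k := by group
    · have hq' : g⁻¹ * q * g ∈ pCore 2 X := by simpa using hqn.conj_mem q hq g⁻¹
      have h1 := hx2 _ hq'
      have h2 : x * (g⁻¹ * q * g) * x⁻¹ * (g⁻¹ * q * g)⁻¹ ∈ pCore 2 X :=
        mul_mem (hqn.conj_mem _ hq' x) (inv_mem hq')
      have h3 := conj_mem_inf hA h2 h1 g
      have h4 : g * x * g⁻¹ * q * (g * x * g⁻¹)⁻¹ * q⁻¹ =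
          g * (x * (g⁻¹ * q * g) * x⁻¹ * (g⁻¹ * q * g)⁻¹) * g⁻¹ := by group
      rw [h4]
      exact h3
    · have hq' : g⁻¹ * q * g ∈ pCore 2 X := by simpa using hqn.conj_mem q hq g⁻¹
      have hqA' : g⁻¹ * q * g ∈ A := by simpa using conj_mem_inf hA hq hqA g⁻¹
      have h1 := hx3 _ hq' hqA'
      calc g * x * g⁻¹ * q = g * (x * (g⁻¹ * q * g)) * g⁻¹ := by group
        _ = g * ((g⁻¹ * q * g) * x) * g⁻¹ := by rw [h1]
        _ = q * (g * x * g⁻¹) := by group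
  have hW2 : IsPGroup 2 W := by
    apply isPGroup_two_of_odd
    intro y' hodd
    obtain ⟨y, hyW⟩ := y'
    obtain ⟨hy1, hy2, hy3⟩ := (hW y).1 hyW
    rw [Subgroup.orderOf_mk] at hodd
    apply Subtype.ext
    refine eq_one_of_centralises h.core hodd ?_ hy1
    have h1 := commute_of_commutator_commute (U := pCore 2 X) (x := y) ?_ ?_ ?_
    · exact fun q hq => (h1 q hq).eq.symm
    · obtain ⟨n, hn⟩ := (IsPGroup.iff_card.mp (pCore_isPGroup (G := X) 2))
      rw [hn]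
      exact Nat.Coprime.pow_right _ (Nat.coprime_two_right.2 hodd)
    · rw [normalizer_eq_top]
      exact mem_top y
    · intro q hq
      have hinv : y⁻¹ ∈ W := W.inv_mem ⟨hy1, hy2, hy3⟩
      have h2 := hinv.2.1 q hq
      have h3 : y⁻¹ * q * y * q⁻¹ = y⁻¹ * q * y⁻¹⁻¹ * q⁻¹ := by group
      rw [h3]
      have h4 : y⁻¹ * q * y⁻¹⁻¹ * q⁻¹ ∈ pCore 2 X := mul_mem (hqn.conj_mem q hq y⁻¹) (inv_mem hq)
      exact (hy3 _ h4 h2).symm
  have hWle : W ≤ pCore 2 X := le_pCore hWn hW2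
  apply hWle
  refine ⟨huK, fun q hq => ?_, fun q hq hqA => hA.comm u hu q hqA⟩
  have h1 := hA.conj_mem (inv_mem hu) (pCore_le_sylow S hq)
  have h2 : u * q * u⁻¹ * q⁻¹ = u * (q * u⁻¹ * q⁻¹) := by group
  rw [h2]
  exact mul_mem hu h1

theorem generation' (h : Hyp X) (hA : SC S A) (hT : Good S A) (x : X) :
    ∃ k ∈ KA A, ∃ n ∈ normalizer (A : Set X), x = k * n := by
  have hqn := (Cfsg.Agent.Lib.Cores.pCore_normal (G := X) 2)
  have hKn := KA_normal h hA hT
  have hLn : (KA A ⊔ pCore 2 X).Normal := inferInstance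
  have hAL : A ≤ KA A ⊔ pCore 2 X := by
    intro a ha
    obtain ⟨c, hcA, hcK, hc⟩ := exists_mem_KA h hA hT ha
    have h1 := mem_pCore h hA (mul_mem (inv_mem hcA) ha) hc
    have h2 : a = c * (c⁻¹ * a) := by group
    rw [h2]
    exact mul_mem (mem_sup_left hcK) (mem_sup_right h1)
  have hA2 : IsPGroup 2 (A.map (MulAut.conj x).toMonoidHom) :=
    (S.isPGroup'.to_le hA.le).map _
  obtain ⟨l, hl, hlS⟩ := exists_conj_mem S hLn.isSubnormal hA2 (by
    rintro _ ⟨a, ha, rfl⟩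
    exact hLn.conj_mem a (hAL ha) x)
  have h1 : ∀ a ∈ A, (l * x) * a * (l * x)⁻¹ ∈ A := by
    intro a ha
    have h2 := hlS _ ⟨a, ha, rfl⟩
    have h3 : l * ((MulAut.conj x).toMonoidHom a) * l⁻¹ = (l * x) * a * (l * x)⁻¹ := by
      simp [MulAut.conj_apply, mul_assoc]
    rw [h3] at h2
    exact hA.mem ha h2
  have h2 : l * x ∈ normalizer (A : Set X) := by
    rw [Subgroup.mem_normalizer_iff_map_conj_eq]
    apply Subgroup.eq_of_le_of_card_ge
    · rintro _ ⟨a, ha, rfl⟩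
      exact h1 a ha
    · rw [card_map_of_injective (MulAut.conj (l * x)).injective]
  obtain ⟨k, hk, q, hq, hkq⟩ := mem_sup_of_normal_left.mp (inv_mem hl)
  have hqA : q ∈ normalizer (A : Set X) := by
    rw [Subgroup.mem_normalizer_iff_map_conj_eq]
    apply Subgroup.eq_of_le_of_card_ge
    · rintro _ ⟨a, ha, rfl⟩
      exact hA.conj_mem ha (pCore_le_sylow S hq)
    · rw [card_map_of_injective (MulAut.conj q).injective]
  refine ⟨k, hk, q * (l * x), mul_mem hqA h2, ?_⟩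
  have h3 : x = l⁻¹ * (l * x) := by group
  rw [← mul_assoc, hkq, ← h3]

theorem generation (h : Hyp X) (hA : SC S A) (hT : Good S A) (x : X) :
    ∃ k ∈ (⨆ J : {J : Subgroup X // IsComponent J ∧ ¬ A ≤ centralizer (J : Set X)},
      (J : Subgroup X)), ∃ n ∈ normalizer (A : Set X), x = k * n :=
  generation' h hA hT x

end Cfsg.Agent.ThreePrime.Generation
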