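import Mathlib
import Cfsg.Agent.ThreePrime.CovP
import Cfsg.Agent.ThreePrime.CoreConj
import Cfsg.Agent.ThreePrime.Balance
import Cfsg.Agent.ThreePrime.Generation
import Cfsg.Agent.PLocal.PConstrained
import Cfsg.Agent.SignalizersComponents.CoprimeGen

/-!
# The signalizer functor `a ↦ O(C_G(a))`
-/

set_option autoImplicit false
set_option linter.dupNamespace false

namespace Cfsg.Agent.ThreePrime.Signal

open Subgroup
open Cfsg
open Cfsg.Agent.ThreePrime.Chain
open Cfsg.Agent.ThreePrime.Factor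
open Cfsg.Agent.ThreePrime.GData
open Cfsg.Agent.ThreePrime.Comp
open Cfsg.Agent.ThreePrime.AComp
open Cfsg.Agent.ThreePrime.ACFacts
open Cfsg.Agent.ThreePrime.Cov
open Cfsg.Agent.ThreePrime.CovP
open Cfsg.Agent.ThreePrime.CoreConj

universe u

/-- Induction hypothesis. -/
def IH (G : Type u) [Group G] : Prop :=
  ∀ (K : Type u) [Group K] [Finite K] [IsSimpleGroup K], (∃ a b : K, a * b ≠ b * a) →
    ¬ 3 ∣ Nat.card K → Nat.card K < Nat.card G → Cfsg.Lie.IsoSuzuki K

variable {G : Type u} [Group G] [Finite G] {A : Subgroup G}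

theorem card_Ce_lt {a : G} (ha : Ce a ≠ ⊤) : Nat.card (Ce a) < Nat.card G := by
  have h1 := Nat.le_of_dvd Nat.card_pos (card_subgroup_dvd_card (Ce a))
  rcases h1.lt_or_eq with h | h
  · exact h
  · exact absurd ((card_eq_iff_eq_top (Ce a)).1 h) ha

theorem covQ (hIH : IH G) (hG : GData A) {a : G} (ha : Ce a ≠ ⊤) :
    Cov a (Ce a ⧸ oddCore (Ce a)) (QuotientGroup.mk' (oddCore (Ce a))) := by
  refine ⟨QuotientGroup.mk'_surjective _, ?_, ?_, ?_, ?_⟩
  · rw [QuotientGroup.ker_mk', ← Nat.coprime_two_right]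
    exact Cfsg.Agent.Lib.Cores.pPrimeCore_coprime 2
  · intro K _ _ _ hna h3 hcard
    refine hIH K hna h3 (lt_of_le_of_lt hcard (lt_of_le_of_lt ?_ (card_Ce_lt ha)))
    exact Nat.le_of_dvd Nat.card_pos (card_quotient_dvd_card _)
  · intro h3
    exact hG.three ((h3.trans (card_quotient_dvd_card _)).trans (card_subgroup_dvd_card _))
  · exact Cfsg.Agent.Lib.Cores.pPrimeCore_quotient_pPrimeCore 2

theorem cov_id (hIH : IH G) (hG : GData A) {a : G} (ha : Ce a ≠ ⊤) (hc : oddCore (Ce a) = ⊥) :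
    Cov a (Ce a) (MonoidHom.id (Ce a)) := by
  refine ⟨Function.surjective_id, ?_, ?_, ?_, hc⟩
  · have : (MonoidHom.id (Ce a)).ker = ⊥ := by
      rw [MonoidHom.ker_eq_bot_iff]
      exact Function.injective_id
    rw [this, card_bot]
    exact odd_one
  · intro K _ _ _ hna h3 hcard
    exact hIH K hna h3 (lt_of_le_of_lt hcard (card_Ce_lt ha))
  · intro h3
    exact hG.three (h3.trans (card_subgroup_dvd_card _))

/-- Balance for the functor `a ↦ O(C_G(a))`. -/
theorem balance_G (hIH : IH G) (hG : GData A) {a b : G} (ha : a ∈ A) (hb : b ∈ A)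
    (hbC : Ce b ≠ ⊤) :
    centralizerPPrimeCore 2 a ⊓ centralizer ({b} : Set G) ≤ centralizerPPrimeCore 2 b := by
  have : Fact (Nat.Prime 2) := ⟨Nat.prime_two⟩
  have h := covQ hIH hG hbC
  obtain ⟨P, hP⟩ := exists_sylC hG
  obtain ⟨Sb, hSb⟩ := hP.exists_sylow hb
  have hAS := hP.A_le.trans hSb
  have hSC := h.sc hG hAS
  have hgood := h.good hG hAS
  set π := QuotientGroup.mk' (oddCore (Ce b)) with hπ
  have haC : a ∈ Ce b := le_centralizer hG hb ha
  let Y₀ : Subgroup (Ce b) := (centralizerPPrimeCore 2 a).subgroupOf (Ce b)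
  have hodd0 : Odd (Nat.card (centralizerPPrimeCore 2 a)) := by
    rw [← Nat.not_even_iff_odd, even_iff_two_dvd]
    exact core_card 2 a
  have hker : (Nat.card π.ker).Coprime 2 := Nat.coprime_two_right.2 h.ker
  have hY := Balance.balance h.hyp hSC hgood (a := π ⟨a, haC⟩) ⟨⟨a, haC⟩, ha, rfl⟩ (Y := Y₀.map π)
    ?_ ?_ ?_
  · rintro y ⟨hy, hyb⟩
    have hyC : y ∈ Ce b := hyb
    have h1 : π ⟨y, hyC⟩ ∈ Y₀.map π := ⟨⟨y, hyC⟩, hy, rfl⟩
    rw [hY, mem_bot, ← MonoidHom.mem_ker, hπ, QuotientGroup.ker_mk'] at h1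
    exact ⟨_, h1, rfl⟩
  · refine Odd.of_dvd_nat hodd0 ?_
    exact (Cfsg.Agent.PLocal.PConstrained.card_map_dvd π Y₀).trans
      (card_comap_dvd_of_injective _ _ (subtype_injective _))
  · rintro _ ⟨y, hy, rfl⟩
    rw [← map_mul, ← map_mul]
    congr 1
    apply Subtype.ext
    exact (mem_centralizer_singleton_iff.1 (core_le 2 a hy)).symm
  · rintro c hc _ ⟨y, hy, rfl⟩
    have hz : IsPGroup 2 (zpowers (⟨a, haC⟩ : Ce b)) := by
      rintro ⟨_, k, rfl⟩
      refine ⟨1, ?_⟩
      apply Subtype.ext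
      have h1 : (⟨a, haC⟩ : Ce b) * ⟨a, haC⟩ = 1 := Subtype.ext (hG.sq a ha)
      change ((⟨a, haC⟩ : Ce b) ^ k) ^ (2 ^ 1) = 1
      rw [pow_one, pow_two, ← Commute.mul_zpow (Commute.refl _), h1, one_zpow]
    have h1 := Cfsg.Agent.PLocal.PConstrained.map_centralizer_eq π h.surj hker hz
    have h2 : c ∈ centralizer (((zpowers (⟨a, haC⟩ : Ce b)).map π : Subgroup _) : Set _) := by
      rw [MonoidHom.map_zpowers, Cfsg.Agent.SignalizersComponents.CoprimeGen.centralizer_zpowers,
        mem_centralizer_singleton_iff]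
      exact hc
    rw [← h1] at h2
    obtain ⟨c', hc', rfl⟩ := h2
    rw [Cfsg.Agent.SignalizersComponents.CoprimeGen.centralizer_zpowers, SetLike.mem_coe,
      mem_centralizer_singleton_iff] at hc'
    refine ⟨c' * y * c'⁻¹, ?_, by rw [map_mul, map_mul, map_inv]⟩
    have h3 : (c' : G) ∈ centralizer ({a} : Set G) := by
      rw [mem_centralizer_singleton_iff]
      exact congrArg Subtype.val hc'
    exact (mem_normalizer_iff.1 (core_normalized 2 a h3) y).1 hy

omit [Finite G] in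
theorem isElementaryAbelian_of (hsq : ∀ x ∈ A, x * x = 1)
    (hcomm : ∀ x ∈ A, ∀ y ∈ A, x * y = y * x) : Cfsg.IsElementaryAbelian 2 A := by
  refine ⟨⟨⟨fun x y => Subtype.ext (hcomm x x.2 y y.2)⟩⟩, ?_⟩
  intro a ha
  rw [pow_two]
  exact hsq a ha

/-- The completion `W` of the functor. -/
structure Completion (A W : Subgroup G) : Prop where
  odd : ¬ 2 ∣ Nat.card W
  eq : W = ⨆ b : {b : G // b ∈ A ∧ b ≠ 1}, centralizerPPrimeCore 2 (b : G)
  inf : ∀ a ∈ A, a ≠ 1 → W ⊓ centralizer ({a} : Set G) = centralizerPPrimeCore 2 a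

variable {W : Subgroup G}

theorem normalizer_le (hW : Completion A W) :
    normalizer (A : Set G) ≤ normalizer (W : Set G) := by
  intro n hn
  apply mem_normalizer_of_forall
  intro x hx
  have h1 : W ≤ W.comap (MulAut.conj n).toMonoidHom := by
    conv_lhs => rw [hW.eq]
    apply iSup_le
    rintro ⟨b, hb, hb1⟩
    have h2 : centralizerPPrimeCore 2 (n * b * n⁻¹) ≤ W := by
      conv_rhs => rw [hW.eq]
      exact le_iSup (fun b : {b : G // b ∈ A ∧ b ≠ 1} => centralizerPPrimeCore 2 (b : G))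
        ⟨n * b * n⁻¹, (mem_normalizer_iff.1 hn b).1 hb, by
          intro h
          apply hb1
          rw [mul_inv_eq_one] at h
          exact mul_left_cancel (h.trans (mul_one n).symm)⟩
    rw [← map_le_iff_le_comap, ← core_conj]
    exact h2
  exact h1 hx

/-- `C_G(V) ≤ N_G(W)` for `V ≤ A` noncyclic. -/
theorem centralizer_le (hG : GData A) (hW : Completion A W) {V : Subgroup G} (hVA : V ≤ A)
    (hV : 4 ≤ Nat.card V) : centralizer (V : Set G) ≤ normalizer (W : Set G) := by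
  have : Fact (Nat.Prime 2) := ⟨Nat.prime_two⟩
  have hVE : Cfsg.IsElementaryAbelian 2 V :=
    isElementaryAbelian_of (fun x hx => hG.sq x (hVA hx)) (fun x hx y hy => hG.comm x (hVA hx) y (hVA hy))
  have hAN : A ≤ normalizer (A : Set G) := le_normalizer
  have h1 := Cfsg.Agent.SignalizersComponents.CoprimeGen.le_iSup_centralizer_ne_one hVE
    (by simpa using hV) hW.odd (hVA.trans (hAN.trans (normalizer_le hW)))
  intro c hc
  apply mem_normalizer_of_forall
  intro x hx
  have h2 : (⨆ a : {a : G // a ∈ V ∧ a ≠ 1}, W ⊓ centralizer {(a : G)}) ≤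
      W.comap (MulAut.conj c).toMonoidHom := by
    apply iSup_le
    rintro ⟨b, hb, hb1⟩
    intro y hy
    have h3 : y ∈ centralizerPPrimeCore 2 b := by
      rw [← hW.inf b (hVA hb) hb1]
      exact hy
    have hcb : c ∈ centralizer ({b} : Set G) := by
      rw [mem_centralizer_singleton_iff]
      exact (mem_centralizer_iff.1 hc b hb).symm
    have h4 : c * y * c⁻¹ ∈ centralizerPPrimeCore 2 b :=
      (mem_normalizer_iff.1 (core_normalized 2 b hcb) y).1 h3
    rw [← hW.inf b (hVA hb) hb1] at h4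
    exact h4.1
  exact h2 (h1 hx)

/-- `C_G(a) ≤ N_G(W)` for all `a`. -/
theorem Ce_le (hIH : IH G) (hG : GData A) (hW : Completion A W) {a : G} (ha : a ∈ A) (ha1 : a ≠ 1)
    (haC : Ce a ≠ ⊤) : Ce a ≤ normalizer (W : Set G) := by
  have : Fact (Nat.Prime 2) := ⟨Nat.prime_two⟩
  have h := covQ hIH hG haC
  obtain ⟨P, hP⟩ := exists_sylC hG
  obtain ⟨Sa, hSa⟩ := hP.exists_sylow ha
  have hAS := hP.A_le.trans hSa
  have hSC := h.sc hG hAS
  have hgood := h.good hG hAS
  set π := QuotientGroup.mk' (oddCore (Ce a)) with hπ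
  have hker : (Nat.card π.ker).Coprime 2 := Nat.coprime_two_right.2 h.ker
  set M := normalizer (W : Set G) with hM
  -- the kernel
  have hkerM : ∀ x : Ce a, π x = 1 → (x : G) ∈ M := by
    intro x hx
    rw [← MonoidHom.mem_ker, hπ, QuotientGroup.ker_mk'] at hx
    have h1 : (x : G) ∈ centralizerPPrimeCore 2 a := ⟨x, hx, rfl⟩
    rw [← hW.inf a ha ha1] at h1
    exact le_normalizer h1.1
  have hlift : ∀ x : Ce a, π x ∈ (M.subgroupOf (Ce a)).map π → (x : G) ∈ M := by
    rintro x ⟨y, hy, hyx⟩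
    have h1 : (y : G) ∈ M := hy
    have h2 := hkerM (y⁻¹ * x) (by rw [map_mul, map_inv, hyx, inv_mul_cancel])
    have h3 := mul_mem h1 h2
    simpa using h3
  have hA2 : IsPGroup 2 (A.subgroupOf (Ce a)) :=
    (isPGroup_of_sq hG.sq).comap_of_injective _ (subtype_injective _)
  -- the normalizer of `A`
  have hN : normalizer (Abar A π : Set _) ≤ (M.subgroupOf (Ce a)).map π := by
    have h1 := Cfsg.Agent.PLocal.PConstrained.map_normalizer_eq π h.surj hker hA2
    rw [Abar, ← h1]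
    apply map_mono
    intro x hx
    rw [mem_subgroupOf]
    apply normalizer_le hW
    apply mem_normalizer_of_forall
    intro y hy
    exact (mem_normalizer_iff.1 hx ⟨y, le_centralizer hG ha hy⟩).1 hy
  -- components
  have hJ : ∀ J : Subgroup (Ce a ⧸ oddCore (Ce a)), IsComponent J →
      ¬ Abar A π ≤ centralizer (J : Set _) → J ≤ (M.subgroupOf (Ce a)).map π := by
    intro J hJ hAJ
    have h8 := card_cent h hG hP ha ha1 hJ hAJ
    set V := A ⊓ TJ P π (centralizer (J : Set _)) with hV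
    have hVM := centralizer_le hG hW (V := V) inf_le_left (by omega)
    have hV2 : IsPGroup 2 (V.subgroupOf (Ce a)) :=
      ((isPGroup_of_sq hG.sq).to_le inf_le_left).comap_of_injective _ (subtype_injective _)
    have h1 := Cfsg.Agent.PLocal.PConstrained.map_centralizer_eq π h.surj hker hV2
    intro k hk
    have h2 : k ∈ centralizer (((V.subgroupOf (Ce a)).map π : Subgroup _) : Set _) := by
      rw [mem_centralizer_iff]
      rintro _ ⟨v, hv, rfl⟩
      have h3 : (v : G) ∈ TJ P π (centralizer (J : Set _)) := hv.2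
      rw [mem_TJ] at h3
      exact (mem_centralizer_iff.1 h3.2 k hk).symm
    rw [← h1] at h2
    obtain ⟨c, hc, rfl⟩ := h2
    refine ⟨c, ?_, rfl⟩
    rw [SetLike.mem_coe, mem_subgroupOf]
    apply hVM
    rw [mem_centralizer_iff]
    intro v hv
    have hvC : v ∈ Ce a := le_centralizer hG ha hv.1
    exact congrArg Subtype.val (mem_centralizer_iff.1 hc ⟨v, hvC⟩ hv)
  intro c hc
  apply hlift ⟨c, hc⟩
  obtain ⟨k, hk, n, hn, hkn⟩ := Generation.generation h.hyp hSC hgood (π ⟨c, hc⟩)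
  rw [hkn]
  refine mul_mem ?_ (hN hn)
  have hle : (⨆ J : {J : Subgroup (Ce a ⧸ oddCore (Ce a)) // IsComponent J ∧
      ¬ Abar A π ≤ centralizer (J : Set _)}, (J : Subgroup _)) ≤ (M.subgroupOf (Ce a)).map π := by
    apply iSup_le
    rintro ⟨J, hJ1, hJ2⟩
    exact hJ J hJ1 hJ2
  exact hle hk

end Cfsg.Agent.ThreePrime.Signal
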