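import Mathlib
import Cfsg.Agent.ThreePrime.Signal
import Cfsg.Agent.ThreePrime.LBal
import Cfsg.Agent.ThreePrime.Transfer

/-!
# The case of trivial cores
-/

set_option autoImplicit false
set_option linter.dupNamespace false

namespace Cfsg.Agent.ThreePrime.TrivCore

open Subgroup
open scoped commutatorElement
open Cfsg
open Cfsg.Agent.ThreePrime.Chain
open Cfsg.Agent.ThreePrime.Factor
open Cfsg.Agent.ThreePrime.GData
open Cfsg.Agent.ThreePrime.Comp
open Cfsg.Agent.ThreePrime.AComp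
open Cfsg.Agent.ThreePrime.ACFacts
open Cfsg.Agent.ThreePrime.Cov
open Cfsg.Agent.ThreePrime.CovP
open Cfsg.Agent.ThreePrime.Signal
open Cfsg.Agent.SignalizersComponents.Components

universe u

variable {G : Type u} [Group G]

/-! ### Conjugates -/

/-- the conjugate of a subgroup. -/
def cj (n : G) (J : Subgroup G) : Subgroup G := J.map (MulAut.conj n).toMonoidHom

theorem mem_cj {n x : G} {J : Subgroup G} : x ∈ cj n J ↔ n⁻¹ * x * n ∈ J := by
  constructor
  · rintro ⟨y, hy, rfl⟩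
    have e : n⁻¹ * ((MulAut.conj n).toMonoidHom y) * n = y := by
      change n⁻¹ * (n * y * n⁻¹) * n = y
      group
    rw [e]
    exact hy
  · intro h
    refine ⟨_, h, ?_⟩
    change n * (n⁻¹ * x * n) * n⁻¹ = x
    group

theorem conj_mem_cj {n x : G} {J : Subgroup G} (hx : x ∈ J) : n * x * n⁻¹ ∈ cj n J := ⟨x, hx, rfl⟩

theorem cj_mul (m n : G) (J : Subgroup G) : cj (m * n) J = cj m (cj n J) := by
  ext x
  rw [mem_cj, mem_cj, mem_cj]
  have e : (m * n)⁻¹ * x * (m * n) = n⁻¹ * (m⁻¹ * x * m) * n := by group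
  rw [e]

theorem cj_one (J : Subgroup G) : cj 1 J = J := by
  ext x
  rw [mem_cj]
  simp

theorem cj_inv_cj (n : G) (J : Subgroup G) : cj n⁻¹ (cj n J) = J := by
  rw [← cj_mul, inv_mul_cancel, cj_one]

theorem cj_cj_inv (n : G) (J : Subgroup G) : cj n (cj n⁻¹ J) = J := by
  rw [← cj_mul, mul_inv_cancel, cj_one]

theorem cj_inj {n : G} {J K : Subgroup G} (h : cj n J = cj n K) : J = K := by
  rw [← cj_inv_cj n J, h, cj_inv_cj]

theorem cj_eq_iff {n : G} {J : Subgroup G} : cj n J = J ↔ n ∈ normalizer (J : Set G) :=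
  (Subgroup.mem_normalizer_iff_map_conj_eq).symm

theorem cj_centralizer (n : G) (J : Subgroup G) :
    cj n (centralizer (J : Set G)) = centralizer (cj n J : Set G) := by
  ext x
  rw [mem_cj, mem_centralizer_iff, mem_centralizer_iff]
  constructor
  · rintro h _ ⟨y, hy, rfl⟩
    have h1 := h y hy
    change n * y * n⁻¹ * x = x * (n * y * n⁻¹)
    calc n * y * n⁻¹ * x = n * (y * (n⁻¹ * x * n)) * n⁻¹ := by group
      _ = n * (n⁻¹ * x * n * y) * n⁻¹ := by rw [h1]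
      _ = x * (n * y * n⁻¹) := by group
  · intro h y hy
    have h1 := h (n * y * n⁻¹) (conj_mem_cj hy)
    calc y * (n⁻¹ * x * n) = n⁻¹ * (n * y * n⁻¹ * x) * n := by group
      _ = n⁻¹ * (x * (n * y * n⁻¹)) * n := by rw [h1]
      _ = n⁻¹ * x * n * y := by group

theorem cj_Ce (n a : G) : cj n (Ce a) = Ce (n * a * n⁻¹) := by
  ext x
  rw [mem_cj, mem_centralizer_singleton_iff, mem_centralizer_singleton_iff]
  constructor
  · intro h
    calc x * (n * a * n⁻¹) = n * (n⁻¹ * x * n * a) * n⁻¹ := by group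
      _ = n * (a * (n⁻¹ * x * n)) * n⁻¹ := by rw [h]
      _ = n * a * n⁻¹ * x := by group
  · intro h
    calc n⁻¹ * x * n * a = n⁻¹ * (x * (n * a * n⁻¹)) * n := by group
      _ = n⁻¹ * (n * a * n⁻¹ * x) * n := by rw [h]
      _ = a * (n⁻¹ * x * n) := by group

theorem isComponent_cj (n : G) {H J : Subgroup G} (hJH : J ≤ H) (hJ : IsComponent (J.subgroupOf H)) :
    IsComponent ((cj n J).subgroupOf (cj n H)) := by
  let e : H ≃* cj n H := H.equivMapOfInjective _ (MulAut.conj n).injective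
  have h1 := isComponent_map_equiv e hJ
  have h2 : (J.subgroupOf H).map e.toMonoidHom = (cj n J).subgroupOf (cj n H) := by
    ext x
    rw [mem_subgroupOf]
    constructor
    · rintro ⟨y, hy, rfl⟩
      exact ⟨y, hy, rfl⟩
    · rintro ⟨y, hy, hyx⟩
      exact ⟨⟨y, hJH hy⟩, hy, Subtype.ext hyx⟩
  rwa [h2] at h1

/-! ### Components of the centralizers -/

variable [Finite G] {A P : Subgroup G}

/-- `J` is a component of `C_G(a)` not centralised by `A`. -/
structure AJ (A : Subgroup G) (a : G) (J : Subgroup G) : Prop where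
  mem : a ∈ A
  ne : a ≠ 1
  le : J ≤ Ce a
  comp : IsComponent (J.subgroupOf (Ce a))
  nc : ¬ A ≤ centralizer (J : Set G)

/-- the standing hypothesis. -/
structure Hyps (A : Subgroup G) : Prop where
  ih : IH G
  g : GData A
  ce : ∀ a ∈ A, a ≠ 1 → Ce a ≠ ⊤
  core : ∀ a ∈ A, a ≠ 1 → oddCore (Ce a) = ⊥

theorem Hyps.cov (H : Hyps A) {a : G} (ha : a ∈ A) (ha1 : a ≠ 1) :
    Cov a (Ce a) (MonoidHom.id (Ce a)) := cov_id H.ih H.g (H.ce a ha ha1) (H.core a ha ha1)

omit [Finite G] in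
theorem Abar_id (a : G) : Abar A (MonoidHom.id (Ce a)) = A.subgroupOf (Ce a) := by
  rw [Abar, Subgroup.map_id]

/-- Sylow 2-subgroups of `C_G(a)`. -/
theorem Hyps.exists_sylow (H : Hyps A) {a : G} (ha : a ∈ A) (ha1 : a ≠ 1) :
    ∃ S : Sylow 2 (Ce a), SC S (A.subgroupOf (Ce a)) ∧ Good S (A.subgroupOf (Ce a)) := by
  have : Fact (Nat.Prime 2) := ⟨Nat.prime_two⟩
  obtain ⟨P, hP⟩ := exists_sylC H.g
  obtain ⟨Sa, hSa⟩ := hP.exists_sylow ha
  have h := H.cov ha ha1
  have hAS := hP.A_le.trans hSa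
  refine ⟨Sa.mapSurjective h.surj, ?_, ?_⟩
  · rw [← Abar_id]
    exact h.sc H.g hAS
  · rw [← Abar_id]
    exact h.good H.g hAS

omit [Finite G] in
theorem AJ.nc' {a : G} {J : Subgroup G} (h : AJ A a J) :
    ¬ A.subgroupOf (Ce a) ≤ centralizer (J.subgroupOf (Ce a) : Set (Ce a)) ∨ ¬ A ≤ Ce a := by
  by_contra hcon
  push Not at hcon
  apply h.nc
  intro x hx
  rw [mem_centralizer_iff]
  intro k hk
  exact congrArg Subtype.val (mem_centralizer_iff.1 (hcon.1 (show (⟨x, hcon.2 hx⟩ : Ce a) ∈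
    A.subgroupOf (Ce a) from hx)) ⟨k, h.le hk⟩ hk)

omit [Finite G] in
theorem AJ.nc2 (H : Hyps A) {a : G} {J : Subgroup G} (h : AJ A a J) :
    ¬ A.subgroupOf (Ce a) ≤ centralizer (J.subgroupOf (Ce a) : Set (Ce a)) :=
  h.nc'.resolve_right (fun h1 => h1 (le_centralizer H.g h.mem))

theorem AJ.ac (H : Hyps A) {a : G} {J : Subgroup G} (h : AJ A a J) :
    ∃ S : Sylow 2 (Ce a), AC S (A.subgroupOf (Ce a)) (J.subgroupOf (Ce a)) := by
  obtain ⟨S, hS1, hS2⟩ := H.exists_sylow h.mem h.ne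
  exact ⟨S, ACFacts.ac (H.cov h.mem h.ne).hyp hS1 hS2 h.comp (h.nc2 H)⟩

/-- trivial centre -/
theorem AJ.ctr (H : Hyps A) {a : G} {J : Subgroup G} (h : AJ A a J) {z : G} (hz : z ∈ J)
    (hzJ : z ∈ centralizer (J : Set G)) : z = 1 := by
  obtain ⟨S, hS⟩ := h.ac H
  have h1 := hS.ctr ⟨z, h.le hz⟩ hz (by
    intro k hk
    exact Subtype.ext (mem_centralizer_iff.1 hzJ k hk))
  exact congrArg Subtype.val h1

/-- `A = (A ∩ J) C_A(J)` -/
theorem AJ.split (H : Hyps A) {a : G} {J : Subgroup G} (h : AJ A a J) {x : G} (hx : x ∈ A) :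
    ∃ b ∈ A ⊓ J, b⁻¹ * x ∈ centralizer (J : Set G) := by
  obtain ⟨S, hS⟩ := h.ac H
  obtain ⟨b, hbA, hbJ, hb⟩ := hS.exists_split (a := ⟨x, le_centralizer H.g h.mem hx⟩) hx
  refine ⟨b, ⟨hbA, hbJ⟩, ?_⟩
  rw [mem_centralizer_iff]
  intro k hk
  exact congrArg Subtype.val (mem_centralizer_iff.1 hb ⟨k, h.le hk⟩ hk)

omit [Finite G] in
/-- distinct components of `C_G(a)` commute. -/
theorem AJ.comm {a : G} {J K : Subgroup G} (h : AJ A a J) (hK : AJ A a K) (hne : J ≠ K) :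
    K ≤ centralizer (J : Set G) := by
  have hne' : K.subgroupOf (Ce a) ≠ J.subgroupOf (Ce a) := by
    intro he
    apply hne
    have h1 := congrArg (Subgroup.map (Ce a).subtype) he
    rw [subgroupOf_map_subtype, subgroupOf_map_subtype, inf_of_le_left h.le, inf_of_le_left hK.le]
      at h1
    exact h1.symm
  have h1 := component_le_centralizer_of_ne hK.comp h.comp hne'
  intro k hk
  rw [mem_centralizer_iff]
  intro j hj
  exact congrArg Subtype.val (mem_centralizer_iff.1 (h1 (show (⟨k, hK.le hk⟩ : Ce a) ∈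
    K.subgroupOf (Ce a) from hk)) ⟨j, h.le hj⟩ hj)

omit [Finite G] in
theorem TJ_id {a : G} {J : Subgroup G} (hJ : J ≤ Ce a) :
    TJ P (MonoidHom.id (Ce a)) (J.subgroupOf (Ce a)) = P ⊓ J := by
  ext x
  constructor
  · rintro ⟨y, ⟨hy1, hy2⟩, rfl⟩
    exact ⟨hy1, hy2⟩
  · rintro ⟨h1, h2⟩
    exact ⟨⟨x, hJ h2⟩, ⟨h1, h2⟩, rfl⟩

omit [Finite G] in
theorem TJ_id' {a : G} (hP : SylC A P) (ha : a ∈ A) {J : Subgroup G} (hJ : J ≤ Ce a) :
    TJ P (MonoidHom.id (Ce a)) (centralizer (J.subgroupOf (Ce a) : Set (Ce a))) =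
      P ⊓ centralizer (J : Set G) := by
  ext x
  constructor
  · rintro ⟨y, ⟨hy1, hy2⟩, rfl⟩
    refine ⟨hy1, mem_centralizer_iff.2 ?_⟩
    intro k hk
    exact congrArg Subtype.val (mem_centralizer_iff.1 hy2 ⟨k, hJ hk⟩ hk)
  · rintro ⟨h1, h2⟩
    refine ⟨⟨x, hP.le_Ce ha h1⟩, ⟨h1, mem_centralizer_iff.2 ?_⟩, rfl⟩
    intro k hk
    exact Subtype.ext (mem_centralizer_iff.1 h2 k hk)

theorem AJ.fac (H : Hyps A) (hP : SylC A P) {a : G} {J : Subgroup G} (h : AJ A a J) :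
    Fac P (P ⊓ J) (P ⊓ centralizer (J : Set G)) ∧ ⁅P ⊓ J, P ⊓ J⁆ = A ⊓ J ∧
      8 ≤ Nat.card (A ⊓ J : Subgroup G) := by
  have h1 := fac_G (H.cov h.mem h.ne) H.g hP h.mem h.comp (by
    rw [Abar_id]; exact h.nc2 H)
  rw [TJ_id h.le, TJ_id' hP h.mem h.le] at h1
  have e : A ⊓ (P ⊓ J) = A ⊓ J := by
    rw [← inf_assoc, inf_of_le_left hP.A_le]
  rwa [e] at h1

theorem AJ.exists_ne (H : Hyps A) {a : G} {J : Subgroup G} (h : AJ A a J) : ∃ b ∈ A ⊓ J, b ≠ 1 := by
  obtain ⟨P, hP⟩ := exists_sylC H.g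
  obtain ⟨-, -, h8⟩ := h.fac H hP
  rcases bot_or_exists_ne_one (A ⊓ J) with h1 | h1
  · rw [h1, card_bot] at h8
    omega
  · exact h1

omit [Finite G] in
theorem AJ.conj {a n : G} {J : Subgroup G} (h : AJ A a J) (hn : n ∈ normalizer (A : Set G)) :
    AJ A (n * a * n⁻¹) (cj n J) := by
  refine ⟨(mem_normalizer_iff.1 hn a).1 h.mem, ?_, ?_, ?_, ?_⟩
  · intro h1
    apply h.ne
    rw [mul_inv_eq_one] at h1
    exact mul_left_cancel (h1.trans (mul_one n).symm)
  · rw [← cj_Ce]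
    exact map_mono h.le
  · rw [← cj_Ce]
    exact isComponent_cj n h.le h.comp
  · intro h1
    apply h.nc
    intro x hx
    have h2 := h1 ((mem_normalizer_iff.1 hn x).1 hx)
    rw [← cj_centralizer, mem_cj] at h2
    have e : n⁻¹ * (n * x * n⁻¹) * n = x := by group
    rwa [e] at h2

/-- The dichotomy. -/
theorem AJ.dich (H : Hyps A) {a b : G} {J K : Subgroup G} (h : AJ A a J) (hK : AJ A b K) :
    (A ⊓ K ≤ centralizer (J : Set G) ∧ A ⊓ J ≤ centralizer (K : Set G)) ∨ A ⊓ J = A ⊓ K := by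
  obtain ⟨P, hP⟩ := exists_sylC H.g
  obtain ⟨f1, c1, -⟩ := h.fac H hP
  obtain ⟨f2, c2, -⟩ := hK.fac H hP
  rcases dichotomy f1 f2 with h1 | h1
  · left
    constructor
    · rw [← c2]
      exact (commutator_le_of_comm f1 f2 h1).trans inf_le_right
    · rw [← c1]
      exact (commutator_le_of_comm f2 f1 (fun t ht t' ht' => (h1 t' ht' t ht).symm)).trans inf_le_right
  · right
    rw [← c1, ← c2]
    exact (commutator_eq_of_comm' f1 f2 h1).symm

/-- `𝒥`: the set of all such components. -/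
def IsAJ (A : Subgroup G) (J : Subgroup G) : Prop := ∃ a, AJ A a J

omit [Finite G] in
theorem IsAJ.conj {n : G} {J : Subgroup G} (h : IsAJ A J) (hn : n ∈ normalizer (A : Set G)) :
    IsAJ A (cj n J) := by
  obtain ⟨a, ha⟩ := h
  exact ⟨_, ha.conj hn⟩

omit [Finite G] in
theorem cj_inf {n : G} {J : Subgroup G} (hn : n ∈ normalizer (A : Set G)) :
    cj n (A ⊓ J) = A ⊓ cj n J := by
  ext x
  rw [mem_cj, mem_inf, mem_inf, mem_cj]
  have h1 := (mem_normalizer_iff.1 (inv_mem hn) x)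
  rw [inv_inv] at h1
  rw [← h1]

/-- `A` is generated by the `A ∩ J`. -/
theorem iSup_eq (H : Hyps A) {J₀ : Subgroup G} (h₀ : IsAJ A J₀) :
    (⨆ J : {J : Subgroup G // IsAJ A J}, A ⊓ (J : Subgroup G)) = A := by
  apply H.g.irr
  · exact iSup_le fun J => inf_le_left
  · obtain ⟨a, ha⟩ := h₀
    obtain ⟨b, hb, hb1⟩ := ha.exists_ne H
    intro hbot
    have h1 : b ∈ (⨆ J : {J : Subgroup G // IsAJ A J}, A ⊓ (J : Subgroup G)) :=
      le_iSup (fun J : {J : Subgroup G // IsAJ A J} => A ⊓ (J : Subgroup G)) ⟨J₀, a, ha⟩ hb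
    rw [hbot, mem_bot] at h1
    exact hb1 h1
  · intro n hn x hx
    have h1 : (⨆ J : {J : Subgroup G // IsAJ A J}, A ⊓ (J : Subgroup G)) ≤
        (⨆ J : {J : Subgroup G // IsAJ A J}, A ⊓ (J : Subgroup G)).comap
          (MulAut.conj n).toMonoidHom := by
      apply iSup_le
      rintro ⟨J, hJ⟩
      rw [← map_le_iff_le_comap]
      change cj n (A ⊓ J) ≤ _
      rw [cj_inf hn]
      exact le_iSup (fun J : {J : Subgroup G // IsAJ A J} => A ⊓ (J : Subgroup G)) ⟨_, hJ.conj hn⟩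
    exact h1 hx

/-- `C_A(J)` is generated by the other `A ∩ K`. -/
theorem inf_centralizer_eq (H : Hyps A) {J : Subgroup G} (hJ : IsAJ A J) :
    A ⊓ centralizer (J : Set G) =
      ⨆ K : {K : Subgroup G // IsAJ A K ∧ A ⊓ K ≠ A ⊓ J}, A ⊓ (K : Subgroup G) := by
  set V := ⨆ K : {K : Subgroup G // IsAJ A K ∧ A ⊓ K ≠ A ⊓ J}, A ⊓ (K : Subgroup G) with hV
  obtain ⟨a, ha⟩ := hJ
  have hle : V ≤ A ⊓ centralizer (J : Set G) := by
    apply iSup_le
    rintro ⟨K, ⟨b, hK⟩, hne⟩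
    refine le_inf inf_le_left ?_
    rcases ha.dich H hK with h1 | h1
    · exact h1.1
    · exact absurd h1.symm hne
  apply le_antisymm _ hle
  intro x hx
  have h1 : (⨆ J : {J : Subgroup G // IsAJ A J}, A ⊓ (J : Subgroup G)) ≤ (A ⊓ J) ⊔ V := by
    apply iSup_le
    rintro ⟨K, hK⟩
    by_cases hKJ : A ⊓ K = A ⊓ J
    · change A ⊓ K ≤ _
      rw [hKJ]
      exact le_sup_left
    · exact le_trans (le_iSup (fun K : {K : Subgroup G // IsAJ A K ∧ A ⊓ K ≠ A ⊓ J} =>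
        A ⊓ (K : Subgroup G)) ⟨K, hK, hKJ⟩) le_sup_right
  rw [iSup_eq H ⟨a, ha⟩] at h1
  have hcomm : V ≤ normalizer ((A ⊓ J : Subgroup G) : Set G) := by
    refine hle.trans (inf_le_left.trans ?_)
    intro y hy
    apply mem_normalizer_of_forall
    rintro z ⟨hzA, hzJ⟩
    have e : y * z * y⁻¹ = z := by
      rw [H.g.comm y hy z hzA]; group
    rw [e]
    exact ⟨hzA, hzJ⟩
  have h2 := h1 hx.1
  rw [← SetLike.mem_coe, Subgroup.coe_mul_of_right_le_normalizer_left _ _ hcomm] at h2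
  obtain ⟨b, hb, v, hv, rfl⟩ := h2
  have h3 : b ∈ centralizer (J : Set G) := by
    have h5 : v ∈ centralizer (J : Set G) := (hle hv).2
    have h6 : b * v ∈ centralizer (J : Set G) := hx.2
    have h4 := mul_mem h6 (inv_mem h5)
    rwa [mul_inv_cancel_right] at h4
  have h4 := ha.ctr H hb.2 h3
  change b * v ∈ V
  rw [h4, one_mul]
  exact hv

/-- L-balance -/
theorem IsAJ.aj (H : Hyps A) {J : Subgroup G} (hJ : IsAJ A J) {v : G} (hv : v ∈ A)
    (hvJ : v ∈ centralizer (J : Set G)) (hv1 : v ≠ 1) : AJ A v J := by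
  obtain ⟨a, ha⟩ := hJ
  have hJv : J ≤ Ce v := by
    intro j hj
    rw [mem_centralizer_singleton_iff]
    exact mem_centralizer_iff.1 hvJ j hj
  refine ⟨hv, hv1, hJv, ?_, ha.nc⟩
  obtain ⟨S, hS1, hS2⟩ := H.exists_sylow hv hv1
  have haC : a ∈ Ce v := le_centralizer H.g hv ha.mem
  have hle : J.subgroupOf (Ce v) ≤ centralizer ({(⟨a, haC⟩ : Ce v)} : Set (Ce v)) := by
    intro j hj
    rw [mem_centralizer_singleton_iff]
    exact Subtype.ext (mem_centralizer_singleton_iff.1 (ha.le hj))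
  apply LBal.lbalance (H.cov hv hv1).hyp hS1 hS2 (u := ⟨a, haC⟩) ha.mem hle
  -- `J` is a component of `C_{C_G(v)}(a)`
  set D : Subgroup (Ce v) := centralizer ({(⟨a, haC⟩ : Ce v)} : Set (Ce v)) with hD
  -- the embedding of `D` in `C_G(a)`
  let f : D →* Ce a :=
    { toFun := fun x => ⟨((x : Ce v) : G), by
        rw [mem_centralizer_singleton_iff]
        exact congrArg Subtype.val (mem_centralizer_singleton_iff.1 x.2)⟩
      map_one' := rfl
      map_mul' := fun _ _ => rfl }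
  have hf : Function.Injective f := by
    intro x y hxy
    apply Subtype.ext
    apply Subtype.ext
    exact congrArg (fun z : Ce a => (z : G)) hxy
  have h1 : ((J.subgroupOf (Ce a)).comap f).IsSubnormal := ha.comp.1.comap f
  have h2 : (J.subgroupOf (Ce a)).comap f = (J.subgroupOf (Ce v)).subgroupOf D := rfl
  rw [h2] at h1
  refine ⟨h1, ?_⟩
  have e1 : (J.subgroupOf (Ce v)).subgroupOf D ≃* J.subgroupOf (Ce v) := subgroupOfEquivOfLe hle
  have e2 : J.subgroupOf (Ce v) ≃* J := subgroupOfEquivOfLe hJv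
  have e3 : J.subgroupOf (Ce a) ≃* J := subgroupOfEquivOfLe ha.le
  exact isQuasisimple_of_mulEquiv ((e3.trans e2.symm).trans e1.symm) ha.comp.2

omit [Finite G] in
theorem AJ.le_centralizer {a : G} {J : Subgroup G} (h : AJ A a J) :
    a ∈ centralizer (J : Set G) := by
  rw [mem_centralizer_iff]
  intro j hj
  exact mem_centralizer_singleton_iff.1 (h.le hj)

/-- `J` is determined by `A ∩ J`. -/
theorem IsAJ.unique (H : Hyps A) {J K : Subgroup G} (hJ : IsAJ A J) (hK : IsAJ A K)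
    (hJK : A ⊓ J = A ⊓ K) : J = K := by
  by_contra hne
  have h1 := inf_centralizer_eq H hJ
  have h2 := inf_centralizer_eq H hK
  rw [← hJK, ← h1] at h2
  obtain ⟨a, ha⟩ := hJ
  have haK : a ∈ A ⊓ centralizer (K : Set G) := by
    rw [h2]
    exact ⟨ha.mem, ha.le_centralizer⟩
  have h3 := hK.aj H haK.1 haK.2 ha.ne
  have h4 := ha.comm h3 hne
  obtain ⟨b, hb, hb1⟩ := ha.exists_ne H
  have hbK : b ∈ A ⊓ K := hJK ▸ hb
  exact hb1 (ha.ctr H hb.2 (h4 hbK.2))

/-- generation of `C_G(a)` -/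
theorem exists_mul (H : Hyps A) {a : G} (ha : a ∈ A) (ha1 : a ≠ 1) {c : G} (hc : c ∈ Ce a) :
    ∃ k ∈ (⨆ J : {J : Subgroup G // AJ A a J}, (J : Subgroup G)), ∃ n ∈ normalizer (A : Set G),
      c = k * n := by
  obtain ⟨S, hS1, hS2⟩ := H.exists_sylow ha ha1
  obtain ⟨k, hk, n, hn, hkn⟩ := Generation.generation (H.cov ha ha1).hyp hS1 hS2 ⟨c, hc⟩
  refine ⟨k, ?_, n, ?_, congrArg Subtype.val hkn⟩
  · have h1 : (⨆ J : {J : Subgroup (Ce a) // IsComponent J ∧
        ¬ A.subgroupOf (Ce a) ≤ centralizer (J : Set (Ce a))}, (J : Subgroup (Ce a))) ≤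
        (⨆ J : {J : Subgroup G // AJ A a J}, (J : Subgroup G)).subgroupOf (Ce a) := by
      apply iSup_le
      rintro ⟨J, hJ, hJA⟩
      have e : (J.map (Ce a).subtype).subgroupOf (Ce a) = J := by
        rw [subgroupOf, comap_map_eq_self_of_injective (Ce a).subtype_injective]
      have h2 : AJ A a (J.map (Ce a).subtype) := by
        refine ⟨ha, ha1, map_subtype_le J, ?_, ?_⟩
        · rw [e]; exact hJ
        · intro h3
          apply hJA
          intro x hx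
          rw [mem_centralizer_iff]
          intro k hk
          exact Subtype.ext (mem_centralizer_iff.1 (h3 hx) k ⟨k, hk, rfl⟩)
      exact map_le_iff_le_comap.1
        (le_iSup (fun J : {J : Subgroup G // AJ A a J} => (J : Subgroup G)) ⟨_, h2⟩)
    exact h1 hk
  · apply mem_normalizer_of_forall
    intro x hx
    exact (mem_normalizer_iff.1 hn ⟨x, le_centralizer H.g ha hx⟩).1 hx

end Cfsg.Agent.ThreePrime.TrivCore
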