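import Mathlib
import Cfsg.Agent.ThreePrime.TrivCore

/-!
# The case of trivial cores: a proper subgroup containing all centralizers
-/

set_option autoImplicit false
set_option linter.dupNamespace false

namespace Cfsg.Agent.ThreePrime.TrivCoreEnd

open Subgroup
open scoped commutatorElement
open Cfsg
open Cfsg.Agent.ThreePrime.Chain
open Cfsg.Agent.ThreePrime.GData
open Cfsg.Agent.ThreePrime.Comp
open Cfsg.Agent.ThreePrime.Cov
open Cfsg.Agent.ThreePrime.CovP
open Cfsg.Agent.ThreePrime.Signal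
open Cfsg.Agent.ThreePrime.TrivCore

universe u

variable {G : Type u} [Group G] [Finite G] {A : Subgroup G}

/-- `⟨J : J ∈ 𝒥⟩` -/
def NN (A : Subgroup G) : Subgroup G := ⨆ J : {J : Subgroup G // IsAJ A J}, (J : Subgroup G)

omit [Finite G] in
theorem le_NN {J : Subgroup G} (hJ : IsAJ A J) : J ≤ NN A :=
  le_iSup (fun J : {J : Subgroup G // IsAJ A J} => (J : Subgroup G)) ⟨J, hJ⟩

omit [Finite G] in
theorem NN_le {M : Subgroup G} (h : ∀ J, IsAJ A J → J ≤ M) : NN A ≤ M := by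
  apply iSup_le
  rintro ⟨J, hJ⟩
  exact h J hJ

/-- `M = ⟨𝒥⟩ N_G(A)` contains all the centralizers. -/
theorem Ce_le_MM (H : Hyps A) {a : G} (ha : a ∈ A) (ha1 : a ≠ 1) :
    Ce a ≤ NN A ⊔ normalizer (A : Set G) := by
  intro c hc
  obtain ⟨k, hk, n, hn, rfl⟩ := exists_mul H ha ha1 hc
  refine mul_mem (le_sup_left (b := normalizer (A : Set G)) ?_) (le_sup_right (a := NN A) hn)
  have h1 : (⨆ J : {J : Subgroup G // AJ A a J}, (J : Subgroup G)) ≤ NN A := by
    apply iSup_le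
    rintro ⟨J, hJ⟩
    exact le_NN ⟨a, hJ⟩
  exact h1 hk

theorem normalizer_le_normalizer_NN : normalizer (A : Set G) ≤ normalizer (NN A : Set G) := by
  intro n hn
  apply mem_normalizer_of_forall
  intro x hx
  have h1 : NN A ≤ (NN A).comap (MulAut.conj n).toMonoidHom := by
    apply NN_le
    intro J hJ
    rw [← map_le_iff_le_comap]
    exact le_NN (hJ.conj hn)
  exact h1 hx

/-- fixed points of 2-elements on `A`. -/
theorem exists_fixed (hG : GData A) {s : G} (hs : s ∈ normalizer (A : Set G))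
    (hs2 : ∃ k : ℕ, s ^ 2 ^ k = 1) : ∃ u ∈ A, u ≠ 1 ∧ s * u * s⁻¹ = u := by
  have : Fact (Nat.Prime 2) := ⟨Nat.prime_two⟩
  obtain ⟨k, hk⟩ := hs2
  set φ : MulAut A := A.normalizerMonoidHom ⟨s, hs⟩ with hφ
  have hφk : φ ^ 2 ^ k = 1 := by
    rw [hφ, ← map_pow]
    have : (⟨s, hs⟩ : normalizer (A : Set G)) ^ 2 ^ k = 1 := Subtype.ext hk
    rw [this, map_one]
  have hK : IsPGroup 2 (zpowers φ) := by
    rintro ⟨_, m, rfl⟩
    refine ⟨k, ?_⟩
    apply Subtype.ext
    change (φ ^ m) ^ 2 ^ k = 1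
    rw [← zpow_natCast, ← zpow_mul, mul_comm, zpow_mul, zpow_natCast, hφk, one_zpow]
  have hdvd : 2 ∣ Nat.card A := by
    obtain ⟨n, hn⟩ := IsPGroup.iff_card.1 (isPGroup_of_sq hG.sq)
    have h1 := hG.card
    rw [hn] at h1 ⊢
    rcases n with _ | n
    · simp at h1
    · exact dvd_pow_self 2 (Nat.succ_ne_zero n)
  obtain ⟨b, hb, hb1⟩ := hK.exists_fixed_point_of_prime_dvd_card_of_fixed_point (α := A)
    hdvd (a := 1) (by
      intro k
      exact map_one (k : MulAut A))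
  refine ⟨b, b.2, fun h => hb1 (Subtype.ext h.symm), ?_⟩
  have h1 := hb ⟨φ, mem_zpowers φ⟩
  exact congrArg Subtype.val h1

/-- Two noncommuting components. -/
structure Pair (A J K : Subgroup G) : Prop where
  hJ : IsAJ A J
  hK : IsAJ A K
  nc : ¬ K ≤ centralizer (J : Set G)

variable {J K : Subgroup G}

theorem Pair.all (H : Hyps A) (h : Pair A J K) (hne : J ≠ K) {L : Subgroup G} (hL : IsAJ A L) :
    L = J ∨ L = K := by
  by_contra hcon
  push Not at hcon
  obtain ⟨a, ha⟩ := h.hJ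
  obtain ⟨b, hb⟩ := h.hK
  obtain ⟨c, hc⟩ := hL
  rcases ha.dich H hc with h1 | h1
  · rcases hb.dich H hc with h2 | h2
    · obtain ⟨v, hv, hv1⟩ := hc.exists_ne H
      have h3 := h.hJ.aj H hv.1 (h1.1 hv) hv1
      have h4 := h.hK.aj H hv.1 (h2.1 hv) hv1
      exact h.nc (h3.comm h4 hne)
    · exact hcon.2 (IsAJ.unique H ⟨c, hc⟩ ⟨b, hb⟩ h2.symm)
  · exact hcon.1 (IsAJ.unique H ⟨c, hc⟩ ⟨a, ha⟩ h1.symm)

theorem Pair.le (H : Hyps A) (h : Pair A J K) (hne : J ≠ K) :
    A ⊓ K ≤ centralizer (J : Set G) ∧ A ⊓ J ≤ centralizer (K : Set G) := by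
  obtain ⟨a, ha⟩ := h.hJ
  obtain ⟨b, hb⟩ := h.hK
  rcases ha.dich H hb with h1 | h1
  · exact h1
  · exact absurd (IsAJ.unique H ⟨a, ha⟩ ⟨b, hb⟩ h1) hne

/-- `C_A(J) = A ∩ K`, `C_A(K) = A ∩ J`. -/
theorem Pair.inf_eq (H : Hyps A) (h : Pair A J K) (hne : J ≠ K) :
    A ⊓ centralizer (J : Set G) ≤ K ∧ A ⊓ centralizer (K : Set G) ≤ J := by
  rw [inf_centralizer_eq H h.hJ, inf_centralizer_eq H h.hK]
  constructor
  · apply iSup_le
    rintro ⟨L, hL, hLne⟩
    rcases h.all H hne hL with rfl | rfl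
    · exact absurd rfl hLne
    · exact inf_le_right
  · apply iSup_le
    rintro ⟨L, hL, hLne⟩
    rcases h.all H hne hL with rfl | rfl
    · exact inf_le_right
    · exact absurd rfl hLne

/-- elements of `N_G(A)` fix or swap `J` and `K`. -/
theorem Pair.swap (H : Hyps A) (h : Pair A J K) (hne : J ≠ K) {n : G}
    (hn : n ∈ normalizer (A : Set G)) :
    (cj n J = J ∧ cj n K = K) ∨ (cj n J = K ∧ cj n K = J) := by
  have h3 : cj n J ≠ cj n K := fun he => hne (cj_inj he)
  rcases h.all H hne (h.hJ.conj hn) with h1 | h1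
  · rcases h.all H hne (h.hK.conj hn) with h2 | h2
    · exact absurd (h1.trans h2.symm) h3
    · exact Or.inl ⟨h1, h2⟩
  · rcases h.all H hne (h.hK.conj hn) with h2 | h2
    · exact Or.inr ⟨h1, h2⟩
    · exact absurd (h1.trans h2.symm) h3

theorem Pair.exists_swap (H : Hyps A) (h : Pair A J K) (hne : J ≠ K) :
    ∃ n ∈ normalizer (A : Set G), n ∉ normalizer (J : Set G) := by
  by_contra hcon
  push Not at hcon
  obtain ⟨a, ha⟩ := h.hJ
  obtain ⟨b, hb⟩ := h.hK
  obtain ⟨v, hv, hv1⟩ := ha.exists_ne H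
  have h1 : A ⊓ J = A := by
    apply H.g.irr _ inf_le_left
    · intro hbot
      rw [hbot, mem_bot] at hv
      exact hv1 hv
    · rintro n hn x ⟨hxA, hxJ⟩
      exact ⟨(mem_normalizer_iff.1 hn x).1 hxA, (mem_normalizer_iff.1 (hcon n hn) x).1 hxJ⟩
  obtain ⟨w, hw, hw1⟩ := hb.exists_ne H
  have h2 : w ∈ A ⊓ J := by rw [h1]; exact hw.1
  exact hw1 (ha.ctr H h2.2 ((h.le H hne).1 hw))

/-- index 2 -/
theorem Pair.relIndex (H : Hyps A) (h : Pair A J K) (hne : J ≠ K) {Q : Subgroup G}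
    (hQ : Q ≤ normalizer (A : Set G)) (hQJ : ¬ Q ≤ normalizer (J : Set G)) :
    (Q ⊓ normalizer (J : Set G)).relIndex Q = 2 := by
  obtain ⟨a, haQ, haJ⟩ := Set.not_subset.1 hQJ
  rw [relIndex_eq_two_iff]
  refine ⟨a, haQ, ?_⟩
  intro b hb
  have hab : b * a ∈ Q := mul_mem hb haQ
  have hJa : cj a J = K ∧ cj a K = J := by
    rcases h.swap H hne (hQ haQ) with h1 | h1
    · exact absurd (cj_eq_iff.1 h1.1) haJ
    · exact h1
  rcases h.swap H hne (hQ hb) with h1 | h1
  · right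
    refine ⟨⟨hb, cj_eq_iff.1 h1.1⟩, ?_⟩
    rintro ⟨-, h2⟩
    have h3 := cj_eq_iff.2 h2
    rw [cj_mul, hJa.1, h1.2] at h3
    exact hne h3.symm
  · left
    refine ⟨⟨hab, cj_eq_iff.1 ?_⟩, ?_⟩
    · rw [cj_mul, hJa.1, h1.2]
    · rintro ⟨-, h2⟩
      have h3 := cj_eq_iff.2 h2
      rw [h1.1] at h3
      exact hne h3.symm

/-- There is no such pair, by transfer. -/
theorem Pair.false (H : Hyps A) (h : Pair A J K) (hne : J ≠ K)
    (hidx : ∀ N : Subgroup G, N.index ≠ 2) : False := by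
  classical
  have : Fact (Nat.Prime 2) := ⟨Nat.prime_two⟩
  obtain ⟨S, hAS⟩ := (isPGroup_of_sq H.g.sq).exists_le_sylow
  have hSA : (S : Subgroup G) ≤ normalizer (A : Set G) := by
    intro s hs
    apply mem_normalizer_of_forall
    intro x hx
    exact H.g.sc _ S.isPGroup' hAS x hx s (mul_mem (mul_mem hs (hAS hx)) (inv_mem hs))
  have hSJ : ¬ (S : Subgroup G) ≤ normalizer (J : Set G) := by
    intro hle
    have hNJ : ¬ normalizer (A : Set G) ≤ normalizer (J : Set G) := by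
      obtain ⟨n, hn, hnJ⟩ := h.exists_swap H hne
      exact fun hc => hnJ (hc hn)
    have h1 := h.relIndex H hne le_rfl hNJ
    have h2 : (S : Subgroup G) ≤ normalizer (A : Set G) ⊓ normalizer (J : Set G) := le_inf hSA hle
    have h3 := relIndex_mul_relIndex (S : Subgroup G) _ (normalizer (A : Set G)) h2 inf_le_left
    have h4 := relIndex_mul_index hSA
    apply S.not_dvd_index
    rw [← h4, ← h3, h1]
    exact (Dvd.intro_left _ rfl).mul_right _
  have hidx2 := h.relIndex H hne hSA hSJ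
  set S₀ := (S : Subgroup G) ⊓ normalizer (J : Set G) with hS₀
  -- an element of least order
  obtain ⟨s, ⟨hsS, hsS₀⟩, hmin⟩ : ∃ s ∈ {s : G | s ∈ (S : Subgroup G) ∧ s ∉ S₀},
      ∀ t ∈ {s : G | s ∈ (S : Subgroup G) ∧ s ∉ S₀}, orderOf s ≤ orderOf t := by
    obtain ⟨a, haS, haJ⟩ := Set.not_subset.1 hSJ
    apply Set.exists_min_image _ orderOf (Set.toFinite _)
    exact ⟨a, haS, fun hh => haJ hh.2⟩
  have hsJ : s ∉ normalizer (J : Set G) := fun hh => hsS₀ ⟨hsS, hh⟩
  obtain ⟨g, hg1, hg2⟩ := Transfer.exists_conj S inf_le_left hidx2 hidx hsS hsS₀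
    (fun t ht ht₀ => hmin t ⟨ht, ht₀⟩)
  have hsw : cj s J = K ∧ cj s K = J := by
    rcases h.swap H hne (hSA hsS) with h1 | h1
    · exact absurd (cj_eq_iff.1 h1.1) hsJ
    · exact h1
  obtain ⟨k, hk⟩ := S.isPGroup' ⟨s, hsS⟩
  have hk' : s ^ 2 ^ k = 1 := congrArg Subtype.val hk
  obtain ⟨u, huA, hu1, hsu⟩ := exists_fixed H.g (hSA hsS) ⟨k, hk'⟩
  -- `u` does not centralise `J`
  obtain ⟨a, ha⟩ := h.hJ
  obtain ⟨b, hb⟩ := h.hK
  have huJ : u ∉ centralizer (J : Set G) := by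
    intro hc
    have h1 : u ∈ centralizer (K : Set G) := by
      rw [← hsw.1, ← cj_centralizer, mem_cj]
      have : s⁻¹ * u * s = u := by
        calc s⁻¹ * u * s = s⁻¹ * (s * u * s⁻¹) * s := by rw [hsu]
          _ = u := by group
      rw [this]
      exact hc
    have h2 := (h.inf_eq H hne).2 ⟨huA, h1⟩
    exact hu1 (ha.ctr H h2 hc)
  have huK : u ∉ centralizer (K : Set G) := by
    intro hc
    apply huJ
    rw [← hsw.2, ← cj_centralizer, mem_cj]
    have : s⁻¹ * u * s = u := by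
      calc s⁻¹ * u * s = s⁻¹ * (s * u * s⁻¹) * s := by rw [hsu]
        _ = u := by group
    rw [this]
    exact hc
  have hnone : ∀ L, ¬ AJ A u L := by
    intro L hL
    rcases h.all H hne ⟨u, hL⟩ with rfl | rfl
    · exact huJ hL.le_centralizer
    · exact huK hL.le_centralizer
  have hCu : Ce u ≤ normalizer (A : Set G) := by
    intro c hc
    obtain ⟨k, hk, n, hn, rfl⟩ := exists_mul H huA hu1 hc
    have h1 : (⨆ J : {J : Subgroup G // AJ A u J}, (J : Subgroup G)) ≤ ⊥ := by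
      apply iSup_le
      rintro ⟨L, hL⟩
      exact absurd hL (hnone L)
    have h2 := h1 hk
    rw [mem_bot] at h2
    rw [h2, one_mul]
    exact hn
  -- `g` normalises `A`
  have hus : u * s = s * u := by
    calc u * s = (s * u * s⁻¹) * s := by rw [hsu]
      _ = s * u := by group
  have hguS := hg2 u (hAS huA) hus
  have hguA : g * u * g⁻¹ ∈ A := H.g.sc _ S.isPGroup' hAS u huA g hguS
  obtain ⟨n, hn, hng⟩ := H.g.ctrl u huA g hguA
  have hgn : n⁻¹ * g ∈ Ce u := by
    rw [mem_centralizer_singleton_iff]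
    calc n⁻¹ * g * u = n⁻¹ * (g * u * g⁻¹) * g := by group
      _ = n⁻¹ * (n * u * n⁻¹) * g := by rw [hng]
      _ = u * (n⁻¹ * g) := by group
  have hgA : g ∈ normalizer (A : Set G) := by
    have h1 := mul_mem hn (hCu hgn)
    rwa [mul_inv_cancel_left] at h1
  -- contradiction
  have h1 := cj_eq_iff.2 hg1.2
  have h2 : cj g (cj s (cj g⁻¹ J)) = J := by
    rw [← cj_mul, ← cj_mul]
    exact h1
  rcases h.swap H hne (inv_mem hgA) with h3 | h3
  · rw [h3.1, hsw.1] at h2
    have h4 := congrArg (cj g⁻¹) h2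
    rw [cj_inv_cj, h3.1] at h4
    exact hne h4.symm
  · rw [h3.1, hsw.2] at h2
    have h4 := congrArg (cj g⁻¹) h2
    rw [cj_inv_cj, h3.1] at h4
    exact hne h4

/-- The subgroup `M` is proper. -/
theorem MM_ne_top (H : Hyps A) [IsSimpleGroup G] (hidx : ∀ N : Subgroup G, N.index ≠ 2) :
    NN A ⊔ normalizer (A : Set G) ≠ ⊤ := by
  intro htop
  have hNn : (NN A).Normal := by
    rw [← normalizer_eq_top_iff]
    rw [eq_top_iff, ← htop]
    exact sup_le le_normalizer normalizer_le_normalizer_NN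
  obtain ⟨a, haA, ha1⟩ : ∃ x ∈ A, x ≠ 1 := (bot_or_exists_ne_one A).resolve_left H.g.ne
  rcases IsSimpleGroup.eq_bot_or_eq_top_of_normal _ hNn with h1 | h1
  · rw [h1, bot_sup_eq] at htop
    have hAn : A.Normal := normalizer_eq_top_iff.1 htop
    rcases IsSimpleGroup.eq_bot_or_eq_top_of_normal _ hAn with h2 | h2
    · exact H.g.ne h2
    · apply H.ce a haA ha1
      rw [eq_top_iff, ← h2]
      exact le_centralizer H.g haA
  · by_cases hpair : ∃ J K : Subgroup G, J ≠ K ∧ Pair A J K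
    · obtain ⟨J, K, hne, hp⟩ := hpair
      exact hp.false H hne hidx
    · push Not at hpair
      -- all the components commute
      have hex : ∃ J, IsAJ A J := by
        by_contra hcon
        push Not at hcon
        have h2 : NN A ≤ ⊥ := NN_le fun J hJ => absurd hJ (hcon J)
        rw [h1] at h2
        have h3 : (⊤ : Subgroup G) = ⊥ := le_bot_iff.1 h2
        exact top_ne_bot h3
      obtain ⟨J, hJ⟩ := hex
      have hJn : J.Normal := by
        rw [← normalizer_eq_top_iff, eq_top_iff, ← h1]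
        apply NN_le
        intro K hK
        by_cases hKJ : K = J
        · rw [hKJ]; exact le_normalizer
        · have h2 : K ≤ centralizer (J : Set G) := by
            by_contra hc
            exact hpair J K (fun hh => hKJ hh.symm) ⟨hJ, hK, hc⟩
          exact h2.trans (centralizer_le_normalizer _)
      obtain ⟨b, hb⟩ := hJ
      rcases IsSimpleGroup.eq_bot_or_eq_top_of_normal _ hJn with h2 | h2
      · obtain ⟨v, hv, hv1⟩ := hb.exists_ne H
        have h3 := hv.2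
        rw [h2] at h3
        exact hv1 (mem_bot.1 h3)
      · apply H.ce b hb.mem hb.ne
        rw [eq_top_iff, ← h2]
        exact hb.le

end Cfsg.Agent.ThreePrime.TrivCoreEnd
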