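import Mathlib
import Cfsg.Agent.ThreePrime.TrivCoreEnd

/-!
# A proper subgroup containing the centralizers of all the elements of `A`
-/

set_option autoImplicit false
set_option linter.dupNamespace false

namespace Cfsg.Agent.ThreePrime.Proper

open Subgroup
open Cfsg
open Cfsg.Agent.ThreePrime.GData
open Cfsg.Agent.ThreePrime.Cov
open Cfsg.Agent.ThreePrime.Signal
open Cfsg.Agent.ThreePrime.TrivCore
open Cfsg.Agent.ThreePrime.TrivCoreEnd

universe u

variable {G : Type u} [Group G] [Finite G] {A : Subgroup G}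

omit [Finite G] in
/-- a nonabelian simple group has no central elements. -/
theorem Ce_ne_top [IsSimpleGroup G] (hna : ∃ a b : G, a * b ≠ b * a) {a : G} (ha : a ≠ 1) :
    Ce a ≠ ⊤ := by
  intro htop
  have h2 : a ∈ center G := by
    rw [mem_center_iff]
    intro g
    have h3 : g ∈ Ce a := by rw [htop]; trivial
    exact mem_centralizer_singleton_iff.1 h3
  rcases IsSimpleGroup.eq_bot_or_eq_top_of_normal (center G) inferInstance with h5 | h5
  · rw [h5, mem_bot] at h2
    exact ha h2
  · obtain ⟨x, y, hab⟩ := hna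
    apply hab
    have h6 : y ∈ center G := by rw [h5]; trivial
    exact mem_center_iff.1 h6 x

omit [Finite G] in
/-- a nonabelian simple group has no subgroup of index 2. -/
theorem index_ne_two [IsSimpleGroup G] (hna : ∃ a b : G, a * b ≠ b * a) (N : Subgroup G) :
    N.index ≠ 2 := by
  intro h
  have hN : N.Normal := normal_of_index_eq_two h
  rcases IsSimpleGroup.eq_bot_or_eq_top_of_normal N hN with h5 | h5
  · rw [h5, index_bot] at h
    obtain ⟨x, y, hab⟩ := hna
    have : Fact (Nat.Prime 2) := ⟨Nat.prime_two⟩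
    have hc : IsCyclic G := isCyclic_of_prime_card h
    apply hab
    have := IsCyclic.isMulCommutative (α := G)
    exact this.is_comm.comm x y
  · rw [h5, index_top] at h
    omega

theorem exists_proper [IsSimpleGroup G] (hna : ∃ a b : G, a * b ≠ b * a) (heven : Even (Nat.card G))
    (hIH : IH G) (hG : GData A) (hW : ∃ W, Completion A W) :
    ∃ M : Subgroup G, M ≠ ⊤ ∧ ∀ a ∈ A, a ≠ 1 → Ce a ≤ M := by
  have hce : ∀ a ∈ A, a ≠ 1 → Ce a ≠ ⊤ := fun a _ ha1 => Ce_ne_top hna ha1
  obtain ⟨W, hW⟩ := hW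
  by_cases hW1 : W = ⊥
  · have hcore : ∀ a ∈ A, a ≠ 1 → oddCore (Ce a) = ⊥ := by
      intro a ha ha1
      have h1 := hW.inf a ha ha1
      rw [hW1, bot_inf_eq] at h1
      exact (map_eq_bot_iff_of_injective _ (Ce a).subtype_injective).1 h1.symm
    have H : Hyps A := ⟨hIH, hG, hce, hcore⟩
    exact ⟨_, MM_ne_top H (index_ne_two hna), fun a ha ha1 => Ce_le_MM H ha ha1⟩
  · refine ⟨normalizer (W : Set G), ?_, fun a ha ha1 => Ce_le hIH hG hW ha ha1 (hce a ha ha1)⟩
    intro htop
    have hWn : W.Normal := normalizer_eq_top_iff.1 htop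
    rcases IsSimpleGroup.eq_bot_or_eq_top_of_normal W hWn with h1 | h1
    · exact hW1 h1
    · apply hW.odd
      rw [h1, card_top]
      exact even_iff_two_dvd.1 heven

end Cfsg.Agent.ThreePrime.Proper
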