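import Mathlib
import Cfsg.Agent.S0205
import Cfsg.Agent.S1174
import Cfsg.Agent.SignalizersComponents.SolFunctorTwo
import Cfsg.Agent.StrongEmb.Strong
import Cfsg.Agent.ThreePrime.GDataExists
import Cfsg.Agent.ThreePrime.OrderThree
import Cfsg.Agent.ThreePrime.Proper

/-!
# Nonabelian simple groups of order prime to 3 are Suzuki groups
-/

set_option autoImplicit false

namespace Cfsg.Agent.ThreePrime.Main

open Subgroup
open Cfsg
open Cfsg.Agent.ThreePrime.GData
open Cfsg.Agent.ThreePrime.Cov
open Cfsg.Agent.ThreePrime.Signal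
open Cfsg.Agent.ThreePrime.CoreConj

universe u

theorem even_card {G : Type*} [Group G] [Finite G] [IsSimpleGroup G]
    (hna : ∃ a b : G, a * b ≠ b * a) : Even (Nat.card G) := by
  by_contra hodd
  rw [Nat.not_even_iff_odd] at hodd
  have hsol := Cfsg.Agent.S0205.result hodd
  obtain ⟨a, b, hab⟩ := hna
  exact hab (IsSimpleGroup.comm_iff_isSolvable.2 hsol a b)

/-- The solvable signalizer functor theorem gives the completion `W`. -/
theorem exists_completion {G : Type u} [Group G] [Finite G] [IsSimpleGroup G]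
    (hna : ∃ a b : G, a * b ≠ b * a) (hIH : IH G) {A : Subgroup G} (hG : GData A) :
    ∃ W, Completion A W := by
  obtain ⟨h1, h2, -⟩ := Cfsg.Agent.SignalizersComponents.SolFunctorTwo.solvable_signalizer_functor_two A hG.comm
    (fun a ha => by rw [pow_two]; exact hG.sq a ha) (by simpa using hG.card)
    (fun a => centralizerPPrimeCore 2 a)
    (fun a _ _ => core_le 2 a)
    (fun a _ _ => core_card 2 a)
    (fun a ha _ b hb x hx => (mem_normalizer_iff.1 (core_normalized 2 a
      (le_centralizer hG ha hb)) x).1 hx)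
    (fun a _ _ => by
      apply Cfsg.Agent.S0205.result
      rw [← Nat.not_even_iff_odd, even_iff_two_dvd]
      exact core_card 2 a)
    (fun a ha _ b hb hb1 => balance_G hIH hG ha hb (Proper.Ce_ne_top hna hb1))
  exact ⟨_, h1, rfl, h2⟩

/-- A nonabelian simple group of order prime to 3 all of whose smaller sections are known has a
strongly embedded subgroup. -/
theorem exists_stronglyEmbedded {G : Type u} [Group G] [Finite G] [IsSimpleGroup G]
    (hna : ∃ a b : G, a * b ≠ b * a) (h3 : ¬ 3 ∣ Nat.card G) (hIH : IH G) :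
    ∃ H : Subgroup G, IsStronglyEmbedded H := by
  have heven := even_card hna
  obtain ⟨A, hG⟩ := GDataExists.exists_gdata hna h3 heven
  obtain ⟨M, hM, hCM⟩ := Proper.exists_proper hna heven hIH hG (exists_completion hna hIH hG)
  obtain ⟨S, hAS⟩ := (isPGroup_of_sq hG.sq).exists_le_sylow
  refine Cfsg.Agent.S1174.result S A hG.ne ⟨hAS, fun x hx g hg =>
    hG.sc _ S.isPGroup' hAS x hx g hg⟩ ?_
  intro htop
  apply hM
  rw [eq_top_iff, ← htop]
  apply iSup_le
  rintro ⟨t, ht, hord⟩
  apply hCM t ht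
  rintro rfl
  rw [orderOf_one] at hord
  omega

/-- Induction on the order. -/
theorem isoSuzuki_aux (n : ℕ) : ∀ (G : Type u) [Group G] [Finite G] [IsSimpleGroup G],
    Nat.card G = n → (∃ a b : G, a * b ≠ b * a) → ¬ 3 ∣ Nat.card G → Cfsg.Lie.IsoSuzuki G := by
  induction n using Nat.strong_induction_on with
  | _ n ih =>
    intro G _ _ _ hn hna h3
    have hIH : IH G := by
      intro K _ _ _ hK hK3 hcard
      exact ih (Nat.card K) (hn ▸ hcard) K rfl hK hK3
    obtain ⟨H, hH⟩ := exists_stronglyEmbedded hna h3 hIH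
    rcases Cfsg.Agent.StrongEmb.Strong.result hna H hH with
      ⟨F, _, _, -, ⟨e⟩⟩ | h | ⟨F, _, _, m, hm, hF, ⟨e⟩⟩
    · exact absurd (by rw [Nat.card_congr e.toEquiv]; exact OrderThree.three_dvd_card_psl F) h3
    · exact h
    · refine absurd ?_ h3
      rw [Nat.card_congr e.toEquiv]
      refine OrderThree.three_dvd_card_psu F (2 ^ m) hF ?_
      calc 2 = 2 ^ 1 := (pow_one 2).symm
        _ ≤ 2 ^ m := Nat.pow_le_pow_right (by norm_num) (by omega)

/-- **Theorem.** A nonabelian finite simple group of order prime to 3 is a Suzuki group. -/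
theorem isoSuzuki {G : Type*} [Group G] [Finite G] [IsSimpleGroup G]
    (hna : ∃ a b : G, a * b ≠ b * a) (h3 : ¬ 3 ∣ Nat.card G) : Cfsg.Lie.IsoSuzuki G :=
  isoSuzuki_aux _ G rfl hna h3

/-- Variant with `¬ IsMulCommutative G`. -/
theorem isoSuzuki' {G : Type*} [Group G] [Finite G] [IsSimpleGroup G]
    (hG : ¬ IsMulCommutative G) (h3 : ¬ 3 ∣ Nat.card G) : Cfsg.Lie.IsoSuzuki G := by
  refine isoSuzuki ?_ h3
  by_contra hcon
  push Not at hcon
  exact hG ⟨⟨hcon⟩⟩

end Cfsg.Agent.ThreePrime.Main
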