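import Mathlib
import Cfsg.Prelude.Def_CaseTheorems
import Cfsg.Prelude.Def_Involutions
import Cfsg.Prelude.Def_LieRecognition
import Cfsg.Agent.Lib.Cores
import Cfsg.Agent.Lib.ActCount
import Cfsg.Agent.Lib.ComponentSolvable
import Cfsg.Agent.LieRecognition.SzMatrix
import Cfsg.Agent.OddOrderCharacters.ClassSum
import Cfsg.Agent.TwoFusion.StronglyEmbeddedBasic
import Cfsg.Agent.ThreePrime.AbelianBasic
import Cfsg.Agent.ThreePrime.OrderThree
import Cfsg.Agent.S0205
import Cfsg.Agent.S0222
import Cfsg.Agent.S1136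
import Cfsg.Agent.S1296

/-!
# Groups of order prime to 3 with abelian Sylow 2-subgroups are solvable

Conditional on S0205, S0222, S1136, S1296.
-/

set_option autoImplicit false

namespace Cfsg.Agent.ThreePrime.AbelianSylow

open Subgroup Cfsg
open Cfsg.Agent.ThreePrime.AbelianBasic

/-- The Suzuki groups do not have commutative 2-subgroups only. -/
theorem not_ab2_sz {F : Type*} [Field F] [Fintype F] {m : ℕ} (hm : 1 ≤ m)
    (hF : Fintype.card F = 2 ^ (2 * m + 1)) : ¬ Ab2 (Lie.Sz F (2 ^ (m + 1))) := by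
  intro h
  have H := LieRecognition.SzMatrix.good hF
  have hu : IsPGroup 2 H.unip := by
    rw [IsPGroup.iff_card]
    refine ⟨(2 * m + 1) * 2, ?_⟩
    rw [H.card_unip, Nat.card_eq_fintype_card, hF, pow_mul]
  -- an element other than 0 and 1
  obtain ⟨c, hc0, hc1⟩ : ∃ c : F, c ≠ 0 ∧ c ≠ 1 := by
    by_contra hcon
    push Not at hcon
    have h1 : Fintype.card F ≤ 2 := by
      classical
      have h2 : (Finset.univ : Finset F) ⊆ {0, 1} := by
        intro x _
        by_cases hx : x = 0
        · simp [hx]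
        · simp [hcon x hx]
      calc Fintype.card F = (Finset.univ : Finset F).card := rfl
        _ ≤ ({0, 1} : Finset F).card := Finset.card_le_card h2
        _ ≤ 2 := Finset.card_le_two
    rw [hF] at h1
    have : 2 ^ 3 ≤ 2 ^ (2 * m + 1) := Nat.pow_le_pow_right (by norm_num) (by omega)
    omega
  have h1 := h H.unip hu (H.u 1 0) ⟨1, 0, rfl⟩ (H.u c 0) ⟨c, 0, rfl⟩
  rw [H.u_mul, H.u_mul] at h1
  have h2 := (H.u_inj h1).2
  simp only [add_zero, zero_add, one_mul, map_one, mul_one] at h2
  have h3 := H.sq c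
  rw [h2, h2] at h3
  have h4 : c * (c - 1) = 0 := by linear_combination -h3
  rcases mul_eq_zero.mp h4 with h5 | h5
  · exact hc0 h5
  · exact hc1 (sub_eq_zero.mp h5)

theorem mem_normalizer_of {G : Type*} [Group G] {S : Subgroup G} {g : G}
    (h1 : ∀ s ∈ S, g * s * g⁻¹ ∈ S) (h2 : ∀ s ∈ S, g⁻¹ * s * g ∈ S) :
    g ∈ normalizer (S : Set G) := by
  rw [mem_normalizer_iff]
  intro s
  refine ⟨h1 s, fun h => ?_⟩
  have := h2 _ h
  have h3 : g⁻¹ * (g * s * g⁻¹) * g = s := by group
  rwa [h3] at this

section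

variable {G : Type*} [Group G]

/-- An element of prime power order 2 normalising `S` lies in `S`. -/
theorem mem_sylow_of_orderOf [Finite G] (S : Sylow 2 G) {t : G} (ht : orderOf t = 2)
    (hn : t ∈ normalizer ((S : Subgroup G) : Set G)) : t ∈ (S : Subgroup G) := by
  have hz : IsPGroup 2 (zpowers t) := by
    rw [IsPGroup.iff_card]
    exact ⟨1, by rw [Nat.card_zpowers, ht, pow_one]⟩
  have h2 : t ∈ zpowers t ⊓ normalizer (S : Set G) := ⟨mem_zpowers _, hn⟩
  rw [hz.inf_normalizer_sylow S] at h2
  exact h2.2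

theorem centralizer_le (hchar : IsCharacteristicTwoType G) (hab : Ab2 G) (S : Sylow 2 G)
    {t : G} (ht : t ∈ (S : Subgroup G)) (ht2 : orderOf t = 2) :
    centralizer {t} ≤ normalizer ((S : Subgroup G) : Set G) := by
  set N : Subgroup G := normalizer ((zpowers t : Subgroup G) : Set G) with hN
  have hCN : centralizer {t} ≤ N := by
    have h1 : centralizer ({t} : Set G) = centralizer ((zpowers t : Subgroup G) : Set G) := by
      rw [zpowers_eq_closure, centralizer_closure]
    rw [h1]
    exact centralizer_le_normalizer _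
  have hSC : (S : Subgroup G) ≤ centralizer {t} := by
    intro s hs
    rw [mem_centralizer_singleton_iff]
    exact hab S S.isPGroup' s hs t ht
  have hSN : (S : Subgroup G) ≤ N := hSC.trans hCN
  have hT : IsPGroup 2 (zpowers t) := S.isPGroup'.to_le (by rwa [zpowers_le])
  have hT1 : zpowers t ≠ ⊥ := by
    rw [Ne, zpowers_eq_bot]
    rintro rfl
    simp at ht2
  have hc : centralizer (pCore 2 N : Set N) ≤ pCore 2 N := hchar.2 _ hT hT1
  let S' : Sylow 2 N := S.subtype hSN
  have hS' : (S' : Subgroup N) = (S : Subgroup G).subgroupOf N := rfl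
  have hle : pCore 2 N ≤ (S' : Subgroup N) := Lib.Cores.pCore_le_sylow S'
  have hge : (S' : Subgroup N) ≤ pCore 2 N := by
    refine le_trans ?_ hc
    intro x hx
    rw [mem_centralizer_iff]
    intro y hy
    exact hab.subgroup N S' S'.isPGroup' y (hle hy) x hx
  have heq : (S : Subgroup G).subgroupOf N = pCore 2 N := le_antisymm hge hle
  have hnor : (pCore 2 N).Normal := Lib.Cores.pCore_normal 2
  have hconj : ∀ g ∈ N, ∀ s ∈ (S : Subgroup G), g * s * g⁻¹ ∈ (S : Subgroup G) := by
    intro g hg s hs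
    have h1 : (⟨s, hSN hs⟩ : N) ∈ pCore 2 N := by
      rw [← heq, mem_subgroupOf]
      exact hs
    have h2 := hnor.conj_mem _ h1 ⟨g, hg⟩
    rw [← heq, mem_subgroupOf] at h2
    exact h2
  intro g hg
  have hgN := hCN hg
  refine mem_normalizer_of (hconj g hgN) fun s hs => ?_
  have := hconj g⁻¹ (inv_mem hgN) s hs
  rwa [inv_inv] at this

/-- If the centralisers of the involutions of the commutative Sylow group `S` normalise `S`, then
its normaliser is strongly embedded. -/
theorem stronglyEmbedded [Finite G] (hab : Ab2 G) (S : Sylow 2 G) (hne : normalizer ((S : Subgroup G) : Set G) ≠ ⊤)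
    (heven : 2 ∣ Nat.card G)
    (hcent : ∀ t ∈ (S : Subgroup G), orderOf t = 2 →
      centralizer {t} ≤ normalizer ((S : Subgroup G) : Set G)) :
    IsStronglyEmbedded (normalizer ((S : Subgroup G) : Set G)) := by
  refine ⟨hne, ?_, ?_⟩
  · rw [even_iff_two_dvd]
    exact (S.dvd_card_of_dvd_card heven).trans (card_dvd_of_le le_normalizer)
  · intro g hg
    by_contra hodd
    rw [Nat.not_odd_iff_even, even_iff_two_dvd] at hodd
    obtain ⟨⟨t, htmem⟩, ht⟩ := exists_prime_orderOf_dvd_card' 2 hodd
    rw [Subgroup.orderOf_mk] at ht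
    have htS := mem_sylow_of_orderOf S ht htmem.1
    obtain ⟨u, huM, hut⟩ := htmem.2
    have hut' : g * u * g⁻¹ = t := hut
    have hu2 : orderOf u = 2 := by
      rw [← ht, ← hut']
      exact (orderOf_injective (MulAut.conj g).toMonoidHom (MulAut.conj g).injective u).symm
    have huS := mem_sylow_of_orderOf S hu2 huM
    -- the conjugate of `S` centralises `t`
    have hle : (S : Subgroup G).map (MulAut.conj g).toMonoidHom ≤
        normalizer ((S : Subgroup G) : Set G) := by
      rintro _ ⟨s, hs, rfl⟩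
      apply hcent t htS ht
      rw [mem_centralizer_singleton_iff]
      show g * s * g⁻¹ * t = t * (g * s * g⁻¹)
      rw [← hut']
      have := hab S S.isPGroup' s hs u huS
      calc g * s * g⁻¹ * (g * u * g⁻¹) = g * (s * u) * g⁻¹ := by group
        _ = g * (u * s) * g⁻¹ := by rw [this]
        _ = g * u * g⁻¹ * (g * s * g⁻¹) := by group
    have hp : IsPGroup 2 ((S : Subgroup G).map (MulAut.conj g).toMonoidHom) :=
      S.isPGroup'.map _
    have hle2 : (S : Subgroup G).map (MulAut.conj g).toMonoidHom ≤ (S : Subgroup G) := by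
      have h1 := hp.inf_normalizer_sylow S
      have h2 : (S : Subgroup G).map (MulAut.conj g).toMonoidHom ⊓ normalizer (S : Set G) =
          (S : Subgroup G).map (MulAut.conj g).toMonoidHom := inf_eq_left.mpr hle
      rw [h2] at h1
      exact inf_eq_left.mp h1.symm
    have heq : (S : Subgroup G).map (MulAut.conj g).toMonoidHom = (S : Subgroup G) := by
      apply Subgroup.eq_of_le_of_card_ge hle2
      rw [Subgroup.card_map_of_injective (MulAut.conj g).injective]
    apply hg
    rw [mem_normalizer_iff_map_conj_eq]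
    exact heq

end

/-! ### The rank one set-up in the case of a Suzuki order -/

/-- Elements of `S` fix only the base point. -/
theorem eq_one_of_smul_eq {G : Type*} [Group G] [Finite G] {M : Subgroup G}
    (hM : IsStronglyEmbedded M) {S : Sylow 2 G} (hSM : (S : Subgroup G) ≤ M) {s g : G}
    (hs : s ∈ (S : Subgroup G)) (hg : g ∉ M) (h : s • (g : G ⧸ M) = (g : G ⧸ M)) : s = 1 := by
  by_contra hs1
  have h1 : g⁻¹ * s * g ∈ M := by
    have h2 : ((s * g : G) : G ⧸ M) = (g : G ⧸ M) := h
    have h3 := QuotientGroup.eq.mp h2.symm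
    rwa [← mul_assoc] at h3
  -- `s ∈ M ∩ gMg⁻¹`
  have h2 : s ∈ M ⊓ M.map (MulAut.conj g).toMonoidHom :=
    ⟨hSM hs, ⟨g⁻¹ * s * g, h1, by show g * (g⁻¹ * s * g) * g⁻¹ = s; group⟩⟩
  have h3 := hM.2.2 g hg
  have h4 : orderOf s ∣ Nat.card ↥(M ⊓ M.map (MulAut.conj g).toMonoidHom) := by
    have := orderOf_dvd_natCard (⟨s, h2⟩ : ↥(M ⊓ M.map (MulAut.conj g).toMonoidHom))
    rwa [Subgroup.orderOf_mk] at this
  have h5 : 2 ∣ orderOf s := by
    have := S.isPGroup'.dvd_orderOf (g := ⟨s, hs⟩) (fun h => hs1 (congrArg Subtype.val h))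
    rwa [Subgroup.orderOf_mk] at this
  rw [← Nat.not_even_iff_odd, even_iff_two_dvd] at h3
  exact h3 (h5.trans h4)

/-- The order of `S` divides the number of points other than the base point. -/
theorem card_dvd_index_sub_one {G : Type*} [Group G] [Finite G] {M : Subgroup G}
    (hM : IsStronglyEmbedded M) {S : Sylow 2 G} (hSM : (S : Subgroup G) ≤ M) :
    Nat.card (S : Subgroup G) ∣ M.index - 1 := by
  classical
  have := Fintype.ofFinite (G ⧸ M)
  have h := OddOrderCharacters.ClassSum.card_dvd_of_free (H := (S : Subgroup G)) (X := G ⧸ M)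
    (Finset.univ.erase ((1 : G) : G ⧸ M)) (by
      intro h x hx
      rw [Finset.mem_erase] at hx ⊢
      refine ⟨fun h1 => hx.1 ?_, Finset.mem_univ _⟩
      have h2 : x = (h : G)⁻¹ • ((1 : G) : G ⧸ M) := by
        rw [eq_inv_smul_iff]
        exact h1
      rw [h2]
      show (((h : G)⁻¹ * 1 : G) : G ⧸ M) = ((1 : G) : G ⧸ M)
      rw [QuotientGroup.eq, mul_one, mul_one, inv_inv]
      exact hSM h.2) (by
      intro h x hx h1
      rw [Finset.mem_erase] at hx
      obtain ⟨g, rfl⟩ := QuotientGroup.mk_surjective x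
      have hg : g ∉ M := by
        intro hg
        apply hx.1
        rw [QuotientGroup.eq, mul_one]
        exact inv_mem hg
      exact Subtype.ext (eq_one_of_smul_eq hM hSM h.2 hg h1))
  rw [Finset.card_erase_of_mem (Finset.mem_univ _), Finset.card_univ, ← Nat.card_eq_fintype_card]
    at h
  exact h

/-- If the number of points is `|S| + 1`, then `S` is transitive on the points other than the base
point. -/
theorem exists_smul_eq {G : Type*} [Group G] [Finite G] {M : Subgroup G}
    (hM : IsStronglyEmbedded M) {S : Sylow 2 G} (hSM : (S : Subgroup G) ≤ M)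
    (hidx : M.index = Nat.card (S : Subgroup G) + 1) {x y : G ⧸ M}
    (hx : x ≠ ((1 : G) : G ⧸ M)) (hy : y ≠ ((1 : G) : G ⧸ M)) :
    ∃ s ∈ (S : Subgroup G), s • x = y := by
  classical
  have := Fintype.ofFinite (G ⧸ M)
  have := Fintype.ofFinite (S : Subgroup G)
  have hne : ∀ s ∈ (S : Subgroup G), ∀ z : G ⧸ M, z ≠ ((1 : G) : G ⧸ M) →
      s • z ≠ ((1 : G) : G ⧸ M) := by
    intro s hs z hz h1
    apply hz
    have h2 : z = s⁻¹ • ((1 : G) : G ⧸ M) := by
      rw [eq_inv_smul_iff]
      exact h1
    rw [h2]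
    show ((s⁻¹ * 1 : G) : G ⧸ M) = ((1 : G) : G ⧸ M)
    rw [QuotientGroup.eq, mul_one, mul_one, inv_inv]
    exact hSM hs
  have hinj : Function.Injective
      (fun s : (S : Subgroup G) => (⟨(s : G) • x, hne s s.2 x hx⟩ :
        {z : G ⧸ M // z ≠ ((1 : G) : G ⧸ M)})) := by
    intro s s' h
    have h1 : (s : G) • x = (s' : G) • x := congrArg Subtype.val h
    obtain ⟨g, rfl⟩ := QuotientGroup.mk_surjective x
    have hg : g ∉ M := by
      intro hg
      apply hx
      rw [QuotientGroup.eq, mul_one]
      exact inv_mem hg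
    have h2 : ((s' : G)⁻¹ * (s : G)) • (g : G ⧸ M) = (g : G ⧸ M) := by
      rw [mul_smul, h1, inv_smul_smul]
    have h3 := eq_one_of_smul_eq hM hSM (mul_mem (inv_mem s'.2) s.2) hg h2
    rw [inv_mul_eq_one] at h3
    exact Subtype.ext h3.symm
  have hcard : Fintype.card (S : Subgroup G) =
      Fintype.card {z : G ⧸ M // z ≠ ((1 : G) : G ⧸ M)} := by
    rw [Fintype.card_subtype_compl, Fintype.card_subtype_eq, ← Nat.card_eq_fintype_card,
      ← Nat.card_eq_fintype_card]
    have h1 : Nat.card (G ⧸ M) = Nat.card (S : Subgroup G) + 1 := hidx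
    omega
  have hbij := (Fintype.bijective_iff_injective_and_card _).mpr ⟨hinj, hcard⟩
  obtain ⟨s, hs⟩ := hbij.2 ⟨y, hy⟩
  exact ⟨s, s.2, congrArg Subtype.val hs⟩

/-- The rank one set-up. -/
theorem rankOneSetup {G : Type*} [Group G] [Finite G] {M : Subgroup G}
    (hM : IsStronglyEmbedded M) {S : Sylow 2 G} (hMS : M = normalizer ((S : Subgroup G) : Set G))
    (hidx : M.index = Nat.card (S : Subgroup G) + 1) :
    ∃ t : G, IsRankOneSetup G (G ⧸ M) ((1 : G) : G ⧸ M) t (S : Subgroup G) := by
  have hSM : (S : Subgroup G) ≤ M := by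
    rw [hMS]; exact le_normalizer
  obtain ⟨t, ht, htM⟩ : ∃ t : G, orderOf t = 2 ∧ t ∉ M := by
    obtain ⟨t, ht1, ht2⟩ := TwoFusion.StronglyEmbeddedBasic.exists_involution_notMem hM
    exact ⟨t, ht2, ht1⟩
  have hst : MulAction.stabilizer G ((1 : G) : G ⧸ M) = M := MulAction.stabilizer_quotient M
  have hta : t • ((1 : G) : G ⧸ M) ≠ ((1 : G) : G ⧸ M) := by
    intro h
    apply htM
    rw [← hst]
    exact h
  have hst2 : MulAction.stabilizer G (t • ((1 : G) : G ⧸ M)) =
      M.map (MulAut.conj t).toMonoidHom := by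
    rw [MulAction.stabilizer_smul_eq_stabilizer_map_conj, hst]
  refine ⟨t, ?_, ?_, ?_, ?_, ?_, ?_, ?_, ?_, ?_, ?_⟩
  · rw [MulAction.is_two_pretransitive_iff]
    intro a b c d hab hcd
    obtain ⟨g1, h1⟩ := MulAction.exists_smul_eq G a ((1 : G) : G ⧸ M)
    obtain ⟨g2, h2⟩ := MulAction.exists_smul_eq G c ((1 : G) : G ⧸ M)
    have hb : g1 • b ≠ ((1 : G) : G ⧸ M) := by
      rw [← h1]
      intro h
      exact hab (smul_left_cancel g1 h).symm
    have hd : g2 • d ≠ ((1 : G) : G ⧸ M) := by
      rw [← h2]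
      intro h
      exact hcd (smul_left_cancel g2 h).symm
    obtain ⟨s, hs, hsb⟩ := exists_smul_eq hM hSM hidx hb hd
    refine ⟨g2⁻¹ * s * g1, ?_, ?_⟩
    · rw [mul_smul, mul_smul, h1, inv_smul_eq_iff, h2]
      have : s ∈ MulAction.stabilizer G ((1 : G) : G ⧸ M) := by
        rw [hst]; exact hSM hs
      exact this
    · rw [mul_smul, mul_smul, hsb, inv_smul_smul]
  · rw [← pow_two, ← ht, pow_orderOf_eq_one]
  · rintro rfl
    simp at ht
  · exact hta
  · rw [hst]; exact hSM
  · rw [hst, hMS]
    intro h hh x hx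
    exact (mem_normalizer_iff.mp hh x).mp hx
  · rw [eq_bot_iff]
    rintro s ⟨hs, hs2⟩
    rw [mem_bot]
    refine eq_one_of_smul_eq hM hSM hs htM ?_
    have h1 : s • (t • ((1 : G) : G ⧸ M)) = t • ((1 : G) : G ⧸ M) := hs2
    have h2 : t • ((1 : G) : G ⧸ M) = ((t : G) : G ⧸ M) := by
      show ((t * 1 : G) : G ⧸ M) = _
      rw [mul_one]
    rwa [h2] at h1
  · apply le_antisymm
    · refine sup_le (by rw [hst]; exact hSM) inf_le_left
    · intro h hh
      have h1 : h • (t • ((1 : G) : G ⧸ M)) ≠ ((1 : G) : G ⧸ M) := by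
        intro h2
        apply hta
        have h3 : h • ((1 : G) : G ⧸ M) = ((1 : G) : G ⧸ M) := hh
        exact smul_left_cancel h (h2.trans h3.symm)
      obtain ⟨s, hs, hsb⟩ := exists_smul_eq hM hSM hidx hta h1
      have h4 : s⁻¹ * h ∈ MulAction.stabilizer G ((1 : G) : G ⧸ M) ⊓
          MulAction.stabilizer G (t • ((1 : G) : G ⧸ M)) := by
        refine ⟨?_, ?_⟩
        · have h6 : s ∈ MulAction.stabilizer G ((1 : G) : G ⧸ M) := by
            rw [hst]; exact hSM hs
          exact (MulAction.stabilizer G ((1 : G) : G ⧸ M)).mul_mem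
            ((MulAction.stabilizer G ((1 : G) : G ⧸ M)).inv_mem h6) hh
        · show (s⁻¹ * h) • (t • ((1 : G) : G ⧸ M)) = _
          rw [mul_smul, ← hsb, inv_smul_smul]
      have h5 : h = s * (s⁻¹ * h) := by group
      rw [h5]
      exact mul_mem_sup hs h4
  · rw [even_iff_two_dvd]
    refine S.dvd_card_of_dvd_card ?_
    rw [← ht]
    exact orderOf_dvd_natCard t
  · rw [hst, hst2]
    exact hM.2.2 t htM

/-- Arithmetic of the Suzuki orders. -/
theorem index_eq_of_order {s k n q : ℕ} (hq : 2 ≤ q) (hs : s = q ^ 2) (hk : 0 < k) (hn : 1 < n)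
    (hdvd : s ∣ n - 1) (h : n * (s * k) = q ^ 2 * (q ^ 2 + 1) * (q - 1)) : n = s + 1 := by
  subst hs
  have hq2 : 0 < q ^ 2 := by positivity
  have h1 : n * k = (q ^ 2 + 1) * (q - 1) := by
    have h2 : q ^ 2 * (n * k) = q ^ 2 * ((q ^ 2 + 1) * (q - 1)) := by
      calc q ^ 2 * (n * k) = n * (q ^ 2 * k) := by ring
        _ = q ^ 2 * (q ^ 2 + 1) * (q - 1) := h
        _ = q ^ 2 * ((q ^ 2 + 1) * (q - 1)) := by ring
    exact Nat.eq_of_mul_eq_mul_left hq2 h2
  obtain ⟨c, hc⟩ := hdvd
  have hn' : n = q ^ 2 * c + 1 := by omega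
  have hc0 : 0 < c := by
    rcases Nat.eq_zero_or_pos c with h0 | h0
    · subst h0
      rw [mul_zero] at hn'
      omega
    · exact h0
  obtain ⟨p, rfl⟩ : ∃ p, q = p + 1 := ⟨q - 1, by omega⟩
  simp only [Nat.add_sub_cancel] at h1
  subst hn'
  -- `k ≡ p` modulo `q ^ 2`
  have hmod : k ≡ p [MOD (p + 1) ^ 2] := by
    have h2 : ((p + 1) ^ 2 * c + 1) * k ≡ k [MOD (p + 1) ^ 2] := by
      have : ((p + 1) ^ 2 * c + 1) * k = k + (p + 1) ^ 2 * (c * k) := by ring
      rw [this]
      exact (Nat.modEq_iff_dvd' (by omega)).mpr (by simp) |>.symm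
    have h3 : ((p + 1) ^ 2 + 1) * p ≡ p [MOD (p + 1) ^ 2] := by
      have : ((p + 1) ^ 2 + 1) * p = p + (p + 1) ^ 2 * p := by ring
      rw [this]
      exact (Nat.modEq_iff_dvd' (by omega)).mpr (by simp) |>.symm
    exact h2.symm.trans (by rw [h1]; exact h3)
  have hkp : p ≤ k := by
    by_contra hlt
    push Not at hlt
    have h4 := (Nat.modEq_iff_dvd' hlt.le).mp hmod
    have h5 := Nat.le_of_dvd (by omega) h4
    have h6 : p - k ≤ p := Nat.sub_le p k
    nlinarith
  -- hence `c = 1`
  by_contra hne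
  have hc2 : 2 ≤ c := by
    rcases Nat.lt_or_ge c 2 with h6 | h6
    · exfalso
      apply hne
      have : c = 1 := by omega
      subst this
      ring
    · exact h6
  have h7 : ((p + 1) ^ 2 * 2 + 1) * p ≤ ((p + 1) ^ 2 * c + 1) * k :=
    Nat.mul_le_mul (by nlinarith) hkp
  rw [h1] at h7
  have hp : 0 < p := by omega
  have h8 : (p + 1) ^ 2 * 2 + 1 ≤ (p + 1) ^ 2 + 1 := Nat.le_of_mul_le_mul_right h7 hp
  nlinarith

/-- In a simple group of Suzuki order a Sylow 2-subgroup has order `q ^ 2`. -/
theorem card_sylow_of_order {G : Type*} [Group G] [Finite G] (S : Sylow 2 G) {m : ℕ}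
    (hG : Nat.card G = (2 ^ (2 * m + 1)) ^ 2 * ((2 ^ (2 * m + 1)) ^ 2 + 1) * (2 ^ (2 * m + 1) - 1)) :
    Nat.card (S : Subgroup G) = (2 ^ (2 * m + 1)) ^ 2 := by
  obtain ⟨n, hn⟩ := S.isPGroup'.exists_card_eq
  have h1 := (S : Subgroup G).card_mul_index
  have hodd : ¬ 2 ∣ (S : Subgroup G).index := S.not_dvd_index
  have heven : 2 ∣ 2 ^ (2 * m + 1) := dvd_pow_self 2 (by omega)
  have hodd2 : Nat.Coprime (((2 ^ (2 * m + 1)) ^ 2 + 1) * (2 ^ (2 * m + 1) - 1)) 2 := by
    refine Nat.Coprime.mul_left ?_ ?_
    · rw [Nat.coprime_two_right]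
      exact (((even_iff_two_dvd.mpr heven).pow_of_ne_zero (by norm_num))).add_one
    · rw [Nat.coprime_two_right]
      exact Nat.Even.sub_odd Nat.one_le_two_pow (even_iff_two_dvd.mpr heven) odd_one
  rw [hn]
  rw [hn, hG] at h1
  apply Nat.dvd_antisymm
  · have h2 : 2 ^ n ∣ (2 ^ (2 * m + 1)) ^ 2 * (((2 ^ (2 * m + 1)) ^ 2 + 1) * (2 ^ (2 * m + 1) - 1)) := by
      rw [← mul_assoc, ← h1]
      exact dvd_mul_right _ _
    exact Nat.Coprime.dvd_of_dvd_mul_right (hodd2.symm.pow_left n) h2
  · have h2 : (2 ^ (2 * m + 1)) ^ 2 ∣ 2 ^ n * (S : Subgroup G).index := by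
      rw [h1, mul_assoc]
      exact dvd_mul_right _ _
    refine Nat.Coprime.dvd_of_dvd_mul_right ?_ h2
    rw [← pow_mul]
    exact Nat.Coprime.pow_left _ ((Nat.Prime.coprime_iff_not_dvd Nat.prime_two).mpr hodd)

universe u

/-- A simple group of order prime to 3 with commutative Sylow 2-subgroups and a strongly embedded
normaliser of a Sylow 2-subgroup does not exist. -/
theorem false_of_stronglyEmbedded {G : Type u} [Group G] [Finite G] [IsSimpleGroup G]
    (hna : ∃ a b : G, a * b ≠ b * a) (h3 : ¬ 3 ∣ Nat.card G) (hab : Ab2 G) (S : Sylow 2 G)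
    (hrank : ¬ PRankLE 2 2 G)
    (hM : IsStronglyEmbedded (normalizer ((S : Subgroup G) : Set G))) : False := by
  rcases S0222.result hna _ hM with ⟨F, _, _, -, -, ⟨e⟩⟩ | hsz | ⟨F, _, _, q, hq, -, hq4, ⟨e⟩⟩
  · apply h3
    rw [Nat.card_congr e.toEquiv]
    exact OrderThree.three_dvd_card_psl F
  · obtain ⟨-, m, hm, hcard⟩ := hsz
    set M : Subgroup G := normalizer ((S : Subgroup G) : Set G) with hMdef
    have hSM : (S : Subgroup G) ≤ M := le_normalizer
    have hcS := card_sylow_of_order S hcard
    have hidx : M.index = Nat.card (S : Subgroup G) + 1 := by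
      refine index_eq_of_order (q := 2 ^ (2 * m + 1)) (k := (S : Subgroup G).relIndex M) ?_ hcS ?_ ?_
        (card_dvd_index_sub_one hM hSM) ?_
      · exact le_trans (by norm_num) (Nat.pow_le_pow_right (n := 2) (by norm_num)
          (by omega : 1 ≤ 2 * m + 1))
      · exact Nat.pos_of_ne_zero
          (Subgroup.index_ne_zero_of_finite (H := (S : Subgroup G).subgroupOf M))
      · exact Subgroup.one_lt_index_of_ne_top hM.1
      · have h4 : Nat.card (S : Subgroup G) * (S : Subgroup G).relIndex M = Nat.card M := by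
          rw [← Nat.card_congr (subgroupOfEquivOfLe hSM).toEquiv]
          exact Subgroup.card_mul_index _
        rw [h4, mul_comm, Subgroup.card_mul_index, hcard]
    obtain ⟨t, hsetup⟩ := rankOneSetup hM hMdef hidx
    have hfaith : FaithfulSMul G (G ⧸ M) := by
      have hcore : M.normalCore = ⊥ := by
        rcases (inferInstance : M.normalCore.Normal).eq_bot_or_eq_top with h | h
        · exact h
        · exact absurd (top_le_iff.mp (h ▸ M.normalCore_le)) hM.1
      refine ⟨fun {a b} hab' => ?_⟩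
      have h5 : a⁻¹ * b ∈ M.normalCore := by
        rw [Subgroup.normalCore_eq_ker, MonoidHom.mem_ker]
        ext x
        show (a⁻¹ * b) • x = x
        rw [mul_smul, ← hab' x, inv_smul_smul]
      rw [hcore, mem_bot, inv_mul_eq_one] at h5
      exact h5
    have h2 : ∃ x y : G, x ≠ 1 ∧ y ≠ 1 ∧ x ≠ y ∧ x * x = 1 ∧ y * y = 1 ∧ x * y = y * x := by
      unfold PRankLE at hrank
      push Not at hrank
      obtain ⟨A, hA, hA2, hAc⟩ := hrank
      have hcomm : ∀ x ∈ A, ∀ y ∈ A, x * y = y * x := fun x hx y hy =>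
        congrArg Subtype.val (hA.is_comm.comm (⟨x, hx⟩ : A) ⟨y, hy⟩)
      have hAbot : A ≠ ⊥ := by
        rintro rfl
        rw [Subgroup.card_bot] at hAc
        omega
      obtain ⟨x, hx, hx1⟩ := (Subgroup.ne_bot_iff_exists_ne_one).mp hAbot |>.imp fun x hx => by
        exact (⟨x.2, fun h => hx (Subtype.ext h)⟩ : (x : G) ∈ A ∧ (x : G) ≠ 1)
      obtain ⟨y, hy, hy1, hxy⟩ : ∃ y ∈ A, y ≠ 1 ∧ (x : G) ≠ y := by
        by_contra hcon
        push Not at hcon
        have h6 : (A : Set G) ⊆ {1, (x : G)} := by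
          intro y hy
          by_cases hy1 : y = 1
          · exact Or.inl hy1
          · exact Or.inr (hcon y hy hy1).symm
        have h7 := Set.ncard_le_ncard h6 (Set.toFinite _)
        have h8 := Set.ncard_insert_le (1 : G) {(x : G)}
        rw [Set.ncard_singleton] at h8
        have h9 : (A : Set G).ncard = Nat.card A := rfl
        omega
      exact ⟨x, y, hx1, hy1, hxy, by rw [← pow_two]; exact hA2 _ hx,
        by rw [← pow_two]; exact hA2 _ hy, hcomm _ hx _ hy⟩
    obtain ⟨L, hLn, hLo, hL⟩ := S1136.result hsetup h2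
    have hLtop : L = ⊤ := by
      rcases hLn.eq_bot_or_eq_top with h | h
      · exfalso
        rw [h, Subgroup.index_bot, ← Nat.not_even_iff_odd] at hLo
        exact hLo ((even_iff_two_dvd.mp hsetup.even_card).trans (card_subgroup_dvd_card _) |>
          even_iff_two_dvd.mpr)
      · exact h
    subst hLtop
    rcases hL with ⟨F, _, _, -, ⟨e⟩⟩ | hsz | ⟨F, _, _, n, hn, hF, ⟨e⟩⟩
    · apply h3
      rw [← Nat.card_congr (topEquiv (G := G)).toEquiv, Nat.card_congr e.toEquiv]
      exact OrderThree.three_dvd_card_psl F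
    · obtain ⟨F, _, _, m', hm', hF, ⟨e⟩⟩ := hsz
      exact not_ab2_sz hm' hF ((hab.of_mulEquiv topEquiv.symm).of_mulEquiv e)
    · apply h3
      rw [← Nat.card_congr (topEquiv (G := G)).toEquiv, Nat.card_congr e.toEquiv]
      exact OrderThree.three_dvd_card_psu F _ hF
        (le_trans (by norm_num) (Nat.pow_le_pow_right (n := 2) (by norm_num)
          (by omega : 1 ≤ n)))
  · apply h3
    rw [Nat.card_congr e.toEquiv]
    exact OrderThree.three_dvd_card_psu F q hq (by omega)

theorem solvable_aux (n : ℕ) : ∀ {G : Type u} [Group G] [Finite G], Nat.card G = n →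
    ¬ 3 ∣ Nat.card G → Ab2 G → Group.IsSolvable G := by
  induction n using Nat.strong_induction_on with
  | _ n ih =>
    intro G _ _ hn h3 hab
    subst hn
    by_contra hns
    -- proper subgroups are solvable
    have hsub : ∀ H : Subgroup G, H ≠ ⊤ → Group.IsSolvable H := by
      intro H hH
      refine ih (Nat.card H) ?_ rfl (fun h => h3 (h.trans (card_subgroup_dvd_card H)))
        (hab.subgroup H)
      exact lt_of_le_of_ne (card_le_card_group H) (fun h => hH (eq_top_of_card_eq H h))
    have hnt : Nontrivial G := by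
      by_contra h
      rw [not_nontrivial_iff_subsingleton] at h
      exact hns inferInstance
    -- `G` is simple
    have hsimple : IsSimpleGroup G := by
      refine ⟨fun N hN => ?_⟩
      by_contra hcon
      push Not at hcon
      obtain ⟨hN1, hN2⟩ := hcon
      apply hns
      have h1 : Group.IsSolvable N := hsub N hN2
      have h2 : Group.IsSolvable (G ⧸ N) := by
        refine ih (Nat.card (G ⧸ N)) ?_ rfl
          (fun h => h3 (h.trans (card_quotient_dvd_card N))) (hab.quotient N)
        have h4 : Nat.card (G ⧸ N) * Nat.card N = Nat.card G := by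
          rw [mul_comm]; exact N.card_mul_index
        have h5 : 1 < Nat.card N := by
          rw [Subgroup.one_lt_card_iff_ne_bot]
          exact hN1
        have h6 : 0 < Nat.card (G ⧸ N) := Nat.card_pos
        nlinarith
      exact Group.isSolvable_of_ker_le_range (N.subtype) (QuotientGroup.mk' N)
        (by rw [QuotientGroup.ker_mk', Subgroup.range_subtype])
    have hna : ∃ a b : G, a * b ≠ b * a := by
      by_contra hcon
      push Not at hcon
      exact hns (Group.isSolvable_of_comm hcon)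
    have hcenter : ∀ t : G, t ≠ 1 → centralizer {t} ≠ ⊤ := by
      intro t ht htop
      have h1 : t ∈ center G := by
        rw [mem_center_iff]
        intro g
        have : g ∈ centralizer {t} := by rw [htop]; exact mem_top g
        exact mem_centralizer_singleton_iff.mp this
      rcases (inferInstance : (center G).Normal).eq_bot_or_eq_top with h | h
      · rw [h, mem_bot] at h1
        exact ht h1
      · obtain ⟨a, b, hab'⟩ := hna
        apply hab'
        have : b ∈ center G := by rw [h]; exact mem_top b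
        exact mem_center_iff.mp this a
    have heven : 2 ∣ Nat.card G := by
      by_contra hodd
      apply hns
      apply S0205.result
      rw [← Nat.not_even_iff_odd, even_iff_two_dvd]
      exact hodd
    obtain ⟨S⟩ := (inferInstance : Nonempty (Sylow 2 G))
    have hS : ∀ x ∈ (S : Subgroup G), ∀ y ∈ (S : Subgroup G), x * y = y * x :=
      hab S S.isPGroup'
    have hSne : (S : Subgroup G) ≠ ⊥ := by
      intro h
      have := S.dvd_card_of_dvd_card heven
      rw [h, Subgroup.card_bot] at this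
      omega
    have hStop : (S : Subgroup G) ≠ ⊤ := by
      intro h
      obtain ⟨a, b, hab'⟩ := hna
      exact hab' (hS a (h ▸ mem_top a) b (h ▸ mem_top b))
    have hrank : ¬ PRankLE 2 2 G := by
      intro hrank
      obtain ⟨N, hN, hc⟩ := exists_normal_complement S hS h3 hrank
      rcases hN.eq_bot_or_eq_top with h | h
      · subst h
        apply hStop
        exact isComplement'_bot_left.mp hc
      · subst h
        apply hSne
        exact isComplement'_top_left.mp hc
    have hchar : IsCharacteristicTwoType G := by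
      rcases S1296.result (even_iff_two_dvd.mpr heven) (by
        intro N hN hi
        rcases hN.eq_bot_or_eq_top with h | h
        · rw [h, Subgroup.index_bot] at hi
          exact hns (by
            have hp2 : IsPGroup 2 (⊤ : Subgroup G) := by
              rw [IsPGroup.iff_card]
              exact ⟨1, by rw [Subgroup.card_top, hi, pow_one]⟩
            exact Group.isSolvable_of_comm fun a b => hab ⊤ hp2 a (mem_top a) b (mem_top b))
        · rw [h, Subgroup.index_top] at hi
          omega) (by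
        have hnor : (oddCore G).Normal := Lib.Cores.pPrimeCore_normal 2
        rcases hnor.eq_bot_or_eq_top with h | h
        · exact h
        · exfalso
          have hco : (Nat.card (oddCore G)).Coprime 2 := Lib.Cores.pPrimeCore_coprime 2
          rw [h, Subgroup.card_top] at hco
          exact Nat.two_dvd_ne_zero.mpr (Nat.odd_iff.mp (Nat.coprime_two_right.mp hco)) heven) with h | h | h
      · exact absurd h hrank
      · exfalso
        obtain ⟨t, ht, K, hK, hq⟩ := h
        have h1 : Group.IsSolvable (centralizer ({t} : Set G)) :=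
          hsub _ (hcenter t (by rintro rfl; simp at ht))
        exact Lib.ComponentSolvable.quasisimple_not_solvable hq inferInstance
      · exact h
    have hne : normalizer ((S : Subgroup G) : Set G) ≠ ⊤ := by
      intro h
      have hnor : (S : Subgroup G).Normal := normalizer_eq_top_iff.mp h
      rcases hnor.eq_bot_or_eq_top with h | h
      · exact hSne h
      · exact hStop h
    exact false_of_stronglyEmbedded hna h3 hab S hrank
      (stronglyEmbedded hab S hne heven fun t ht ht2 => centralizer_le hchar hab S ht ht2)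

/-- A finite group of order prime to 3 with commutative Sylow 2-subgroups is solvable. -/
theorem isSolvable {G : Type u} [Group G] [Finite G] (h3 : ¬ 3 ∣ Nat.card G) (hab : Ab2 G) :
    Group.IsSolvable G :=
  solvable_aux _ rfl h3 hab

end Cfsg.Agent.ThreePrime.AbelianSylow
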